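import Cfsg.Agent.TypeO8Plus.FuKappa

/-!
# `Ω₈⁺(2)`: the structure of `C_G(z)` and of `MM` (helper73)

(CS4)-(CS6) of the blueprint, with (CS3) as hypothesis
`hcs3 : ∀ c ∈ Subgroup.centralizer {z}, ∃ n ∈ C0 Q E, ∃ π, IsPerm E π (n * c)`.
-/

set_option autoImplicit false

namespace Cfsg.Agent.TypeO8Plus.CNorm

open Cfsg.Agent.Co2Type.Quad Cfsg.Agent.LargeExtra.Base Cfsg.Agent.LargeExtra.Nine
open Cfsg.Agent.LargeExtra.KillNine.Codes Cfsg.Agent.TypeO8Plus Cfsg.Agent.TypeO8Plus.Code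
open Cfsg.Agent.TypeO8Plus.FuBase Cfsg.Agent.TypeO8Plus.FuKappa

variable {G : Type*} [Group G]

/-! ### `IsPerm` -/

section perm

variable {E : El G}

theorem conj_mul' {t u b c d : G} (h1 : u * b * u⁻¹ = c) (h2 : t * c * t⁻¹ = d) :
    (t * u) * b * (t * u)⁻¹ = d := by
  rw [← h2, ← h1]; group

theorem conj_inv' {t b c : G} (h : t * b * t⁻¹ = c) : t⁻¹ * c * (t⁻¹)⁻¹ = b := by
  rw [← h]; group

theorem perm_apply_inv (π : Equiv.Perm (Fin 3)) (i : Fin 3) : π (π⁻¹ i) = i := π.apply_symm_apply i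

theorem isPerm_one : IsPerm E 1 1 where
  z := by group
  a := by group
  e := by group
  s := by group
  h i := by rw [Equiv.Perm.one_apply]; group
  p i := by rw [Equiv.Perm.one_apply]; group
  x i := by rw [Equiv.Perm.one_apply]; group
  w i := by rw [Equiv.Perm.one_apply]; group

theorem isPerm_mul {π σ : Equiv.Perm (Fin 3)} {t u : G} (ht : IsPerm E π t) (hu : IsPerm E σ u) :
    IsPerm E (π * σ) (t * u) where
  z := conj_mul' hu.z ht.z
  a := conj_mul' hu.a ht.a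
  e := conj_mul' hu.e ht.e
  s := conj_mul' hu.s ht.s
  h i := conj_mul' (hu.h i) (ht.h _)
  p i := conj_mul' (hu.p i) (ht.p _)
  x i := conj_mul' (hu.x i) (ht.x _)
  w i := conj_mul' (hu.w i) (ht.w _)

theorem isPerm_inv {π : Equiv.Perm (Fin 3)} {t : G} (ht : IsPerm E π t) : IsPerm E π⁻¹ t⁻¹ where
  z := conj_inv' ht.z
  a := conj_inv' ht.a
  e := conj_inv' ht.e
  s := conj_inv' ht.s
  h i := conj_inv' (by rw [ht.h, perm_apply_inv])
  p i := conj_inv' (by rw [ht.p, perm_apply_inv])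
  x i := conj_inv' (by rw [ht.x, perm_apply_inv])
  w i := conj_inv' (by rw [ht.w, perm_apply_inv])

end perm

/-! ### matrices -/

theorem vec_ap_eq {Q : Subgroup G} {z : G} {h : Large Q z} {φ : Coord h} {c : G} {L M : List ℕ} (h1 : Mt φ c L) (h2 : Mt φ c M) (n : ℕ) :
    vec (ap L n) = vec (ap M n) := by
  obtain ⟨k1, k2⟩ := h1
  obtain ⟨k3, k4⟩ := h2
  have e1 := k2 (φ.e.symm (vec n))
  have e2 := k4 (φ.e.symm (vec n))
  rw [e1, LinearEquiv.apply_symm_apply, lin_vec, lin_vec] at e2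
  exact e2

theorem ap_lt : ∀ a b c : Equiv.Perm (Fin 3), ∀ k : Fin 8, ap (mat ![a, b, c]) (2 ^ (k : ℕ)) < 256 := by
  decide +kernel

theorem apP_lt : ∀ π : Equiv.Perm (Fin 3), ∀ k : Fin 8, ap (mP π) (2 ^ (k : ℕ)) < 256 := by
  decide +kernel

theorem ap_eq : ∀ a b c π : Equiv.Perm (Fin 3),
    (∀ k : Fin 8, ap (mat ![a, b, c]) (2 ^ (k : ℕ)) = ap (mP π) (2 ^ (k : ℕ))) →
    π = 1 ∧ a = 1 ∧ b = 1 ∧ c = 1 := by
  decide +kernel

theorem mt_eq {Q : Subgroup G} {z : G} {h : Large Q z} {φ : Coord h} {c : G} {f : Fin 3 → Equiv.Perm (Fin 3)} {π : Equiv.Perm (Fin 3)} (h1 : Mt φ c (mat f))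
    (h2 : Mt φ c (mP π)) : π = 1 ∧ f = 1 := by
  rw [vec3 f] at h1
  have h3 : ∀ k : Fin 8, ap (mat ![f 0, f 1, f 2]) (2 ^ (k : ℕ)) = ap (mP π) (2 ^ (k : ℕ)) := fun k =>
    vec_inj _ (ap_lt _ _ _ k) _ (apP_lt _ k) (vec_ap_eq h1 h2 _)
  obtain ⟨h4, h5, h6, h7⟩ := ap_eq _ _ _ _ h3
  refine ⟨h4, ?_⟩
  rw [vec3 f, h5, h6, h7]
  funext i; fin_cases i <;> rfl

/-- multiplication by an element of `Q` does not change the matrix -/
theorem q_mul {Q : Subgroup G} {z : G} {h : Large Q z} {φ : Coord h} {q c : G} {L : List ℕ} (hq : q ∈ Q) (hc : Mt φ c L) : Mt φ (q * c) L := by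
  obtain ⟨h1, h2⟩ := hc
  have h3 : q ∈ Subgroup.centralizer ({z} : Set G) :=
    Subgroup.mem_centralizer_singleton_iff.2 (h.comm_z q hq)
  refine ⟨mul_mem h3 h1, ?_⟩
  have e : (⟨q * c, mul_mem h3 h1⟩ : Subgroup.centralizer ({z} : Set G)) = ⟨q, h3⟩ * ⟨c, h1⟩ := rfl
  rw [e, map_mul, h.act_mem ⟨q, h3⟩ hq, one_mul]
  exact h2


variable {Q A : Subgroup G} {z a : G} {p : Pair Q z A a} {φ : Coord p.lz} {E : El G}

theorem perm_mem (F : Frame p φ E) {π : Equiv.Perm (Fin 3)} {t : G} (ht : IsPerm E π t) : t * z = z * t := by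
  have h := ht.z
  rw [F.z] at h
  exact mul_inv_eq_iff_eq_mul.1 h

theorem C0_le_G0 (Q : Subgroup G) (E : El G) : C0 Q E ≤ G0 Q E := le_sup_left

theorem s_mem (Q : Subgroup G) (E : El G) : E.s ∈ G0 Q E := by
  apply Subgroup.mem_sup_right
  exact Subgroup.mem_zpowers _

/-- `t` normalises `C₀` -/
theorem conj_C0 (F : Frame p φ E) {π : Equiv.Perm (Fin 3)} {t : G} (ht : IsPerm E π t) {g : G}
    (hg : g ∈ C0 Q E) : t * g * t⁻¹ ∈ C0 Q E := by
  have h : C0 Q E ≤ (C0 Q E).comap (MulAut.conj t).toMonoidHom := by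
    refine sup_le (fun q hq => ?_) ?_
    · exact Subgroup.mem_sup_left (p.lz.conj_mem t (perm_mem F ht) q hq)
    · rw [Subgroup.closure_le]
      rintro _ (⟨i, rfl⟩ | ⟨i, rfl⟩)
      · show t * E.x i * t⁻¹ ∈ C0 Q E
        rw [ht.x]
        exact Subgroup.mem_sup_right (Subgroup.subset_closure (Or.inl ⟨_, rfl⟩))
      · show t * E.w i * t⁻¹ ∈ C0 Q E
        rw [ht.w]
        exact Subgroup.mem_sup_right (Subgroup.subset_closure (Or.inr ⟨_, rfl⟩))
  exact h hg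

/-- `t` normalises `G₀` -/
theorem conj_G0 (F : Frame p φ E) {π : Equiv.Perm (Fin 3)} {t : G} (ht : IsPerm E π t) {g : G}
    (hg : g ∈ G0 Q E) : t * g * t⁻¹ ∈ G0 Q E := by
  have h : G0 Q E ≤ (G0 Q E).comap (MulAut.conj t).toMonoidHom := by
    refine sup_le (fun q hq => ?_) ?_
    · exact C0_le_G0 Q E (conj_C0 F ht hq)
    · rw [Subgroup.zpowers_le]
      show t * E.s * t⁻¹ ∈ G0 Q E
      rw [ht.s]
      exact s_mem Q E
  exact h hg

section

variable (F : Frame p φ E)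
  (hcs3 : ∀ c ∈ Subgroup.centralizer ({z} : Set G), ∃ n ∈ C0 Q E, ∃ π : Equiv.Perm (Fin 3),
    IsPerm E π (n * c))

include F hcs3

/-- `C_G(z)` normalises `C₀` -/
theorem conj_C0_of_comm {c : G} (hc : c * z = z * c) {g : G} (hg : g ∈ C0 Q E) :
    c * g * c⁻¹ ∈ C0 Q E := by
  obtain ⟨n, hn, π, hp⟩ := hcs3 c (Subgroup.mem_centralizer_singleton_iff.2 hc)
  have h1 := conj_C0 F hp hg
  have e : c * g * c⁻¹ = n⁻¹ * (n * c * g * (n * c)⁻¹) * n := by group
  rw [e]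
  exact mul_mem (mul_mem (inv_mem hn) h1) hn

/-- `C_G(z)` normalises `G₀` -/
theorem conj_G0_of_comm {c : G} (hc : c * z = z * c) {g : G} (hg : g ∈ G0 Q E) :
    c * g * c⁻¹ ∈ G0 Q E := by
  obtain ⟨n, hn, π, hp⟩ := hcs3 c (Subgroup.mem_centralizer_singleton_iff.2 hc)
  have h1 := conj_G0 F hp hg
  have hn' := C0_le_G0 Q E hn
  have e : c * g * c⁻¹ = n⁻¹ * (n * c * g * (n * c)⁻¹) * n := by group
  rw [e]
  exact mul_mem (mul_mem (inv_mem hn') h1) hn'

/-- `MM` normalises `G₀` -/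
theorem MM_le : MM Q E ≤ Subgroup.normalizer (G0 Q E : Set G) := by
  refine sup_le Subgroup.le_normalizer ?_
  intro c hc
  rw [F.z] at hc
  have hc' := Subgroup.mem_centralizer_singleton_iff.1 hc
  rw [Subgroup.mem_normalizer_iff]
  intro g
  constructor
  · intro hg
    exact conj_G0_of_comm F hcs3 hc' hg
  · intro hg
    have h1 := conj_G0_of_comm F hcs3 (c := c⁻¹)
      (Subgroup.mem_centralizer_singleton_iff.1 (inv_mem hc)) hg
    have e : c⁻¹ * (c * g * c⁻¹) * (c⁻¹)⁻¹ = g := by group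
    rwa [e] at h1

/-- **(norm)** -/
theorem norm : ∀ m ∈ MM Q E, ∀ g ∈ G0 Q E, m * g * m⁻¹ ∈ G0 Q E := fun _ hm g hg =>
  (Subgroup.mem_normalizer_iff.1 (MM_le F hcs3 hm) g).1 hg

end

/-! ### uniqueness -/

/-- the form is nondegenerate on codes -/
theorem nondeg : ∀ n < 256, (∀ k : Fin 8, bs (vec n) (vec (2 ^ (k : ℕ))) = 0) → n = 0 := by
  decide +kernel

/-- an element of `Q` commuting with the eight generators is `1` or `z` -/
theorem eq_of_comm_gen (F : Frame p φ E) (hc : φ.e p.va = vec 1) {t : G} (ht : t ∈ Q)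
    (hg : ∀ k, t * gen E k = gen E k * t) : t = 1 ∨ t = z := by
  obtain ⟨n, hn, h1⟩ := exists_cd_of_mem φ ht
  have h2 := nondeg n hn fun k => h1.b_of_comm (cd_gen F hc k) (hg k)
  rw [h2] at h1
  exact h1.eq_or_zero

theorem comm_of_conj {t b : G} (h : t * b * t⁻¹ = b) : t * b = b * t := mul_inv_eq_iff_eq_mul.1 h

theorem mP_one : mP 1 = idL := by decide

/-- **(perm_one)** -/
theorem perm_one [Finite G] (F : Frame p φ E) (hc : φ.e p.va = vec 1) {t : G} (ht : IsPerm E 1 t) :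
    t = 1 := by
  have h1 := mt_perm F hc ht
  rw [mP_one] at h1
  have h2 : t ∈ Q := h1.mem
  have hh := fun i => comm_of_conj (ht.h i)
  have hp := fun i => comm_of_conj (ht.p i)
  rcases eq_of_comm_gen F hc h2 (fun k => by
    fin_cases k
    · exact comm_of_conj ht.a
    · exact hh 0
    · exact hh 1
    · exact hh 2
    · exact comm_of_conj ht.e
    · exact hp 0
    · exact hp 1
    · exact hp 2) with h3 | h3
  · exact h3
  · exfalso
    have h4 := comm_of_conj ht.s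
    rw [h3] at h4
    have h5 := F.S_rel.z
    rw [F.z, F.a] at h5
    apply p.ne
    rw [← h5, ← h4]; group

/-- uniqueness of `π` modulo `C₀` -/
theorem perm_C0 (F : Frame p φ E) (hc : φ.e p.va = vec 1) {π : Equiv.Perm (Fin 3)} {t : G}
    (ht : IsPerm E π t) (h0 : t ∈ C0 Q E) : π = 1 := by
  obtain ⟨q, hq, f, hf⟩ := (mem_C0 F hc).1 h0
  have h2 : Mt φ t (mat f) := by
    rw [hf]
    exact q_mul hq (mt_ka F hc f)
  exact (mt_eq h2 (mt_perm F hc ht)).1

/-- `κ f ∈ Q` only for `f = 1` -/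
theorem ka_mem_Q (F : Frame p φ E) (hc : φ.e p.va = vec 1) {f : Fin 3 → Equiv.Perm (Fin 3)}
    (h : ka F f ∈ Q) : f = 1 := by
  have h1 : Mt φ (ka F f) (mP 1) := by
    rw [mP_one]; exact Mt.of_mem h
  exact (mt_eq (mt_ka F hc f) h1).2

/-- `|C₀| = 216 |Q|` -/
theorem card_C0 (F : Frame p φ E) (hc : φ.e p.va = vec 1) :
    Nat.card (C0 Q E) = Nat.card Q * 216 := by
  have hb : Function.Bijective (fun x : Q × (Fin 3 → Equiv.Perm (Fin 3)) =>
      (⟨(x.1 : G) * ka F x.2, (mem_C0 F hc).2 ⟨x.1, x.1.2, x.2, rfl⟩⟩ : C0 Q E)) := by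
    constructor
    · rintro ⟨q, f⟩ ⟨q', f'⟩ h
      have h1 : (q : G) * ka F f = q' * ka F f' := congrArg Subtype.val h
      have h2 : ka F (f * f'⁻¹) = (q : G)⁻¹ * q' := by
        rw [map_mul, map_inv]
        calc ka F f * (ka F f')⁻¹ = (q : G)⁻¹ * ((q : G) * ka F f) * (ka F f')⁻¹ := by group
          _ = _ := by rw [h1]; group
      have h3 : f * f'⁻¹ = 1 := ka_mem_Q F hc (by
        rw [h2]; exact Q.mul_mem (Q.inv_mem q.2) q'.2)
      have h4 : f = f' := mul_inv_eq_one.1 h3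
      subst h4
      have h5 : (q : G) = q' := mul_right_cancel h1
      rw [Subtype.ext h5]
    · rintro ⟨g, hg⟩
      obtain ⟨q, hq, f, hf⟩ := (mem_C0 F hc).1 hg
      exact ⟨(⟨q, hq⟩, f), Subtype.ext hf.symm⟩
  rw [← Nat.card_congr (Equiv.ofBijective _ hb), Nat.card_prod]
  congr 1
  rw [Nat.card_eq_fintype_card, Fintype.card_fun, Fintype.card_perm, Fintype.card_fin]
  rfl

theorem perm_sq [Finite G] (F : Frame p φ E) (hc : φ.e p.va = vec 1) {π : Equiv.Perm (Fin 3)} {t : G}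
    (ht : IsPerm E π t) (hπ : π * π = 1) : t * t = 1 := by
  have h1 := isPerm_mul ht ht
  rw [hπ] at h1
  exact perm_one F hc h1

theorem perm_unique (F : Frame p φ E) (hc : φ.e p.va = vec 1) {π σ : Equiv.Perm (Fin 3)} {t : G}
    (ht : IsPerm E π t) (hs : IsPerm E σ t) : π = σ := by
  have h1 := isPerm_mul ht (isPerm_inv hs)
  rw [mul_inv_cancel] at h1
  exact mul_inv_eq_one.1 (perm_C0 F hc h1 (one_mem _))

/-- the group of the elements permuting the coordinates -/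
def TT (E : El G) : Subgroup G where
  carrier := {t | ∃ π : Equiv.Perm (Fin 3), IsPerm E π t}
  one_mem' := ⟨1, isPerm_one⟩
  mul_mem' := by
    rintro _ _ ⟨π, h1⟩ ⟨σ, h2⟩
    exact ⟨_, isPerm_mul h1 h2⟩
  inv_mem' := by
    rintro _ ⟨π, h1⟩
    exact ⟨_, isPerm_inv h1⟩

/-- the permutation of an element of `TT` -/
noncomputable def tp (F : Frame p φ E) (hc : φ.e p.va = vec 1) : TT E →* Equiv.Perm (Fin 3) where
  toFun t := t.2.choose
  map_one' := perm_unique F hc (one_mem (TT E)).choose_spec isPerm_one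
  map_mul' t u := perm_unique F hc (mul_mem t.2 u.2).choose_spec
    (isPerm_mul t.2.choose_spec u.2.choose_spec)

theorem tp_inj [Finite G] (F : Frame p φ E) (hc : φ.e p.va = vec 1) : Function.Injective (tp F hc) := by
  rw [injective_iff_map_eq_one]
  intro t ht
  have h1 : IsPerm E (tp F hc t) (t : G) := t.2.choose_spec
  rw [ht] at h1
  exact Subtype.ext (perm_one F hc h1)

theorem card_TT [Finite G] (F : Frame p φ E) (hc : φ.e p.va = vec 1) : Nat.card (TT E) ∣ 6 := by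
  have h1 := Subgroup.card_dvd_of_injective (tp F hc) (tp_inj F hc)
  rwa [Nat.card_eq_fintype_card (α := Equiv.Perm (Fin 3)), Fintype.card_perm, Fintype.card_fin] at h1

/-- `C_G(z) = C₀ TT` -/
theorem card_cent [Finite G] (F : Frame p φ E) (hc : φ.e p.va = vec 1)
    (hcs3 : ∀ c ∈ Subgroup.centralizer ({z} : Set G), ∃ n ∈ C0 Q E, ∃ π : Equiv.Perm (Fin 3),
      IsPerm E π (n * c)) :
    Nat.card (Subgroup.centralizer ({z} : Set G)) = Nat.card Q * 216 * Nat.card (TT E) := by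
  have hT : ∀ t ∈ TT E, t ∈ Subgroup.centralizer ({z} : Set G) := by
    rintro t ⟨π, ht⟩
    exact Subgroup.mem_centralizer_singleton_iff.2 (perm_mem F ht)
  have hb : Function.Bijective (fun x : C0 Q E × TT E =>
      (⟨(x.1 : G) * x.2, mul_mem (C0_le_cent F hc x.1.2) (hT _ x.2.2)⟩ :
        Subgroup.centralizer ({z} : Set G))) := by
    constructor
    · rintro ⟨n, t⟩ ⟨n', t'⟩ h
      have h1 : (n : G) * t = n' * t' := congrArg Subtype.val h
      have h2 : (t : G) * (t' : G)⁻¹ = (n : G)⁻¹ * n' := by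
        calc (t : G) * (t' : G)⁻¹ = (n : G)⁻¹ * (n * t) * (t' : G)⁻¹ := by group
          _ = _ := by rw [h1]; group
      have h3 : (t : G) * (t' : G)⁻¹ ∈ C0 Q E := by
        rw [h2]; exact mul_mem (inv_mem n.2) n'.2
      obtain ⟨π, h4⟩ := mul_mem t.2 (inv_mem t'.2)
      have h5 := perm_C0 F hc h4 h3
      rw [h5] at h4
      have h6 : (t : G) = t' := mul_inv_eq_one.1 (perm_one F hc h4)
      rw [h6] at h1
      have h7 : (n : G) = n' := mul_right_cancel h1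
      rw [Subtype.ext h6, Subtype.ext h7]
    · rintro ⟨c, hcz⟩
      obtain ⟨n, hn, π, hp⟩ := hcs3 c hcz
      refine ⟨(⟨n⁻¹, inv_mem hn⟩, ⟨n * c, π, hp⟩), Subtype.ext ?_⟩
      show n⁻¹ * (n * c) = c
      group
  rw [← Nat.card_congr (Equiv.ofBijective _ hb), Nat.card_prod, card_C0 F hc]

/-- **(hcard)** -/
theorem hcard [Finite G] (F : Frame p φ E) (hc : φ.e p.va = vec 1) (h9 : Nat.card Q = 2 ^ 9)
    (hcs3 : ∀ c ∈ Subgroup.centralizer ({z} : Set G), ∃ n ∈ C0 Q E, ∃ π : Equiv.Perm (Fin 3),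
      IsPerm E π (n * c)) :
    ¬ 2 ^ 14 ∣ Nat.card (Subgroup.centralizer ({z} : Set G)) := by
  rw [card_cent F hc hcs3, h9]
  have h1 := card_TT F hc
  generalize Nat.card (TT E) = k at h1
  have h2 : k ≤ 6 := Nat.le_of_dvd (by norm_num) h1
  interval_cases k
  all_goals first | (exact absurd h1 (by decide)) | (norm_num)

/-- **(cen)** -/
theorem cen [Finite G] (F : Frame p φ E) (hc : φ.e p.va = vec 1) (h9 : Nat.card Q = 2 ^ 9)
    (hcs3 : ∀ c ∈ Subgroup.centralizer ({z} : Set G), ∃ n ∈ C0 Q E, ∃ π : Equiv.Perm (Fin 3),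
      IsPerm E π (n * c)) (hG0 : Nat.card (G0 Q E) = 174182400) {w : G} (hw : w ∈ G0 Q E)
    (hwz : w * z = z * w) (hww : w * w = 1) : w ∈ C0 Q E := by
  by_contra hcon
  let K : Subgroup G := G0 Q E ⊓ Subgroup.centralizer ({z} : Set G)
  have hK : C0 Q E ≤ K := le_inf (C0_le_G0 Q E) (C0_le_cent F hc)
  have hwK : w ∈ K := ⟨hw, Subgroup.mem_centralizer_singleton_iff.2 hwz⟩
  have hN : ((C0 Q E).subgroupOf K).Normal := by
    constructor
    intro n hn g
    rw [Subgroup.mem_subgroupOf] at hn ⊢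
    exact conj_C0_of_comm F hcs3 (Subgroup.mem_centralizer_singleton_iff.1 g.2.2) hn
  have h1 : orderOf (QuotientGroup.mk (⟨w, hwK⟩ : K) : K ⧸ (C0 Q E).subgroupOf K) = 2 := by
    apply orderOf_eq_prime
    · rw [← QuotientGroup.mk_pow, QuotientGroup.eq_one_iff]
      have : (⟨w, hwK⟩ : K) ^ 2 = 1 := Subtype.ext (by rw [Subgroup.coe_pow, pow_two]; exact hww)
      rw [this]; exact one_mem _
    · intro h
      rw [QuotientGroup.eq_one_iff, Subgroup.mem_subgroupOf] at h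
      exact hcon h
  have h2 : 2 ∣ (C0 Q E).relIndex K := by
    have h3 := orderOf_dvd_natCard (QuotientGroup.mk (⟨w, hwK⟩ : K) : K ⧸ (C0 Q E).subgroupOf K)
    rw [h1] at h3
    exact h3
  have h3 : Nat.card (C0 Q E) * (C0 Q E).relIndex K = Nat.card K := by
    have h4 := Subgroup.relIndex_mul_relIndex ⊥ (C0 Q E) K bot_le hK
    rwa [Subgroup.relIndex_bot_left, Subgroup.relIndex_bot_left] at h4
  obtain ⟨k, hk⟩ := h2
  have h4 : Nat.card K ∣ Nat.card (G0 Q E) := Subgroup.card_dvd_of_le inf_le_left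
  have h5 : 2 ^ 13 ∣ 174182400 := by
    rw [← hG0]
    refine dvd_trans ?_ h4
    rw [← h3, card_C0 F hc, h9, hk]
    exact ⟨27 * k, by ring⟩
  norm_num at h5

/-- a Sylow 2-subgroup of `G` lies in `C_G(z)` -/
theorem exists_sylow [Finite G] {Q : Subgroup G} {z : G} (h : Large Q z) :
    ∃ T : Sylow 2 G, ∀ x ∈ (T : Subgroup G), x * z = z * x := by
  have : Fact (Nat.Prime 2) := ⟨Nat.prime_two⟩
  obtain ⟨T, hQT⟩ := (isPGroup h).exists_le_sylow
  refine ⟨T, ?_⟩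
  have hnt : Nontrivial (T : Subgroup G) := by
    refine ⟨⟨⟨z, hQT h.z_mem⟩, 1, ?_⟩⟩
    intro he
    exact h.z_ne (congrArg Subtype.val he)
  have hc : Nontrivial (Subgroup.center (T : Subgroup G)) := T.2.center_nontrivial
  obtain ⟨⟨⟨c, hcT⟩, hcc⟩, hc1⟩ := exists_ne (1 : Subgroup.center (T : Subgroup G))
  have hc1' : c ≠ 1 := by
    rintro rfl
    exact hc1 rfl
  rw [Subgroup.mem_center_iff] at hcc
  have hcomm : ∀ y ∈ (T : Subgroup G), y * c = c * y := fun y hy => congrArg Subtype.val (hcc ⟨y, hy⟩)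
  have h1 : c ∈ Q := h.self c (hcomm z (hQT h.z_mem)).symm fun y hy => (hcomm y (hQT hy)).symm
  rcases h.cent c h1 fun y hy => (hcomm y (hQT hy)).symm with h2 | h2
  · exact absurd h2 hc1'
  · intro x hx
    have := hcomm x hx
    rwa [h2] at this

/-- a 2-element of a group `M ≥ C_G(z)` is `M`-conjugate into `C_G(z)` -/
theorem conj_into [Finite G] {Q : Subgroup G} {z : G} (h : Large Q z) {M : Subgroup G}
    (hM : Subgroup.centralizer ({z} : Set G) ≤ M) {K : Subgroup G} (hK : IsPGroup 2 K) (hKM : K ≤ M) :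
    ∃ m ∈ M, ∀ v ∈ K, (m * v * m⁻¹) * z = z * (m * v * m⁻¹) := by
  have : Fact (Nat.Prime 2) := ⟨Nat.prime_two⟩
  obtain ⟨T, hT⟩ := exists_sylow h
  have hTM : (T : Subgroup G) ≤ M := fun x hx =>
    hM (Subgroup.mem_centralizer_singleton_iff.2 (hT x hx))
  have hK' : IsPGroup 2 (K.subgroupOf M) := hK.comap_of_injective M.subtype M.subtype_injective
  obtain ⟨S, hS⟩ := hK'.exists_le_sylow
  obtain ⟨g, hg⟩ := MulAction.exists_smul_eq M S (T.subtype hTM)
  refine ⟨g, g.2, fun v hv => ?_⟩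
  have h1 : (⟨v, hKM hv⟩ : M) ∈ (S : Subgroup M) := hS (Subgroup.mem_subgroupOf.2 hv)
  have h2 : g * ⟨v, hKM hv⟩ * g⁻¹ ∈ ((g • S : Sylow 2 M) : Subgroup M) := by
    have h4 := Subgroup.smul_mem_pointwise_smul (⟨v, hKM hv⟩ : M) (MulAut.conj g) (S : Subgroup M) h1
    exact h4
  rw [hg] at h2
  have h3 : (g : G) * v * (g : G)⁻¹ ∈ (T : Subgroup G) := Subgroup.mem_subgroupOf.1 h2
  exact hT _ h3

/-- **(two_el)** -/
theorem two_el [Finite G] (F : Frame p φ E) {v : G} (hv : v ∈ MM Q E) (hvv : v * v = 1) :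
    ∃ m ∈ MM Q E, (m * v * m⁻¹) * z = z * (m * v * m⁻¹) := by
  have hM : Subgroup.centralizer ({z} : Set G) ≤ MM Q E := by
    rw [← F.z]; exact le_sup_right
  have hK : IsPGroup 2 (Subgroup.zpowers v) := by
    apply IsPGroup.of_card (n := (orderOf v).log 2)
    rw [Nat.card_zpowers]
    have h1 : orderOf v ∣ 2 := orderOf_dvd_of_pow_eq_one (by rw [pow_two]; exact hvv)
    rcases (Nat.dvd_prime Nat.prime_two).1 h1 with h2 | h2 <;> rw [h2] <;> rfl
  obtain ⟨m, hm, h1⟩ := conj_into p.lz hM hK (by rwa [Subgroup.zpowers_le])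
  exact ⟨m, hm, h1 v (Subgroup.mem_zpowers v)⟩

end Cfsg.Agent.TypeO8Plus.CNorm
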