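import Cfsg.Agent.TypeO8Plus.FuBase

/-!
# `Ω₈⁺(2)`: the homomorphism `κ : S₃ × S₃ × S₃ → C₀` and its matrices (helper416)
-/

set_option autoImplicit false

namespace Cfsg.Agent.TypeO8Plus.FuKappa

open Cfsg.Agent.Co2Type.Quad Cfsg.Agent.LargeExtra.Base Cfsg.Agent.LargeExtra.Nine
open Cfsg.Agent.LargeExtra.KillNine.Codes Cfsg.Agent.TypeO8Plus Cfsg.Agent.TypeO8Plus.Code
open Cfsg.Agent.TypeO8Plus.FuBase

variable {G : Type*} [Group G] {Q A : Subgroup G} {z a : G}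

theorem cdr {h : Large Q z} {φ : Coord h} {g g' : G} {n : ℕ} (e : g = g') (h1 : Cd φ g' n) :
    Cd φ g n := e ▸ h1

/-- matrices of `x i` -/
def mX : Fin 3 → List ℕ := ![[1, 2 ^^^ 1, 4, 8, 16 ^^^ 32, 32, 64 ^^^ 8, 128 ^^^ 4],
  [1, 2, 4 ^^^ 1, 8, 16 ^^^ 64, 32 ^^^ 8, 64, 128 ^^^ 2], [1, 2, 4, 8 ^^^ 1, 16 ^^^ 128, 32 ^^^ 4, 64 ^^^ 2, 128]]

/-- matrices of `w i` -/
def mW : Fin 3 → List ℕ := ![[2, 1, 128, 64, 32, 16, 8, 4], [4, 128, 1, 32, 64, 8, 16, 2],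
  [8, 64, 32, 1, 128, 4, 2, 16]]

/-- matrix of the permutation `π` -/
def mP (π : Equiv.Perm (Fin 3)) : List ℕ :=
  [1, 2 ^ ((π 0 : ℕ) + 1), 2 ^ ((π 1 : ℕ) + 1), 2 ^ ((π 2 : ℕ) + 1), 16,
    2 ^ ((π 0 : ℕ) + 5), 2 ^ ((π 1 : ℕ) + 5), 2 ^ ((π 2 : ℕ) + 5)]

section

variable {p : Pair Q z A a} {φ : Coord p.lz} {E : El G}

theorem cd_a (F : Frame p φ E) (hc : φ.e p.va = vec 1) : Cd φ E.a 1 := by
  rw [F.a]
  exact ⟨p.a_mem, hc⟩

theorem cd_h (F : Frame p φ E) (i : Fin 3) : Cd φ (E.h i) (2 ^ (i.1 + 1)) := ⟨F.h_mem i, F.h_code i⟩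
theorem cd_e (F : Frame p φ E) : Cd φ E.e 16 := ⟨F.e_mem, F.e_code⟩
theorem cd_p (F : Frame p φ E) (i : Fin 3) : Cd φ (E.p i) (2 ^ (i.1 + 5)) := ⟨F.p_mem i, F.p_code i⟩

/-- the eight generators of `Q` modulo `z` -/
def gen (E : El G) : Fin 8 → G := ![E.a, E.h 0, E.h 1, E.h 2, E.e, E.p 0, E.p 1, E.p 2]

theorem cd_gen (F : Frame p φ E) (hc : φ.e p.va = vec 1) (k : Fin 8) : Cd φ (gen E k) (2 ^ (k : ℕ)) := by
  fin_cases k
  · exact cd_a F hc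
  · exact cd_h F 0
  · exact cd_h F 1
  · exact cd_h F 2
  · exact cd_e F
  · exact cd_p F 0
  · exact cd_p F 1
  · exact cd_p F 2

theorem cases3 : ∀ i : Fin 3, i = 0 ∨ i = 1 ∨ i = 2 := by decide

theorem mt_x (F : Frame p φ E) (hc : φ.e p.va = vec 1) (i : Fin 3) : Mt φ (E.x i) (mX i) := by
  have hz : E.x i * z * (E.x i)⁻¹ = z := by rw [← F.z]; exact F.X_rel.z i
  have X := F.X_rel
  have ca := cd_a F hc
  have ch := cd_h F
  have ce := cd_e F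
  have cp := cd_p F
  apply mt_of_gens hz (cd_gen F hc)
  intro k
  rcases cases3 i with rfl | rfl | rfl
  · fin_cases k
    · exact cdr (X.a 0) ca
    · exact cdr (X.h 0) ((ch 0).mul ca)
    · exact cdr (X.h1 0) (ch 1)
    · exact cdr (X.h2 0) (ch 2)
    · exact cdr (X.e 0) (ce.mul (cp 0))
    · exact cdr (X.p 0) (cp 0)
    · exact cdr (X.p1 0) ((cp 1).mul (ch 2))
    · exact cdr (X.p2 0) ((cp 2).mul (ch 1))
  · fin_cases k
    · exact cdr (X.a 1) ca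
    · exact cdr (X.h2 1) (ch 0)
    · exact cdr (X.h 1) ((ch 1).mul ca)
    · exact cdr (X.h1 1) (ch 2)
    · exact cdr (X.e 1) (ce.mul (cp 1))
    · exact cdr (X.p2 1) ((cp 0).mul (ch 2))
    · exact cdr (X.p 1) (cp 1)
    · exact cdr (X.p1 1) ((cp 2).mul (ch 0))
  · fin_cases k
    · exact cdr (X.a 2) ca
    · exact cdr (X.h1 2) (ch 0)
    · exact cdr (X.h2 2) (ch 1)
    · exact cdr (X.h 2) ((ch 2).mul ca)
    · exact cdr (X.e 2) (ce.mul (cp 2))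
    · exact cdr (X.p1 2) ((cp 0).mul (ch 1))
    · exact cdr (X.p2 2) ((cp 1).mul (ch 0))
    · exact cdr (X.p 2) (cp 2)

theorem mt_w (F : Frame p φ E) (hc : φ.e p.va = vec 1) (i : Fin 3) : Mt φ (E.w i) (mW i) := by
  have hz : E.w i * z * (E.w i)⁻¹ = z := by rw [← F.z]; exact F.W_rel.z i
  have W := F.W_rel
  have ca := cd_a F hc
  have ch := cd_h F
  have ce := cd_e F
  have cp := cd_p F
  apply mt_of_gens hz (cd_gen F hc)
  intro k
  rcases cases3 i with rfl | rfl | rfl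
  · fin_cases k
    · exact cdr (W.a 0) (ch 0)
    · exact cdr (W.h 0) ca
    · exact cdr (W.h1 0) (cp 2)
    · exact cdr (W.h2 0) (cp 1)
    · exact cdr (W.e 0) (cp 0)
    · exact cdr (W.p 0) ce
    · exact cdr (W.p1 0) (ch 2)
    · exact cdr (W.p2 0) (ch 1)
  · fin_cases k
    · exact cdr (W.a 1) (ch 1)
    · exact cdr (W.h2 1) (cp 2)
    · exact cdr (W.h 1) ca
    · exact cdr (W.h1 1) (cp 0)
    · exact cdr (W.e 1) (cp 1)
    · exact cdr (W.p2 1) (ch 2)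
    · exact cdr (W.p 1) ce
    · exact cdr (W.p1 1) (ch 0)
  · fin_cases k
    · exact cdr (W.a 2) (ch 2)
    · exact cdr (W.h1 2) (cp 1)
    · exact cdr (W.h2 2) (cp 0)
    · exact cdr (W.h 2) ca
    · exact cdr (W.e 2) (cp 2)
    · exact cdr (W.p1 2) (ch 1)
    · exact cdr (W.p2 2) (ch 0)
    · exact cdr (W.p 2) ce

theorem mt_perm (F : Frame p φ E) (hc : φ.e p.va = vec 1) {π : Equiv.Perm (Fin 3)} {t : G}
    (ht : IsPerm E π t) : Mt φ t (mP π) := by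
  have hz : t * z * t⁻¹ = z := by rw [← F.z]; exact ht.z
  apply mt_of_gens hz (cd_gen F hc)
  intro k
  fin_cases k
  · show Cd φ (t * E.a * t⁻¹) 1
    rw [ht.a]; exact cd_a F hc
  · show Cd φ (t * E.h 0 * t⁻¹) _
    rw [ht.h]; exact cd_h F _
  · show Cd φ (t * E.h 1 * t⁻¹) _
    rw [ht.h]; exact cd_h F _
  · show Cd φ (t * E.h 2 * t⁻¹) _
    rw [ht.h]; exact cd_h F _
  · show Cd φ (t * E.e * t⁻¹) 16
    rw [ht.e]; exact cd_e F
  · show Cd φ (t * E.p 0 * t⁻¹) _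
    rw [ht.p]; exact cd_p F _
  · show Cd φ (t * E.p 1 * t⁻¹) _
    rw [ht.p]; exact cd_p F _
  · show Cd φ (t * E.p 2 * t⁻¹) _
    rw [ht.p]; exact cd_p F _

/-- `κ_i : S₃ → G` -/
def kp (F : Frame p φ E) (i : Fin 3) : Equiv.Perm (Fin 3) →* G :=
  kap (F.weyl.xx i) (F.weyl.ww i) (F.weyl.xw i)

theorem kp_apply (F : Frame p φ E) (i : Fin 3) (σ : Equiv.Perm (Fin 3)) :
    kp F i σ = ev (E.x i) (E.w i) (word σ) := rfl

theorem kp_X (F : Frame p φ E) (i : Fin 3) : kp F i sX = E.x i := by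
  rw [kp_apply, word_X]; simp [ev]

theorem kp_W (F : Frame p φ E) (i : Fin 3) : kp F i sW = E.w i := by
  rw [kp_apply, word_W]; simp [ev]

theorem kp_comm (F : Frame p φ E) {i j : Fin 3} (hij : i ≠ j) (σ τ : Equiv.Perm (Fin 3)) :
    kp F i σ * kp F j τ = kp F j τ * kp F i σ := by
  have h1 : ∀ l, E.x j * ev (E.x i) (E.w i) l = ev (E.x i) (E.w i) l * E.x j :=
    ev_comm (F.weyl.xx' j i) (F.weyl.xw' j i hij.symm)
  have h2 : ∀ l, E.w j * ev (E.x i) (E.w i) l = ev (E.x i) (E.w i) l * E.w j :=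
    ev_comm (F.weyl.xw' i j hij).symm (F.weyl.ww' j i)
  exact ev_comm (h1 _).symm (h2 _).symm _

/-- `κ : S₃ × S₃ × S₃ → G` -/
def ka (F : Frame p φ E) : (Fin 3 → Equiv.Perm (Fin 3)) →* G where
  toFun f := kp F 0 (f 0) * kp F 1 (f 1) * kp F 2 (f 2)
  map_one' := by simp only [Pi.one_apply, map_one, mul_one]
  map_mul' f g := by
    simp only [Pi.mul_apply, map_mul]
    have h1 := kp_comm F (i := 1) (j := 0) (by decide) (f 1) (g 0)
    have h2 := kp_comm F (i := 2) (j := 0) (by decide) (f 2) (g 0)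
    have h3 := kp_comm F (i := 2) (j := 1) (by decide) (f 2) (g 1)
    calc kp F 0 (f 0) * kp F 0 (g 0) * (kp F 1 (f 1) * kp F 1 (g 1)) * (kp F 2 (f 2) * kp F 2 (g 2))
        = kp F 0 (f 0) * (kp F 0 (g 0) * kp F 1 (f 1)) * (kp F 1 (g 1) * kp F 2 (f 2)) * kp F 2 (g 2) := by
          group
      _ = kp F 0 (f 0) * (kp F 1 (f 1) * kp F 0 (g 0)) * (kp F 2 (f 2) * kp F 1 (g 1)) * kp F 2 (g 2) := by
          rw [h1, h3]
      _ = kp F 0 (f 0) * kp F 1 (f 1) * (kp F 0 (g 0) * kp F 2 (f 2)) * kp F 1 (g 1) * kp F 2 (g 2) := by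
          group
      _ = _ := by rw [← h2]; group

theorem ka_apply (F : Frame p φ E) (f : Fin 3 → Equiv.Perm (Fin 3)) :
    ka F f = kp F 0 (f 0) * kp F 1 (f 1) * kp F 2 (f 2) := rfl

/-- `κ` of a function with one nontrivial coordinate -/
theorem ka_single (F : Frame p φ E) (i : Fin 3) (σ : Equiv.Perm (Fin 3)) :
    ka F (Pi.mulSingle i σ) = kp F i σ := by
  rw [ka_apply]
  fin_cases i
  · simp
  · simp
  · simp

/-- matrix of a word -/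
def evM (X W : List ℕ) : List Bool → List ℕ
  | [] => idL
  | b :: l => mulL (evM X W l) (if b then X else W)

/-- matrix of `κ_i σ` -/
def mK (i : Fin 3) (σ : Equiv.Perm (Fin 3)) : List ℕ := evM (mX i) (mW i) (word σ)

/-- matrix of `κ f` -/
def mat (f : Fin 3 → Equiv.Perm (Fin 3)) : List ℕ :=
  mulL (mK 2 (f 2)) (mulL (mK 1 (f 1)) (mK 0 (f 0)))

theorem mt_kp (F : Frame p φ E) (hc : φ.e p.va = vec 1) (i : Fin 3) (σ : Equiv.Perm (Fin 3)) :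
    Mt φ (kp F i σ) (mK i σ) := by
  rw [kp_apply, mK]
  generalize word σ = l
  induction l with
  | nil => exact Mt.one
  | cons b l ih =>
    refine Mt.mul ?_ ih
    cases b
    · exact mt_w F hc i
    · exact mt_x F hc i

theorem mt_ka (F : Frame p φ E) (hc : φ.e p.va = vec 1) (f : Fin 3 → Equiv.Perm (Fin 3)) :
    Mt φ (ka F f) (mat f) :=
  ((mt_kp F hc 0 _).mul (mt_kp F hc 1 _)).mul (mt_kp F hc 2 _)

/-! ### `C₀ = Q κ(S₃³)` -/

theorem ka_mem (F : Frame p φ E) (f : Fin 3 → Equiv.Perm (Fin 3)) : ka F f ∈ C0 Q E := by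
  have h1 : ∀ (i : Fin 3) (l : List Bool), ev (E.x i) (E.w i) l ∈ C0 Q E := by
    intro i l
    induction l with
    | nil => exact Subgroup.one_mem _
    | cons b l ih =>
      refine Subgroup.mul_mem _ ?_ ih
      apply Subgroup.mem_sup_right
      apply Subgroup.subset_closure
      cases b
      · exact Or.inr ⟨i, rfl⟩
      · exact Or.inl ⟨i, rfl⟩
  exact Subgroup.mul_mem _ (Subgroup.mul_mem _ (h1 _ _) (h1 _ _)) (h1 _ _)

theorem Q_le_C0 (Q : Subgroup G) (E : El G) : Q ≤ C0 Q E := le_sup_left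

theorem ka_norm (F : Frame p φ E) (hc : φ.e p.va = vec 1) (f : Fin 3 → Equiv.Perm (Fin 3)) {q : G}
    (hq : q ∈ Q) : ka F f * q * (ka F f)⁻¹ ∈ Q :=
  p.lz.conj_mem _ (mt_ka F hc f).comm q hq

/-- the elements `q κ(f)` form a subgroup -/
def QK (F : Frame p φ E) (hc : φ.e p.va = vec 1) : Subgroup G where
  carrier := {g | ∃ q ∈ Q, ∃ f, g = q * ka F f}
  one_mem' := ⟨1, Q.one_mem, 1, by rw [map_one, mul_one]⟩
  mul_mem' := by
    rintro _ _ ⟨q, hq, f, rfl⟩ ⟨q', hq', f', rfl⟩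
    refine ⟨q * (ka F f * q' * (ka F f)⁻¹), Q.mul_mem hq (ka_norm F hc f hq'), f * f', ?_⟩
    rw [map_mul]; group
  inv_mem' := by
    rintro _ ⟨q, hq, f, rfl⟩
    refine ⟨ka F f⁻¹ * q⁻¹ * (ka F f⁻¹)⁻¹, ka_norm F hc f⁻¹ (Q.inv_mem hq), f⁻¹, ?_⟩
    rw [map_inv]; group

theorem C0_eq (F : Frame p φ E) (hc : φ.e p.va = vec 1) : C0 Q E = QK F hc := by
  apply le_antisymm
  · refine sup_le (fun q hq => ⟨q, hq, 1, by rw [map_one, mul_one]⟩) ?_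
    rw [Subgroup.closure_le]
    rintro _ (⟨i, rfl⟩ | ⟨i, rfl⟩)
    · exact ⟨1, Q.one_mem, Pi.mulSingle i sX, by rw [ka_single, kp_X, one_mul]⟩
    · exact ⟨1, Q.one_mem, Pi.mulSingle i sW, by rw [ka_single, kp_W, one_mul]⟩
  · rintro _ ⟨q, hq, f, rfl⟩
    exact Subgroup.mul_mem _ (Q_le_C0 Q E hq) (ka_mem F f)

theorem mem_C0 (F : Frame p φ E) (hc : φ.e p.va = vec 1) {g : G} :
    g ∈ C0 Q E ↔ ∃ q ∈ Q, ∃ f, g = q * ka F f := by
  rw [C0_eq F hc]; rfl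

theorem C0_le_cent (F : Frame p φ E) (hc : φ.e p.va = vec 1) :
    C0 Q E ≤ Subgroup.centralizer ({z} : Set G) := by
  intro g hg
  obtain ⟨q, hq, f, rfl⟩ := (mem_C0 F hc).1 hg
  exact mul_mem (Subgroup.mem_centralizer_singleton_iff.2 (p.lz.comm_z q hq)) (mt_ka F hc f).1

/-! ### checks -/

theorem mat_id : ∀ a b c : Equiv.Perm (Fin 3), mat ![a, b, c] = idL → a = 1 ∧ b = 1 ∧ c = 1 := by
  decide +kernel

theorem mat_perm : ∀ a b c : Equiv.Perm (Fin 3), ∀ π : Equiv.Perm (Fin 3),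
    mat ![a, b, c] = mP π → π = 1 := by
  decide +kernel

theorem vec3 (f : Fin 3 → Equiv.Perm (Fin 3)) : f = ![f 0, f 1, f 2] := by
  funext i; fin_cases i <;> rfl

end

end Cfsg.Agent.TypeO8Plus.FuKappa
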