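import Cfsg.Agent.TypeO8Plus.LocalA

/-!
# `Ω₈⁺(2)`: the local analysis, second part (helper260)

The elements `x i ∈ A` acting exactly as the transvections.
-/

set_option autoImplicit false

namespace Cfsg.Agent.TypeO8Plus.LocalB

open Cfsg.Agent.Co2Type.Quad Cfsg.Agent.LargeExtra.Base Cfsg.Agent.LargeExtra.Nine
open Cfsg.Agent.LargeExtra.KillNine.Codes Cfsg.Agent.TypeO8Plus.Code Cfsg.Agent.TypeO8Plus.LocalA

variable {G : Type*} [Group G] {Q A : Subgroup G} {z a : G}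

/-! ### generalities -/

/-- Adjusting signs. -/
theorem exists_adjust {ι : Type*} [Finite ι] (S : Subgroup G) (c z : G) (g t δ : ι → G) (hz : z * z = 1)
    (hS : ∀ m, δ m ∈ S) (hSz : ∀ u ∈ S, u * z = z * u) (hcz : c * z = z * c)
    (hδ : ∀ m, δ m * g m * (δ m)⁻¹ = g m * z) (hδ' : ∀ m l, l ≠ m → δ m * g l * (δ m)⁻¹ = g l)
    (hc : ∀ m, c * g m * c⁻¹ = t m ∨ c * g m * c⁻¹ = t m * z) :
    ∃ u ∈ S, ∀ m, (c * u) * g m * (c * u)⁻¹ = t m := by
  classical
  have := Fintype.ofFinite ι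
  have key : ∀ s : Finset ι, ∃ u ∈ S, (∀ m ∈ s, (c * u) * g m * (c * u)⁻¹ = t m) ∧
      ∀ m, (c * u) * g m * (c * u)⁻¹ = t m ∨ (c * u) * g m * (c * u)⁻¹ = t m * z := by
    intro s
    induction s using Finset.induction_on with
    | empty => exact ⟨1, S.one_mem, by simp, by simpa using hc⟩
    | insert m s hm ih =>
      obtain ⟨u, hu, h1, h2⟩ := ih
      rcases h2 m with h3 | h3
      · refine ⟨u, hu, ?_, h2⟩
        intro l hl
        rcases Finset.mem_insert.1 hl with rfl | hl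
        · exact h3
        · exact h1 l hl
      · have e : ∀ l, (c * (u * δ m)) * g l * (c * (u * δ m))⁻¹ = (c * u) * (δ m * g l * (δ m)⁻¹) * (c * u)⁻¹ := by
          intro l; group
        have hcu : (c * u) * z = z * (c * u) := by
          rw [mul_assoc, hSz u hu, ← mul_assoc, hcz, mul_assoc]
        have hcu' : (c * u) * z * (c * u)⁻¹ = z := by rw [hcu, mul_inv_cancel_right]
        have e' : (c * (u * δ m)) * g m * (c * (u * δ m))⁻¹ = t m := by
          rw [e, hδ]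
          calc (c * u) * (g m * z) * (c * u)⁻¹ = ((c * u) * g m * (c * u)⁻¹) * ((c * u) * z * (c * u)⁻¹) := by group
            _ = t m := by rw [h3, hcu', mul_assoc, hz, mul_one]
        refine ⟨u * δ m, S.mul_mem hu (hS m), ?_, ?_⟩
        · intro l hl
          by_cases hlm : l = m
          · rw [hlm]; exact e'
          · rw [e, hδ' m l hlm]
            exact h1 l (Finset.mem_of_mem_insert_of_ne hl hlm)
        · intro l
          by_cases hlm : l = m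
          · left; rw [hlm]; exact e'
          · rw [e, hδ' m l hlm]
            exact h2 l
  obtain ⟨u, hu, h1, -⟩ := key Finset.univ
  exact ⟨u, hu, fun m => h1 m (Finset.mem_univ m)⟩

/-- the basis of `Q` -/
structure Bas (p : Pair Q z A a) (φ : Coord p.lz) (e : G) (h q : Fin 3 → G) : Prop where
  va : φ.e p.va = vec 1
  e_cd : Cd φ e 16
  h_cd : ∀ i : Fin 3, Cd φ (h i) (2 ^ (i.1 + 1))
  q_cd : ∀ i : Fin 3, Cd φ (q i) (2 ^ (i.1 + 5))
  hA : ∀ i, h i ∈ A

section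

variable {p : Pair Q z A a} {φ : Coord p.lz} {e : G} {h q : Fin 3 → G}

theorem Bas.a_cd (B : Bas p φ e h q) : Cd φ a 1 := ⟨p.a_mem, B.va⟩

theorem conj_of_comm {g g' : G} (h : g * g' = g' * g) : g * g' * g⁻¹ = g' := by
  rw [h, mul_inv_cancel_right]

theorem conj_of_ncomm (L : Large Q z) {g g' : G} (hg : g ∈ Q) (h : g * g' = g' * g * z) : g * g' * g⁻¹ = g' * z := by
  rw [h, mul_assoc (g' * g), ← (L.commz (Q.inv_mem hg)).eq]; group

/-- An element of `C(z)` commuting with the basis is `1` or `z`. -/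
theorem Bas.eq_one_or [Finite G] (B : Bas p φ e h q) {c : G} (hcz : c * z = z * c) (ha : c * a * c⁻¹ = a)
    (hh : ∀ i, c * h i * c⁻¹ = h i) (he : c * e * c⁻¹ = e) (hq : ∀ i, c * q i * c⁻¹ = q i) : c = 1 ∨ c = z := by
  have hcm : c ∈ Subgroup.centralizer ({z} : Set G) := Subgroup.mem_centralizer_singleton_iff.2 hcz
  -- generic: the class of an element commuting with `c` is fixed
  have hfix : ∀ {g : G} {n : ℕ}, Cd φ g n → c * g * c⁻¹ = g →
      φ.e (p.lz.act ⟨c, hcm⟩ (φ.e.symm (vec n))) = vec n := by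
    rintro g n ⟨hg, hn⟩ h1
    have h2 : φ.e.symm (vec n) = p.lz.pr ⟨g, hg⟩ := by rw [← hn, LinearEquiv.symm_apply_apply]
    rw [h2, Pair.act_pr_coe p.lz ⟨c, hcm⟩ ⟨g, hg⟩ ⟨g, hg⟩ h1, hn]
  have hb : ∀ m : Fin 8, φ.e (p.lz.act ⟨c, hcm⟩ (φ.e.symm (vec (2 ^ m.1)))) = vec (2 ^ m.1) := by
    intro m
    fin_cases m
    · exact hfix B.a_cd ha
    · exact hfix (B.h_cd 0) (hh 0)
    · exact hfix (B.h_cd 1) (hh 1)
    · exact hfix (B.h_cd 2) (hh 2)
    · exact hfix B.e_cd he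
    · exact hfix (B.q_cd 0) (hq 0)
    · exact hfix (B.q_cd 1) (hq 1)
    · exact hfix (B.q_cd 2) (hq 2)
  have hlin : ((φ.e : p.lz.V →ₗ[ZMod 2] F8) ∘ₗ (p.lz.act ⟨c, hcm⟩ : p.lz.V →ₗ[ZMod 2] p.lz.V) ∘ₗ
      (φ.e.symm : F8 →ₗ[ZMod 2] p.lz.V)) = LinearMap.id := by
    apply (Pi.basisFun (ZMod 2) (Fin 8)).ext
    intro m
    rw [Pi.basisFun_apply, basis_vec]
    exact hb m
  have hact : p.lz.act ⟨c, hcm⟩ = 1 := by
    ext v
    have h1 := LinearMap.congr_fun hlin (φ.e v)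
    simp only [LinearMap.comp_apply, LinearEquiv.coe_coe, LinearEquiv.symm_apply_apply, LinearMap.id_apply] at h1
    exact φ.e.injective h1
  have hcQ : c ∈ Q := p.lz.mem_of_act ⟨c, hcm⟩ hact
  obtain ⟨n, hn, hcn⟩ := exists_cd_of_mem φ hcQ
  have hcomm : ∀ {g : G}, c * g * c⁻¹ = g → c * g = g * c := fun h1 => by
    rw [mul_inv_eq_iff_eq_mul] at h1; exact h1
  have h0 : n = 0 := by
    have key : ∀ n < 256, bs (vec n) (vec 1) = 0 → (∀ i : Fin 3, bs (vec n) (vec (2 ^ (i.1 + 1))) = 0) →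
        bs (vec n) (vec 16) = 0 → (∀ i : Fin 3, bs (vec n) (vec (2 ^ (i.1 + 5))) = 0) → n = 0 := by
      decide +kernel
    exact key n hn (hcn.b_of_comm B.a_cd (hcomm ha)) (fun i => hcn.b_of_comm (B.h_cd i) (hcomm (hh i)))
      (hcn.b_of_comm B.e_cd (hcomm he)) (fun i => hcn.b_of_comm (B.q_cd i) (hcomm (hq i)))
  rw [h0] at hcn
  exact hcn.eq_or_zero

/-- Two elements of `C(z)` acting in the same way. -/
theorem Bas.eq_or [Finite G] (B : Bas p φ e h q) {c c' : G} (hcz : c * z = z * c) (hcz' : c' * z = z * c')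
    (ha : c * a * c⁻¹ = c' * a * c'⁻¹)
    (hh : ∀ i, c * h i * c⁻¹ = c' * h i * c'⁻¹) (he : c * e * c⁻¹ = c' * e * c'⁻¹)
    (hq : ∀ i, c * q i * c⁻¹ = c' * q i * c'⁻¹) : c = c' ∨ c = c' * z := by
  have key : ∀ {g : G}, c * g * c⁻¹ = c' * g * c'⁻¹ → (c'⁻¹ * c) * g * (c'⁻¹ * c)⁻¹ = g := by
    intro g h1
    calc (c'⁻¹ * c) * g * (c'⁻¹ * c)⁻¹ = c'⁻¹ * (c * g * c⁻¹) * c' := by group
      _ = g := by rw [h1]; group
  have hcz'' : c'⁻¹ * z = z * c'⁻¹ := by
    rw [inv_mul_eq_iff_eq_mul, ← mul_assoc, hcz', mul_assoc, mul_inv_cancel, mul_one]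
  rcases B.eq_one_or (c := c'⁻¹ * c) (by rw [mul_assoc, hcz, ← mul_assoc, hcz'', mul_assoc])
    (key ha) (fun i => key (hh i)) (key he) (fun i => key (hq i)) with h1 | h1
  · left
    rw [inv_mul_eq_iff_eq_mul, mul_one] at h1
    exact h1
  · right
    rw [inv_mul_eq_iff_eq_mul] at h1
    exact h1

/-! ### relations in `Q` -/

theorem Bas.ee (B : Bas p φ e h q) : e * e = 1 := B.e_cd.sq (by decide)

theorem Bas.hh (B : Bas p φ e h q) (i : Fin 3) : h i * h i = 1 := by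
  have : ∀ i : Fin 3, qs (vec (2 ^ (i.1 + 1))) = 0 := by decide
  exact (B.h_cd i).sq (this i)

theorem Bas.qq (B : Bas p φ e h q) (i : Fin 3) : q i * q i = 1 := by
  have : ∀ i : Fin 3, qs (vec (2 ^ (i.1 + 5))) = 0 := by decide
  exact (B.q_cd i).sq (this i)

theorem Bas.ah (B : Bas p φ e h q) (i : Fin 3) : a * h i = h i * a := by
  have : ∀ i : Fin 3, bs (vec 1) (vec (2 ^ (i.1 + 1))) = 0 := by decide
  exact B.a_cd.comm (B.h_cd i) (this i)

theorem Bas.aq (B : Bas p φ e h q) (i : Fin 3) : a * q i = q i * a := by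
  have : ∀ i : Fin 3, bs (vec 1) (vec (2 ^ (i.1 + 5))) = 0 := by decide
  exact B.a_cd.comm (B.q_cd i) (this i)

theorem Bas.hh' (B : Bas p φ e h q) (i j : Fin 3) : h i * h j = h j * h i := by
  have : ∀ i j : Fin 3, bs (vec (2 ^ (i.1 + 1))) (vec (2 ^ (j.1 + 1))) = 0 := by decide
  exact (B.h_cd i).comm (B.h_cd j) (this i j)

theorem Bas.qq' (B : Bas p φ e h q) (i j : Fin 3) : q i * q j = q j * q i := by
  have : ∀ i j : Fin 3, bs (vec (2 ^ (i.1 + 5))) (vec (2 ^ (j.1 + 5))) = 0 := by decide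
  exact (B.q_cd i).comm (B.q_cd j) (this i j)

theorem Bas.eh (B : Bas p φ e h q) (i : Fin 3) : e * h i = h i * e := by
  have : ∀ i : Fin 3, bs (vec 16) (vec (2 ^ (i.1 + 1))) = 0 := by decide
  exact B.e_cd.comm (B.h_cd i) (this i)

theorem Bas.eq (B : Bas p φ e h q) (i : Fin 3) : e * q i = q i * e := by
  have : ∀ i : Fin 3, bs (vec 16) (vec (2 ^ (i.1 + 5))) = 0 := by decide
  exact B.e_cd.comm (B.q_cd i) (this i)

theorem Bas.hq (B : Bas p φ e h q) {i j : Fin 3} (hij : i ≠ j) : h i * q j = q j * h i := by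
  have : ∀ i j : Fin 3, i ≠ j → bs (vec (2 ^ (i.1 + 1))) (vec (2 ^ (j.1 + 5))) = 0 := by decide
  exact (B.h_cd i).comm (B.q_cd j) (this i j hij)

theorem Bas.ea (B : Bas p φ e h q) : e * a = a * e * z := B.e_cd.ncomm B.a_cd (by decide)

theorem Bas.ae (B : Bas p φ e h q) : a * e = e * a * z := B.a_cd.ncomm B.e_cd (by decide)

theorem Bas.qh (B : Bas p φ e h q) (i : Fin 3) : q i * h i = h i * q i * z := by
  have : ∀ i : Fin 3, bs (vec (2 ^ (i.1 + 5))) (vec (2 ^ (i.1 + 1))) = 1 := by decide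
  exact (B.q_cd i).ncomm (B.h_cd i) (this i)

theorem Bas.hqi (B : Bas p φ e h q) (i : Fin 3) : h i * q i = q i * h i * z := by
  have : ∀ i : Fin 3, bs (vec (2 ^ (i.1 + 1))) (vec (2 ^ (i.1 + 5))) = 1 := by decide
  exact (B.h_cd i).ncomm (B.q_cd i) (this i)

end

/-! ### the elements `x i` -/

/-- the third index -/
def thd (i j : Fin 3) : Fin 3 := -(i + j)

theorem thd_ne : ∀ {i j : Fin 3}, i ≠ j → thd i j ≠ i ∧ thd i j ≠ j := by decide

theorem thd_comm (i j : Fin 3) : thd i j = thd j i := by rw [thd, thd, add_comm]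

/-- matrices of the transvections -/
def Xm (i : Fin 3) : List ℕ :=
  ![[1,3,4,8,48,32,72,132], [1,2,5,8,80,40,64,130], [1,2,4,9,144,36,66,128]] i

/-- `x` acts on `Q` as the `i`-th transvection -/
structure XAct (p : Pair Q z A a) (φ : Coord p.lz) (e : G) (h q : Fin 3 → G) (i : Fin 3) (x : G) : Prop where
  cd : ∀ g n, Cd φ g n → Cd φ (x * g * x⁻¹) (ap (Xm i) n)
  fz : x * z * x⁻¹ = z
  fa : x * a * x⁻¹ = a
  fh : x * h i * x⁻¹ = h i * a
  fh' : ∀ j, j ≠ i → x * h j * x⁻¹ = h j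
  fe : x * e * x⁻¹ = e * q i
  fq : x * q i * x⁻¹ = q i
  fq' : ∀ j, j ≠ i → x * q j * x⁻¹ = q j * h (thd i j)

section

variable {p : Pair Q z A a} {φ : Coord p.lz} {e : G} {h q : Fin 3 → G}

theorem exists_x [Finite G] (B : Bas p φ e h q) (hc : IsConf p φ confOplus) (i : Fin 3) :
    ∃ x ∈ A, XAct p φ e h q i x := by
  have hX : ∃ f ∈ p.X, Acts φ (Xm i) f := by
    have : ∀ i, Xm i ∈ confOplus.X := by decide
    exact hc.X _ (this i)
  obtain ⟨f, hf, hfa⟩ := hX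
  obtain ⟨c, hcA, rfl⟩ := p.mem_X.1 hf
  have hcz : (c : G) * z = z * c := Subgroup.mem_centralizer_singleton_iff.1 c.2
  -- the action on `D`
  have ca : (c : G) * a * (c : G)⁻¹ = a := by rw [p.la.comm_z c hcA, mul_inv_cancel_right]
  have ch : ∀ j, j ≠ i → (c : G) * h j * (c : G)⁻¹ = h j := by
    intro j hj
    rcases p.conj_D (B.hA j) hcA with h1 | h1
    · exact h1
    · exfalso
      have h2 := (B.h_cd j).conj hfa
      rw [h1] at h2
      have key : ∀ i j : Fin 3, j ≠ i → ap (Xm i) (2 ^ (j.1 + 1)) = 2 ^ (j.1 + 1) := by decide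
      rw [key i j hj] at h2
      have h3 := (B.h_cd j).mul B.a_cd
      have key2 : ∀ j : Fin 3, 2 ^ (j.1 + 1) < 256 ∧ 2 ^ (j.1 + 1) ^^^ 1 < 256 ∧ 2 ^ (j.1 + 1) ^^^ 1 ≠ 2 ^ (j.1 + 1) := by
        decide
      exact (key2 j).2.2 (Cd.inj (key2 j).2.1 (key2 j).1 h3 h2)
  have chi : (c : G) * h i * (c : G)⁻¹ = h i * a := by
    rcases p.conj_D (B.hA i) hcA with h1 | h1
    · exfalso
      have h2 := (B.h_cd i).conj hfa
      rw [h1] at h2
      have key : ∀ i : Fin 3, ap (Xm i) (2 ^ (i.1 + 1)) = 2 ^ (i.1 + 1) ^^^ 1 := by decide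
      rw [key i] at h2
      have key2 : ∀ j : Fin 3, 2 ^ (j.1 + 1) < 256 ∧ 2 ^ (j.1 + 1) ^^^ 1 < 256 ∧ 2 ^ (j.1 + 1) ^^^ 1 ≠ 2 ^ (j.1 + 1) := by
        decide
      exact (key2 i).2.2 (Cd.inj (key2 i).2.1 (key2 i).1 h2 (B.h_cd i))
    · exact h1
  -- signs
  have hSz : ∀ u ∈ A ⊓ Q, u * z = z * u := fun u hu => p.lz.comm_z u (Subgroup.mem_inf.1 hu).2
  obtain ⟨u, hu, hu2⟩ := exists_adjust (ι := Option (Fin 3)) (A ⊓ Q) (c : G) z
    (fun m => m.elim e q) (fun m => m.elim (e * q i) fun j => if j = i then q j else q j * h (thd i j))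
    (fun m => m.elim a h) p.lz.z_sq
    (by
      rintro (_ | j)
      · exact Subgroup.mem_inf.2 ⟨p.la.z_mem, p.a_mem⟩
      · exact Subgroup.mem_inf.2 ⟨B.hA j, (B.h_cd j).mem⟩)
    hSz hcz
    (by
      rintro (_ | j)
      · exact conj_of_ncomm p.lz p.a_mem B.ae
      · exact conj_of_ncomm p.lz (B.h_cd j).mem (B.hqi j))
    (by
      rintro (_ | j) (_ | l) hlm
      · exact absurd rfl hlm
      · exact conj_of_comm (B.aq l)
      · exact conj_of_comm (B.eh j).symm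
      · exact conj_of_comm (B.hq (fun hh => hlm (by rw [hh]))))
    (by
      rintro (_ | j)
      · refine Cd.eq_or (B.e_cd.conj hfa) ((B.e_cd.mul (B.q_cd i)).congr ?_)
        have key : ∀ i : Fin 3, 16 ^^^ 2 ^ (i.1 + 5) = ap (Xm i) 16 := by decide
        exact key i
      · show (c : G) * q j * (c : G)⁻¹ = (if j = i then q j else q j * h (thd i j)) ∨
          (c : G) * q j * (c : G)⁻¹ = (if j = i then q j else q j * h (thd i j)) * z
        refine Cd.eq_or ((B.q_cd j).conj hfa) ?_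
        split_ifs with hji
        · refine (B.q_cd j).congr ?_
          have key : ∀ i : Fin 3, 2 ^ (i.1 + 5) = ap (Xm i) (2 ^ (i.1 + 5)) := by decide
          rw [hji]; exact key i
        · refine ((B.q_cd j).mul (B.h_cd _)).congr ?_
          have key : ∀ i j : Fin 3, j ≠ i → 2 ^ (j.1 + 5) ^^^ 2 ^ ((thd i j).1 + 1) = ap (Xm i) (2 ^ (j.1 + 5)) := by
            decide
          exact key i j hji)
  obtain ⟨huA, huQ⟩ := Subgroup.mem_inf.1 hu
  have hc2 : ∀ g, ((c : G) * u) * g * ((c : G) * u)⁻¹ = (c : G) * (u * g * u⁻¹) * (c : G)⁻¹ := by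
    intro g; group
  have huD : ∀ {g}, g ∈ Q → g ∈ A → u * g * u⁻¹ = g := fun h1 h2 => conj_of_comm (p.comm_D huQ huA h1 h2)
  refine ⟨(c : G) * u, A.mul_mem hcA huA, ?_, ?_, ?_, ?_, ?_, ?_, ?_, ?_⟩
  · intro g n hg
    rw [hc2]
    exact (hg.conj_Q huQ).conj hfa
  · rw [hc2, huD p.lz.z_mem p.z_mem]; exact conj_of_comm hcz
  · rw [hc2, huD p.a_mem p.la.z_mem, ca]
  · rw [hc2, huD (B.h_cd i).mem (B.hA i), chi]
  · intro j hj
    rw [hc2, huD (B.h_cd j).mem (B.hA j), ch j hj]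
  · exact hu2 none
  · have := hu2 (some i)
    simpa using this
  · intro j hj
    have := hu2 (some j)
    simpa [hj] using this

end

end Cfsg.Agent.TypeO8Plus.LocalB
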