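import Cfsg.Agent.TypeO8Plus.SWBraid
import Cfsg.Agent.TypeO8Plus.FuKappa
import Cfsg.Agent.TypeO8Plus.LocalB

/-!
# `Ω₈⁺(2)`: the structure of `C_G(z)` (helper360)

(CS3) of the blueprint `S1763-O8plus-helper260.md`: every `c ∈ C(z)` is, up to an element of `C₀`, a permutation
of the three coordinates.
-/

set_option autoImplicit false

namespace Cfsg.Agent.TypeO8Plus.CStruct

open Cfsg.Agent.Co2Type.Quad Cfsg.Agent.LargeExtra.Base Cfsg.Agent.LargeExtra.Nine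
open Cfsg.Agent.LargeExtra.KillNine.Codes Cfsg.Agent.TypeO8Plus.Code
open Cfsg.Agent.LargeExtra.KillNine Cfsg.Agent.TypeO8Plus.SWBraid
open Cfsg.Agent.TypeO8Plus.FuBase Cfsg.Agent.TypeO8Plus.FuKappa

/-! ### finite checks -/

/-- the neighbours of `a` -/
def nb : List ℕ := [2, 3, 4, 5, 8, 9]

theorem mem_nb : ∀ m ∈ PtsOplus.orb, m ^^^ 1 ∈ PtsOplus.orb → m ∈ nb := by decide +kernel

/-- matrix of `x 0 ^ ε 0 * x 1 ^ ε 1 * x 2 ^ ε 2` -/
def Xe (e0 e1 e2 : Bool) : List ℕ :=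
  mulL (if e2 then mX 2 else idL) (mulL (if e1 then mX 1 else idL) (if e0 then mX 0 else idL))

theorem Xe_sq : ∀ e0 e1 e2, mulL (Xe e0 e1 e2) (Xe e0 e1 e2) = idL := by decide +kernel

theorem mP_Xe : ∀ π, ∀ e0 e1 e2, mulL (mulL (mP π) (Xe e0 e1 e2)) (Xe e0 e1 e2) = mP π := by decide +kernel

/-- the matrices of the stabiliser of `a` -/
def St (π : Equiv.Perm (Fin 3)) (e0 e1 e2 : Bool) : List ℕ := mulL (mP π) (Xe e0 e1 e2)

theorem St_zero : ∀ π, ∀ e0 e1 e2, (St π e0 e1 e2).getD 0 0 = 1 := by decide +kernel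

theorem St_len : ∀ π, ∀ e0 e1 e2, Pts.Wf (St π e0 e1 e2) := by decide +kernel

theorem st_h : ∀ m0 ∈ nb, ∀ m1 ∈ nb, ∀ m2 ∈ nb, (m1 = m0 ∨ m1 = m0 ^^^ 1 ∨ m2 = m0 ∨ m2 = m0 ^^^ 1 ∨
    m2 = m1 ∨ m2 = m1 ^^^ 1) ∨ ∃ π : Equiv.Perm (Fin 3), ∃ e0 e1 e2 : Bool,
      (St π e0 e1 e2).getD 1 0 = m0 ∧ (St π e0 e1 e2).getD 2 0 = m1 ∧ (St π e0 e1 e2).getD 3 0 = m2 := by
  decide +kernel

theorem st_p0 : ∀ π, ∀ e0 e1 e2, ∀ q ∈ PtsOplus.orb, q ≠ 1 → q ^^^ (St π e0 e1 e2).getD 2 0 ∈ PtsOplus.orb →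
    q ^^^ (St π e0 e1 e2).getD 3 0 ∈ PtsOplus.orb → q = (St π e0 e1 e2).getD 5 0 := by decide +kernel

theorem st_p1 : ∀ π, ∀ e0 e1 e2, ∀ q ∈ PtsOplus.orb, q ≠ 1 → q ^^^ (St π e0 e1 e2).getD 1 0 ∈ PtsOplus.orb →
    q ^^^ (St π e0 e1 e2).getD 3 0 ∈ PtsOplus.orb → q = (St π e0 e1 e2).getD 6 0 := by decide +kernel

theorem st_p2 : ∀ π, ∀ e0 e1 e2, ∀ q ∈ PtsOplus.orb, q ≠ 1 → q ^^^ (St π e0 e1 e2).getD 1 0 ∈ PtsOplus.orb →
    q ^^^ (St π e0 e1 e2).getD 2 0 ∈ PtsOplus.orb → q = (St π e0 e1 e2).getD 7 0 := by decide +kernel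

theorem st_e : ∀ π, ∀ e0 e1 e2, ∀ q ∈ PtsOplus.orb, q ≠ (St π e0 e1 e2).getD 3 0 →
    q ^^^ (St π e0 e1 e2).getD 5 0 ∈ PtsOplus.orb →
    q ^^^ (St π e0 e1 e2).getD 6 0 ∈ PtsOplus.orb → q = (St π e0 e1 e2).getD 4 0 := by decide +kernel

theorem St_id : ∀ π, ∀ e0 e1 e2, (St π e0 e1 e2).getD 1 0 = 2 →
    (St π e0 e1 e2).getD 2 0 = 4 → (St π e0 e1 e2).getD 3 0 = 8 →
    St π e0 e1 e2 = idL := by decide +kernel

/-- the elements `1, w i, w i * x i` -/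
def Nm (i k : Fin 3) : List ℕ := if k = 0 then idL else if k = 1 then mW i else mulL (mX i) (mW i)

theorem trans_check : ∀ m ∈ PtsOplus.orb, ∃ k0 k1 k2 : Fin 3,
    ap (mulL (mulL (Nm 2 k2) (Nm 1 k1)) (Nm 0 k0)) m = 1 := by decide +kernel

/-! ### the linear part -/

variable {G : Type*} [Group G] {Q A : Subgroup G} {z a : G}

section Lin

variable {p : Pair Q z A a} {φ : Coord p.lz} {E : El G}

theorem orb_lt : ∀ n ∈ PtsOplus.orb, n < 256 := by decide +kernel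

theorem xor_lt {m n : ℕ} (hm : m < 256) (hn : n < 256) : m ^^^ n < 256 :=
  Nat.xor_lt_two_pow (n := 8) hm hn

/-- `C(z)` permutes the 27 points -/
theorem image_orb [Finite G] (hc : IsConf p φ confOplus) {c : G} (hcz : c * z = z * c) {g : G} {n : ℕ}
    (hg : Cd φ g n) (hn : n ∈ PtsOplus.orb) : ∃ m ∈ PtsOplus.orb, Cd φ (c * g * c⁻¹) m := by
  obtain ⟨hgQ, hgc⟩ := hg
  have hcm : c ∈ Subgroup.centralizer ({z} : Set G) := Subgroup.mem_centralizer_singleton_iff.2 hcz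
  obtain ⟨m, hm, h1⟩ := orb_H hc (f := p.lz.act ⟨c, hcm⟩) ⟨_, rfl⟩ hn hgc
  rw [p.lz.act_pr] at h1
  exact ⟨m, hm, p.lz.conj_mem c hcz g hgQ, h1⟩

theorem conj_mul' (c g g' : G) : c * (g * g') * c⁻¹ = (c * g * c⁻¹) * (c * g' * c⁻¹) := by group

theorem pair_code [Finite G] (hc : IsConf p φ confOplus) {c : G} (hcz : c * z = z * c) {g g' : G} {n n' m m' : ℕ}
    (hg : Cd φ g n) (hg' : Cd φ g' n') (h : n ^^^ n' ∈ PtsOplus.orb) (hm : Cd φ (c * g * c⁻¹) m)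
    (hm' : Cd φ (c * g' * c⁻¹) m') (hlt : m < 256) (hlt' : m' < 256) : m ^^^ m' ∈ PtsOplus.orb := by
  obtain ⟨l, hl, h1⟩ := image_orb hc hcz (hg.mul hg') h
  rw [conj_mul'] at h1
  rw [Cd.inj (xor_lt hlt hlt') (orb_lt l hl) (hm.mul hm') h1]
  exact hl

theorem code_inj {h : Large Q z} {φ : Coord h} {c : G} (hcz : c * z = z * c) {g g' : G} {n n' m : ℕ}
    (hg : Cd φ g n) (hg' : Cd φ g' n') (hn : n < 256) (hn' : n' < 256) (hm : Cd φ (c * g * c⁻¹) m)
    (hm' : Cd φ (c * g' * c⁻¹) m) : n = n' := by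
  have h1 : g = g' ∨ g = g' * z := by
    rcases hm.eq_or hm' with h | h
    · left; exact mul_left_cancel (mul_right_cancel h)
    · right
      have hcz' : c⁻¹ * z = z * c⁻¹ := by
        rw [inv_mul_eq_iff_eq_mul, ← mul_assoc, hcz, mul_inv_cancel_right]
      rw [mul_assoc (c * g'), hcz', ← mul_assoc, mul_assoc c g' z] at h
      exact mul_left_cancel (mul_right_cancel h)
  rcases h1 with h | h
  · exact Cd.inj hn hn' hg (h ▸ hg')
  · exact Cd.inj hn hn' hg (h ▸ hg'.mul_z)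

/-- the stabiliser of `a` -/
theorem stab_mt [Finite G] (F : Frame p φ E) (hc : IsConf p φ confOplus) {c : G} (hcz : c * z = z * c)
    (h1 : Cd φ (c * E.a * c⁻¹) 1) : ∃ π e0 e1 e2, Mt φ c (St π e0 e1 e2) := by
  have ca := cd_a F hc.va
  have ch := cd_h F
  have ce := cd_e F
  have cp := cd_p F
  obtain ⟨m0, hm0, c0⟩ := image_orb hc hcz (ch 0) (by decide)
  obtain ⟨m1, hm1, c1⟩ := image_orb hc hcz (ch 1) (by decide)
  obtain ⟨m2, hm2, c2⟩ := image_orb hc hcz (ch 2) (by decide)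
  obtain ⟨q0, hq0, d0⟩ := image_orb hc hcz (cp 0) (by decide)
  obtain ⟨q1, hq1, d1⟩ := image_orb hc hcz (cp 1) (by decide)
  obtain ⟨q2, hq2, d2⟩ := image_orb hc hcz (cp 2) (by decide)
  obtain ⟨e, he, de⟩ := image_orb hc hcz ce (by decide)
  have l1 : (1 : ℕ) < 256 := by norm_num
  have lm0 := orb_lt m0 hm0
  have lm1 := orb_lt m1 hm1
  have lm2 := orb_lt m2 hm2
  have lq0 := orb_lt q0 hq0
  have lq1 := orb_lt q1 hq1
  have lq2 := orb_lt q2 hq2
  have n0 := mem_nb m0 hm0 (pair_code hc hcz (ch 0) ca (by decide) c0 h1 lm0 l1)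
  have n1 := mem_nb m1 hm1 (pair_code hc hcz (ch 1) ca (by decide) c1 h1 lm1 l1)
  have n2 := mem_nb m2 hm2 (pair_code hc hcz (ch 2) ca (by decide) c2 h1 lm2 l1)
  have ne : ∀ {g g' : G} {n n' m m' : ℕ}, Cd φ g n → Cd φ g' n' → n < 256 → n' < 256 → n ≠ n' →
      Cd φ (c * g * c⁻¹) m → Cd φ (c * g' * c⁻¹) m' → m ≠ m' := by
    intro g g' n n' m m' hg hg' hn hn' hnn hm hm' h
    exact hnn (code_inj hcz hg hg' hn hn' hm (h ▸ hm'))
  have hx : ∀ {g : G} {m : ℕ}, Cd φ (c * g * c⁻¹) m → Cd φ (c * (g * E.a) * c⁻¹) (m ^^^ 1) := by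
    intro g m hg
    rw [conj_mul']; exact hg.mul h1
  obtain h | ⟨π, e0, e1, e2, s0, s1, s2⟩ := st_h m0 n0 m1 n1 m2 n2
  · exfalso
    rcases h with h | h | h | h | h | h
    · exact ne (ch 1) (ch 0) (by decide) (by decide) (by decide) c1 c0 h
    · exact ne (ch 1) ((ch 0).mul ca) (by decide) (by decide) (by decide) c1 (hx c0) h
    · exact ne (ch 2) (ch 0) (by decide) (by decide) (by decide) c2 c0 h
    · exact ne (ch 2) ((ch 0).mul ca) (by decide) (by decide) (by decide) c2 (hx c0) h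
    · exact ne (ch 2) (ch 1) (by decide) (by decide) (by decide) c2 c1 h
    · exact ne (ch 2) ((ch 1).mul ca) (by decide) (by decide) (by decide) c2 (hx c1) h
  · have r0 := st_p0 π e0 e1 e2 q0 hq0 (ne (cp 0) ca (by decide) (by decide) (by decide) d0 h1)
      (by rw [s1]; exact pair_code hc hcz (cp 0) (ch 1) (by decide) d0 c1 lq0 lm1)
      (by rw [s2]; exact pair_code hc hcz (cp 0) (ch 2) (by decide) d0 c2 lq0 lm2)
    have r1 := st_p1 π e0 e1 e2 q1 hq1 (ne (cp 1) ca (by decide) (by decide) (by decide) d1 h1)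
      (by rw [s0]; exact pair_code hc hcz (cp 1) (ch 0) (by decide) d1 c0 lq1 lm0)
      (by rw [s2]; exact pair_code hc hcz (cp 1) (ch 2) (by decide) d1 c2 lq1 lm2)
    have r2 := st_p2 π e0 e1 e2 q2 hq2 (ne (cp 2) ca (by decide) (by decide) (by decide) d2 h1)
      (by rw [s0]; exact pair_code hc hcz (cp 2) (ch 0) (by decide) d2 c0 lq2 lm0)
      (by rw [s1]; exact pair_code hc hcz (cp 2) (ch 1) (by decide) d2 c1 lq2 lm1)
    have re := st_e π e0 e1 e2 e he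
      (by rw [s2]; exact ne ce (ch 2) (by decide) (by decide) (by decide) de c2)
      (by rw [← r0]; exact pair_code hc hcz ce (cp 0) (by decide) de d0 (orb_lt e he) lq0)
      (by rw [← r1]; exact pair_code hc hcz ce (cp 1) (by decide) de d1 (orb_lt e he) lq1)
    refine ⟨π, e0, e1, e2, mt_of_gens (by rw [hcz, mul_inv_cancel_right]) (cd_gen F hc.va) ?_⟩
    intro k
    have s3 := St_zero π e0 e1 e2
    fin_cases k
    · change Cd φ (c * E.a * c⁻¹) ((St π e0 e1 e2).getD 0 0)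
      rw [s3]; exact h1
    · change Cd φ (c * E.h 0 * c⁻¹) ((St π e0 e1 e2).getD 1 0)
      rw [s0]; exact c0
    · change Cd φ (c * E.h 1 * c⁻¹) ((St π e0 e1 e2).getD 2 0)
      rw [s1]; exact c1
    · change Cd φ (c * E.h 2 * c⁻¹) ((St π e0 e1 e2).getD 3 0)
      rw [s2]; exact c2
    · change Cd φ (c * E.e * c⁻¹) ((St π e0 e1 e2).getD 4 0)
      rw [← re]; exact de
    · change Cd φ (c * E.p 0 * c⁻¹) ((St π e0 e1 e2).getD 5 0)
      rw [← r0]; exact d0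
    · change Cd φ (c * E.p 1 * c⁻¹) ((St π e0 e1 e2).getD 6 0)
      rw [← r1]; exact d1
    · change Cd φ (c * E.p 2 * c⁻¹) ((St π e0 e1 e2).getD 7 0)
      rw [← r2]; exact d2

/-- an element of `C(z)` acting trivially on `D̃` is in `Q` -/
theorem mem_of_fix [Finite G] (F : Frame p φ E) (hc : IsConf p φ confOplus) {c : G} (hcz : c * z = z * c)
    (h1 : Cd φ (c * E.a * c⁻¹) 1) (h2 : ∀ i : Fin 3, Cd φ (c * E.h i * c⁻¹) (2 ^ (i.1 + 1))) : c ∈ Q := by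
  obtain ⟨π, e0, e1, e2, hm⟩ := stab_mt F hc hcz h1
  have hL := St_len π e0 e1 e2
  have hgen := cd_gen F hc.va
  have key : ∀ i : Fin 3, (St π e0 e1 e2).getD (i.1 + 1) 0 = 2 ^ (i.1 + 1) := by
    intro i
    have h3 := hm.cd (cd_h F i)
    have h4 : ap (St π e0 e1 e2) (2 ^ (i.1 + 1)) < 256 := Pts.ap_lt hL.2 _
    have h5 := Cd.inj h4 (by
      have : ∀ i : Fin 3, 2 ^ (i.1 + 1) < 256 := by decide
      exact this i) h3 (h2 i)
    rw [← h5]
    have h6 := Pts.lin_two_pow (St π e0 e1 e2) (i := i.1 + 1) (by omega)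
    rw [lin_vec] at h6
    exact (vec_inj _ h4 _ (Pts.getD_lt hL.2 _) h6).symm
  have h7 := St_id π e0 e1 e2 (key 0) (key 1) (key 2)
  rw [h7] at hm
  exact hm.mem

/-! ### transitivity -/

/-- the elements `1, w i, w i * x i` -/
def ne (E : El G) (i k : Fin 3) : G := if k = 0 then 1 else if k = 1 then E.w i else E.w i * E.x i

theorem mt_ne (F : Frame p φ E) (hc : IsConf p φ confOplus) (i k : Fin 3) : Mt φ (ne E i k) (Nm i k) := by
  unfold ne Nm
  split_ifs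
  · exact Mt.one
  · exact mt_w F hc.va i
  · exact (mt_w F hc.va i).mul (mt_x F hc.va i)

theorem x_mem_C0 (E : El G) (i : Fin 3) : E.x i ∈ C0 Q E :=
  Subgroup.mem_sup_right (Subgroup.subset_closure (Or.inl ⟨i, rfl⟩))

theorem w_mem_C0 (E : El G) (i : Fin 3) : E.w i ∈ C0 Q E :=
  Subgroup.mem_sup_right (Subgroup.subset_closure (Or.inr ⟨i, rfl⟩))

theorem q_mem_C0 (E : El G) {q : G} (hq : q ∈ Q) : q ∈ C0 Q E := Subgroup.mem_sup_left hq

theorem ne_mem (E : El G) (i k : Fin 3) : ne E i k ∈ C0 Q E := by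
  unfold ne
  split_ifs
  · exact Subgroup.one_mem _
  · exact w_mem_C0 E i
  · exact Subgroup.mul_mem _ (w_mem_C0 E i) (x_mem_C0 E i)

/-- an element of `C₀` moving a given point to `a` -/
theorem exists_trans (F : Frame p φ E) (hc : IsConf p φ confOplus) {m : ℕ} (hm : m ∈ PtsOplus.orb) :
    ∃ n ∈ C0 Q E, ∃ L, Mt φ n L ∧ ap L m = 1 := by
  obtain ⟨k0, k1, k2, h⟩ := trans_check m hm
  refine ⟨ne E 0 k0 * (ne E 1 k1 * ne E 2 k2), ?_, _, ?_, h⟩
  · exact Subgroup.mul_mem _ (ne_mem E 0 k0) (Subgroup.mul_mem _ (ne_mem E 1 k1) (ne_mem E 2 k2))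
  · have h1 := ((mt_ne F hc 0 k0).mul ((mt_ne F hc 1 k1).mul (mt_ne F hc 2 k2)))
    exact h1

/-! ### exactness on `Q` -/

/-- dual elements -/
def del (E : El G) : Fin 8 → G := ![E.e, E.p 0, E.p 1, E.p 2, E.a, E.h 0, E.h 1, E.h 2]

/-- codes of the dual elements -/
def delc : Fin 8 → ℕ := ![16, 32, 64, 128, 1, 2, 4, 8]

/-- the images of the generators -/
def tg (E : El G) (π : Equiv.Perm (Fin 3)) : Fin 8 → G :=
  ![E.a, E.h (π 0), E.h (π 1), E.h (π 2), E.e, E.p (π 0), E.p (π 1), E.p (π 2)]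

theorem cd_del (F : Frame p φ E) (hc : IsConf p φ confOplus) (k : Fin 8) : Cd φ (del E k) (delc k) := by
  fin_cases k
  · exact cd_e F
  · exact cd_p F 0
  · exact cd_p F 1
  · exact cd_p F 2
  · exact cd_a F hc.va
  · exact cd_h F 0
  · exact cd_h F 1
  · exact cd_h F 2

theorem cd_tg (F : Frame p φ E) (hc : IsConf p φ confOplus) (π : Equiv.Perm (Fin 3)) (k : Fin 8) :
    Cd φ (tg E π k) ((mP π).getD k 0) := by
  fin_cases k
  · exact cd_a F hc.va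
  · exact cd_h F (π 0)
  · exact cd_h F (π 1)
  · exact cd_h F (π 2)
  · exact cd_e F
  · exact cd_p F (π 0)
  · exact cd_p F (π 1)
  · exact cd_p F (π 2)

/-- exact on `Q` -/
structure IsP (E : El G) (π : Equiv.Perm (Fin 3)) (t : G) : Prop where
  z : t * E.z * t⁻¹ = E.z
  a : t * E.a * t⁻¹ = E.a
  e : t * E.e * t⁻¹ = E.e
  h : ∀ i, t * E.h i * t⁻¹ = E.h (π i)
  p : ∀ i, t * E.p i * t⁻¹ = E.p (π i)

theorem cases3 : ∀ i : Fin 3, i = 0 ∨ i = 1 ∨ i = 2 := by decide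

theorem exists_exact (F : Frame p φ E) (hc : IsConf p φ confOplus) {c : G}
    {π : Equiv.Perm (Fin 3)} (hm : Mt φ c (mP π)) : ∃ u ∈ Q, IsP E π (c * u) := by
  have hcz := hm.comm
  obtain ⟨u, hu, h1⟩ := LocalB.exists_adjust Q c z (gen E) (tg E π) (del E) p.lz.z_sq
    (fun k => (cd_del F hc k).mem) (fun u hu => p.lz.comm_z u hu) hcz
    (fun k => by
      have hb : ∀ k : Fin 8, bs (vec (delc k)) (vec (2 ^ (k : ℕ))) = 1 := by decide
      exact LocalB.conj_of_ncomm p.lz (cd_del F hc k).mem ((cd_del F hc k).ncomm (cd_gen F hc.va k) (hb k)))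
    (fun k l hkl => by
      have hb : ∀ k l : Fin 8, l ≠ k → bs (vec (delc k)) (vec (2 ^ (l : ℕ))) = 0 := by decide
      exact LocalB.conj_of_comm ((cd_del F hc k).comm (cd_gen F hc.va l) (hb k l hkl)))
    (fun k => by
      have h1 := hm.cd (cd_gen F hc.va k)
      have h2 : ∀ π : Equiv.Perm (Fin 3), ∀ k : Fin 8, ap (mP π) (2 ^ (k : ℕ)) = (mP π).getD k 0 := by decide +kernel
      rw [h2] at h1
      exact h1.eq_or (cd_tg F hc π k))
  refine ⟨u, hu, ?_, h1 0, h1 4, ?_, ?_⟩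
  · have h2 : (c * u) * z = z * (c * u) := by
      rw [mul_assoc, p.lz.comm_z u hu, ← mul_assoc, hcz, mul_assoc]
    rw [F.z, h2, mul_inv_cancel_right]
  · intro i
    rcases cases3 i with rfl | rfl | rfl
    · exact h1 1
    · exact h1 2
    · exact h1 3
  · intro i
    rcases cases3 i with rfl | rfl | rfl
    · exact h1 5
    · exact h1 6
    · exact h1 7

/-- an element of `C(z)` commuting with all generators of `Q` is `1` or `z` -/
theorem eq_one_or [Finite G] (F : Frame p φ E) (hc : IsConf p φ confOplus) {c : G} (h1 : IsP E 1 c) :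
    c = 1 ∨ c = z := by
  have hcz : c * z = z * c := by
    have := h1.z
    rw [F.z] at this
    exact mul_inv_eq_iff_eq_mul.1 this
  have hQ : c ∈ Q := mem_of_fix F hc hcz (by rw [h1.a]; exact cd_a F hc.va)
    (fun i => by rw [h1.h]; exact cd_h F i)
  obtain ⟨n, hn, hcd⟩ := exists_cd_of_mem φ hQ
  have hcomm : ∀ {x}, c * x * c⁻¹ = x → c * x = x * c := fun h => mul_inv_eq_iff_eq_mul.1 h
  have key : ∀ n ∈ List.range 256, bs (vec n) (vec 1) = 0 → bs (vec n) (vec 16) = 0 →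
      (bs (vec n) (vec 2) = 0 ∧ bs (vec n) (vec 4) = 0 ∧ bs (vec n) (vec 8) = 0) →
      (bs (vec n) (vec 32) = 0 ∧ bs (vec n) (vec 64) = 0 ∧ bs (vec n) (vec 128) = 0) → n = 0 := by
    decide +kernel
  have h2 := key n (List.mem_range.2 hn) (hcd.b_of_comm (cd_a F hc.va) (hcomm h1.a))
    (hcd.b_of_comm (cd_e F) (hcomm h1.e))
    ⟨hcd.b_of_comm (cd_h F 0) (hcomm (h1.h 0)), hcd.b_of_comm (cd_h F 1) (hcomm (h1.h 1)),
      hcd.b_of_comm (cd_h F 2) (hcomm (h1.h 2))⟩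
    ⟨hcd.b_of_comm (cd_p F 0) (hcomm (h1.p 0)), hcd.b_of_comm (cd_p F 1) (hcomm (h1.p 1)),
      hcd.b_of_comm (cd_p F 2) (hcomm (h1.p 2))⟩
  rw [h2] at hcd
  exact hcd.eq_or_zero

/-! ### exactness on `s` -/

theorem exists_s [Finite G] (F : Frame p φ E) (hc : IsConf p φ confOplus) {c : G}
    {π : Equiv.Perm (Fin 3)} (hm : IsP E π c) :
    ∃ n ∈ Q, IsP E π (n * c) ∧ (n * c) * E.s * (n * c)⁻¹ = E.s := by
  have hss := F.weyl.ss
  have hsi := inv_of_sq hss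
  obtain ⟨s', hs'⟩ : ∃ s', s' = c * E.s * c⁻¹ := ⟨_, rfl⟩
  have hcinv : ∀ {g g'}, c * g * c⁻¹ = g' → c⁻¹ * g' * c = g := by
    rintro g g' rfl; group
  have hsc : ∀ g g' g'' g''', c * g * c⁻¹ = g' → E.s * g * E.s⁻¹ = g'' → c * g'' * c⁻¹ = g''' →
      s' * g' * s'⁻¹ = g''' := by
    rintro g g' g'' g''' rfl rfl rfl
    rw [hs']; group
  have sz : s' * E.z * s'⁻¹ = E.a := hsc _ _ _ _ hm.z F.S_rel.z hm.a
  have sa : s' * E.a * s'⁻¹ = E.z := hsc _ _ _ _ hm.a F.S_rel.a hm.z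
  have sh : ∀ i, s' * E.h i * s'⁻¹ = E.h i := by
    intro i
    have h1 := hm.h (π.symm i)
    rw [Equiv.apply_symm_apply] at h1
    exact hsc _ _ _ _ h1 (F.S_rel.h _) h1
  have s'e : s' * E.e * s' = E.e * s' * E.e := by
    have h1 : c * (E.s * E.e * E.s) * c⁻¹ = c * (E.e * E.s * E.e) * c⁻¹ := by rw [F.weyl.se]
    have h2 : c * (E.s * E.e * E.s) * c⁻¹ = s' * (c * E.e * c⁻¹) * s' := by rw [hs']; group
    have h3 : c * (E.e * E.s * E.e) * c⁻¹ = (c * E.e * c⁻¹) * s' * (c * E.e * c⁻¹) := by rw [hs']; group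
    rw [h2, h3, hm.e] at h1
    exact h1
  have s's' : s' * s' = 1 := by
    rw [hs']
    calc c * E.s * c⁻¹ * (c * E.s * c⁻¹) = c * (E.s * E.s) * c⁻¹ := by group
      _ = 1 := by rw [hss]; group
  -- `u = s' s⁻¹`
  obtain ⟨u, hu⟩ : ∃ u, u = s' * E.s := ⟨_, rfl⟩
  have hus : s' = u * E.s := by rw [hu, mul_assoc, hss, mul_one]
  have huc : ∀ g g' g'', E.s * g * E.s⁻¹ = g' → s' * g' * s'⁻¹ = g'' → u * g * u⁻¹ = g'' := by
    rintro g g' g'' rfl rfl
    rw [hu]; group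
  have uz : u * E.z * u⁻¹ = E.z := huc _ _ _ F.S_rel.z sa
  have ua : u * E.a * u⁻¹ = E.a := huc _ _ _ F.S_rel.a sz
  have uh : ∀ i, u * E.h i * u⁻¹ = E.h i := fun i => huc _ _ _ (F.S_rel.h i) (sh i)
  have hcomm : ∀ {x}, u * x * u⁻¹ = x → u * x = x * u := fun h => mul_inv_eq_iff_eq_mul.1 h
  have huz : u * z = z * u := by
    have := hcomm uz
    rwa [F.z] at this
  have hQ : u ∈ Q := mem_of_fix F hc huz (by rw [ua]; exact cd_a F hc.va)
    (fun i => by rw [uh]; exact cd_h F i)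
  obtain ⟨n, hn, hcd⟩ := exists_cd_of_mem φ hQ
  have key : ∀ n ∈ List.range 256, bs (vec n) (vec 1) = 0 →
      (bs (vec n) (vec 2) = 0 ∧ bs (vec n) (vec 4) = 0 ∧ bs (vec n) (vec 8) = 0) → qs (vec n) = 0 := by
    decide +kernel
  have huu : u * u = 1 := hcd.sq (key n (List.mem_range.2 hn) (hcd.b_of_comm (cd_a F hc.va) (hcomm ua))
    ⟨hcd.b_of_comm (cd_h F 0) (hcomm (uh 0)), hcd.b_of_comm (cd_h F 1) (hcomm (uh 1)),
      hcd.b_of_comm (cd_h F 2) (hcomm (uh 2))⟩)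
  -- `s u s = u`
  have hsus : E.s * u * E.s = u := by
    have h1 : u * E.s * (u * E.s) = 1 := by rw [← hus, s's']
    have h2 : E.s * u * E.s = u⁻¹ := by
      rw [eq_comm, inv_eq_iff_mul_eq_one]
      rw [← h1]; group
    rw [h2, inv_of_sq huu]
  have hee := F.Q_rel.ee
  have hzz := F.Q_rel.zz
  have hza := F.Q_rel.za
  have hsz : E.s * E.z * E.s = E.a := by have := F.S_rel.z; rwa [hsi] at this
  -- `u ∈ {1, z a}`
  have hcase : u = 1 ∨ u = E.z * E.a := by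
    rcases p.lz.comm E.e F.e_mem u hQ with h1 | h1
    · left
      rw [hus] at s'e
      have h2 : u * E.s * E.e * (u * E.s) = E.s * E.e * E.s := by
        calc u * E.s * E.e * (u * E.s) = u * E.s * (E.e * u) * E.s := by group
          _ = u * (E.s * u * E.s) * (E.s⁻¹ * E.e * E.s) := by rw [h1]; group
          _ = E.s * E.e * E.s := by rw [hsus, huu, one_mul, hsi]
      have h3 : E.e * (u * E.s) * E.e = u * (E.s * E.e * E.s) := by
        calc E.e * (u * E.s) * E.e = (E.e * u) * E.s * E.e := by group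
          _ = u * (E.e * E.s * E.e) := by rw [h1]; group
          _ = _ := by rw [F.weyl.se]
      rw [h2, h3] at s'e
      exact (mul_eq_right.1 s'e.symm)
    · right
      rw [← F.z] at h1
      rw [hus] at s'e
      have hze := F.Q_rel.ze
      have h2 : u * E.s * E.e * (u * E.s) = E.a * (E.s * E.e * E.s) := by
        calc u * E.s * E.e * (u * E.s) = u * E.s * (E.e * u) * E.s := by group
          _ = u * E.s * u * (E.e * E.z) * E.s := by rw [h1]; group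
          _ = u * E.s * u * (E.z * E.e) * E.s := by rw [hze]
          _ = u * (E.s * u * E.s) * (E.s⁻¹ * E.z * E.s⁻¹) * (E.s * E.e * E.s) := by group
          _ = E.a * (E.s * E.e * E.s) := by rw [hsus, huu, one_mul, hsi, hsz]
      have h3 : E.e * (u * E.s) * E.e = u * E.z * (E.s * E.e * E.s) := by
        calc E.e * (u * E.s) * E.e = (E.e * u) * E.s * E.e := by group
          _ = u * (E.e * E.z) * E.s * E.e := by rw [h1]; group
          _ = u * E.z * (E.e * E.s * E.e) := by rw [← hze]; group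
          _ = _ := by rw [F.weyl.se]
      rw [h2, h3] at s'e
      have h4 : E.a = u * E.z := mul_right_cancel s'e
      rw [hza, h4, mul_assoc, hzz, mul_one]
  have hQz : ∀ g, g ∈ Q → E.z * g * E.z⁻¹ = g := by
    intro g hg
    rw [F.z, ← p.lz.comm_z g hg, mul_inv_cancel_right]
  rcases hcase with h | h
  · refine ⟨1, Q.one_mem, ?_, ?_⟩
    · rw [one_mul]; exact hm
    · rw [one_mul, ← hs', hus, h, one_mul]
  · refine ⟨E.z, by rw [F.z]; exact p.lz.z_mem, ⟨?_, ?_, ?_, ?_, ?_⟩, ?_⟩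
    · rw [SWBraid.conj_mul, hm.z, mul_inv_cancel_right]
    · rw [SWBraid.conj_mul, hm.a]; exact hQz _ (cd_a F hc.va).mem
    · rw [SWBraid.conj_mul, hm.e]; exact hQz _ F.e_mem
    · intro i; rw [SWBraid.conj_mul, hm.h]; exact hQz _ (F.h_mem _)
    · intro i; rw [SWBraid.conj_mul, hm.p]; exact hQz _ (F.p_mem _)
    · rw [SWBraid.conj_mul, ← hs', hus, h, inv_of_sq hzz]
      calc E.z * (E.z * E.a * E.s) * E.z = (E.z * E.z) * E.a * (E.s * E.z * E.s) * E.s⁻¹ := by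
            group
        _ = E.s := by rw [hzz, hsz, one_mul, F.Q_rel.aa, one_mul, hsi]

/-! ### the permutations -/

theorem third : ∀ (π : Equiv.Perm (Fin 3)) (i : Fin 3),
    (π (i + 1) = π i + 1 ∧ π (i + 2) = π i + 2) ∨ (π (i + 1) = π i + 2 ∧ π (i + 2) = π i + 1) := by
  decide +kernel

theorem isPerm_of [Finite G] (F : Frame p φ E) (hc : IsConf p φ confOplus) {c : G}
    {π : Equiv.Perm (Fin 3)} (hm : IsP E π c) (hs : c * E.s * c⁻¹ = E.s) : IsPerm E π c := by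
  have hx : ∀ i, c * E.x i * c⁻¹ = E.x (π i) := by
    intro i
    rw [← F.S_rel.p i, ← F.S_rel.p (π i)]
    calc c * (E.s * E.p i * E.s⁻¹) * c⁻¹ = (c * E.s * c⁻¹) * (c * E.p i * c⁻¹) * (c * E.s * c⁻¹)⁻¹ := by group
      _ = _ := by rw [hs, hm.p]
  refine ⟨hm.z, hm.a, hm.e, hs, hm.h, hm.p, hx, ?_⟩
  intro i
  obtain ⟨w', hw'⟩ : ∃ w', w' = c * E.w i * c⁻¹ := ⟨_, rfl⟩
  have W := F.W_rel
  have hwc : ∀ g g' g'' g''', c * g * c⁻¹ = g' → E.w i * g * (E.w i)⁻¹ = g'' → c * g'' * c⁻¹ = g''' →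
      w' * g' * w'⁻¹ = g''' := by
    rintro g g' g'' g''' rfl rfl rfl
    rw [hw']; group
  -- `w'` and `w (π i)` act equally
  have hww := F.weyl.ww (π i)
  have hwi := inv_of_sq hww
  obtain ⟨u, hu⟩ : ∃ u, u = w' * E.w (π i) := ⟨_, rfl⟩
  have huc : ∀ g g' g'', E.w (π i) * g * (E.w (π i))⁻¹ = g' → w' * g' * w'⁻¹ = g'' → u * g * u⁻¹ = g'' := by
    rintro g g' g'' rfl rfl
    rw [hu]; group
  have uz : u * E.z * u⁻¹ = E.z := huc _ _ _ (W.z _) (hwc _ _ _ _ hm.z (W.z i) hm.z)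
  have ua : u * E.a * u⁻¹ = E.a := huc _ _ _ (W.a _) (hwc _ _ _ _ (hm.h i) (W.h i) hm.a)
  have ue : u * E.e * u⁻¹ = E.e := huc _ _ _ (W.e _) (hwc _ _ _ _ (hm.p i) (W.p i) hm.e)
  have uh : ∀ j, u * E.h j * u⁻¹ = E.h j := by
    intro j
    have hj : j = π i ∨ j = π i + 1 ∨ j = π i + 2 := by
      have : ∀ i j : Fin 3, j = i ∨ j = i + 1 ∨ j = i + 2 := by decide
      exact this _ _
    rcases hj with rfl | rfl | rfl
    · exact huc _ _ _ (W.h _) (hwc _ _ _ _ hm.a (W.a i) (hm.h i))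
    · refine huc _ _ _ (W.h1 _) ?_
      rcases third π i with ⟨h1, h2⟩ | ⟨h1, h2⟩
      · exact hwc _ _ _ _ (h2 ▸ hm.p (i + 2)) (W.p2 i) (h1 ▸ hm.h (i + 1))
      · exact hwc _ _ _ _ (h1 ▸ hm.p (i + 1)) (W.p1 i) (h2 ▸ hm.h (i + 2))
    · refine huc _ _ _ (W.h2 _) ?_
      rcases third π i with ⟨h1, h2⟩ | ⟨h1, h2⟩
      · exact hwc _ _ _ _ (h1 ▸ hm.p (i + 1)) (W.p1 i) (h2 ▸ hm.h (i + 2))
      · exact hwc _ _ _ _ (h2 ▸ hm.p (i + 2)) (W.p2 i) (h1 ▸ hm.h (i + 1))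
  have up : ∀ j, u * E.p j * u⁻¹ = E.p j := by
    intro j
    have hj : j = π i ∨ j = π i + 1 ∨ j = π i + 2 := by
      have : ∀ i j : Fin 3, j = i ∨ j = i + 1 ∨ j = i + 2 := by decide
      exact this _ _
    rcases hj with rfl | rfl | rfl
    · exact huc _ _ _ (W.p _) (hwc _ _ _ _ hm.e (W.e i) (hm.p i))
    · refine huc _ _ _ (W.p1 _) ?_
      rcases third π i with ⟨h1, h2⟩ | ⟨h1, h2⟩
      · exact hwc _ _ _ _ (h2 ▸ hm.h (i + 2)) (W.h2 i) (h1 ▸ hm.p (i + 1))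
      · exact hwc _ _ _ _ (h1 ▸ hm.h (i + 1)) (W.h1 i) (h2 ▸ hm.p (i + 2))
    · refine huc _ _ _ (W.p2 _) ?_
      rcases third π i with ⟨h1, h2⟩ | ⟨h1, h2⟩
      · exact hwc _ _ _ _ (h1 ▸ hm.h (i + 1)) (W.h1 i) (h2 ▸ hm.p (i + 2))
      · exact hwc _ _ _ _ (h2 ▸ hm.h (i + 2)) (W.h2 i) (h1 ▸ hm.p (i + 1))
  have hw'u : w' = u * E.w (π i) := by rw [hu, mul_assoc, hww, mul_one]
  rcases eq_one_or F hc (c := u) ⟨uz, ua, ue, uh, up⟩ with h | h
  · rw [← hw', hw'u, h, one_mul]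
  · exfalso
    have h1 : c * (E.x i * E.w i * E.x i) * c⁻¹ = c * (E.w i * E.x i * E.w i) * c⁻¹ := by rw [F.weyl.xw]
    have h2 : c * (E.x i * E.w i * E.x i) * c⁻¹ = (c * E.x i * c⁻¹) * w' * (c * E.x i * c⁻¹) := by
      rw [hw']; group
    have h3 : c * (E.w i * E.x i * E.w i) * c⁻¹ = w' * (c * E.x i * c⁻¹) * w' := by rw [hw']; group
    rw [h2, h3, hx, hw'u, h, ← F.z] at h1
    have xz : E.x (π i) * E.z = E.z * E.x (π i) := mul_inv_eq_iff_eq_mul.1 (F.X_rel.z _)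
    have wz : E.w (π i) * E.z = E.z * E.w (π i) := mul_inv_eq_iff_eq_mul.1 (F.W_rel.z _)
    have h4 : E.x (π i) * (E.z * E.w (π i)) * E.x (π i) =
        E.z * (E.x (π i) * E.w (π i) * E.x (π i)) := by
      rw [← mul_assoc, xz]; group
    have h5 : E.z * E.w (π i) * E.x (π i) * (E.z * E.w (π i)) =
        E.w (π i) * E.x (π i) * E.w (π i) := by
      calc E.z * E.w (π i) * E.x (π i) * (E.z * E.w (π i))
          = E.z * E.w (π i) * (E.x (π i) * E.z) * E.w (π i) := by group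
        _ = E.z * (E.w (π i) * E.z) * E.x (π i) * E.w (π i) := by rw [xz]; group
        _ = (E.z * E.z) * E.w (π i) * E.x (π i) * E.w (π i) := by rw [wz]; group
        _ = _ := by rw [F.Q_rel.zz, one_mul]
    rw [h4, h5, ← F.weyl.xw] at h1
    exact F.Q_rel.z_ne (mul_eq_right.1 h1)

/-! ### the main theorem -/

/-- `x 0 ^ e0 * x 1 ^ e1 * x 2 ^ e2` -/
def xe (E : El G) (e0 e1 e2 : Bool) : G :=
  (if e0 then E.x 0 else 1) * ((if e1 then E.x 1 else 1) * (if e2 then E.x 2 else 1))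

theorem mt_xe (F : Frame p φ E) (hc : IsConf p φ confOplus) (e0 e1 e2 : Bool) :
    Mt φ (xe E e0 e1 e2) (Xe e0 e1 e2) := by
  have h1 : ∀ (i : Fin 3) (b : Bool), Mt φ (if b then E.x i else 1) (if b then mX i else idL) := by
    intro i b
    cases b
    · exact Mt.one
    · exact mt_x F hc.va i
  have h2 := (h1 0 e0).mul ((h1 1 e1).mul (h1 2 e2))
  have key : ∀ e0 e1 e2 : Bool, mulL (mulL (if e2 then mX 2 else idL) (if e1 then mX 1 else idL))
      (if e0 then mX 0 else idL) = Xe e0 e1 e2 := by decide +kernel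
  exact h2.congr (key e0 e1 e2)

theorem xe_sq (F : Frame p φ E) (e0 e1 e2 : Bool) : xe E e0 e1 e2 * xe E e0 e1 e2 = 1 := by
  have hxx := F.weyl.xx
  have h01 := F.weyl.xx' 0 1
  have h02 := F.weyl.xx' 0 2
  have h12 := F.weyl.xx' 1 2
  have key : ∀ (a b c : G), a * a = 1 → b * b = 1 → c * c = 1 → a * b = b * a → a * c = c * a →
      b * c = c * b → a * (b * c) * (a * (b * c)) = 1 := by
    intro a b c ha hb hc hab hac hbc
    calc a * (b * c) * (a * (b * c)) = a * b * (c * a) * b * c := by group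
      _ = a * (b * a) * c * b * c := by rw [← hac]; group
      _ = (a * a) * b * (c * b) * c := by rw [← hab]; group
      _ = (b * b) * (c * c) := by rw [ha, ← hbc]; group
      _ = 1 := by rw [hb, hc, mul_one]
  have hb : ∀ (i : Fin 3) (b : Bool), (if b then E.x i else 1) * (if b then E.x i else 1) = 1 := by
    intro i b
    cases b
    · exact mul_one 1
    · exact hxx i
  have hcm : ∀ (i j : Fin 3) (b b' : Bool), (if b then E.x i else 1) * (if b' then E.x j else 1) =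
      (if b' then E.x j else 1) * (if b then E.x i else 1) := by
    intro i j b b'
    cases b <;> cases b'
    · rfl
    · exact (one_mul _).trans (mul_one _).symm
    · exact (mul_one _).trans (one_mul _).symm
    · exact F.weyl.xx' i j
  exact key _ _ _ (hb 0 e0) (hb 1 e1) (hb 2 e2) (hcm 0 1 e0 e1) (hcm 0 2 e0 e2) (hcm 1 2 e1 e2)

theorem xe_mem (E : El G) (e0 e1 e2 : Bool) : xe E e0 e1 e2 ∈ C0 Q E := by
  have h1 : ∀ (i : Fin 3) (b : Bool), (if b then E.x i else 1) ∈ C0 Q E := by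
    intro i b
    cases b
    · exact Subgroup.one_mem _
    · exact x_mem_C0 E i
  exact Subgroup.mul_mem _ (h1 0 e0) (Subgroup.mul_mem _ (h1 1 e1) (h1 2 e2))

/-- `c` with the matrix of a permutation -/
theorem exists_perm_of_mt [Finite G] (F : Frame p φ E) (hc : IsConf p φ confOplus) {c : G}
    {π : Equiv.Perm (Fin 3)} (hm : Mt φ c (mP π)) : ∃ q ∈ Q, IsPerm E π (q * c) := by
  obtain ⟨u, hu, h1⟩ := exists_exact F hc hm
  obtain ⟨n, hn, h2, h3⟩ := exists_s F hc h1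
  have h4 := isPerm_of F hc h2 h3
  have hcz := hm.comm
  refine ⟨n * (c * u * c⁻¹), Q.mul_mem hn (p.lz.conj_mem c hcz u hu), ?_⟩
  have : n * (c * u * c⁻¹) * c = n * (c * u) := by group
  rw [this]
  exact h4

/-- **the stabiliser of `a`** in `C(z)`: `c = q x^ε τ` -/
theorem stab [Finite G] (F : Frame p φ E) (hc : IsConf p φ confOplus) {c : G} (hcz : c * z = z * c)
    (h1 : Cd φ (c * E.a * c⁻¹) 1) :
    ∃ q ∈ Q, ∃ e0 e1 e2, ∃ π t, IsPerm E π t ∧ c = q * xe E e0 e1 e2 * t := by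
  obtain ⟨π, e0, e1, e2, hm⟩ := stab_mt F hc hcz h1
  have h2 := (mt_xe F hc e0 e1 e2).mul hm
  rw [St, mP_Xe] at h2
  obtain ⟨q, hq, h3⟩ := exists_perm_of_mt F hc h2
  have hxz := (mt_xe F hc e0 e1 e2).comm
  refine ⟨xe E e0 e1 e2 * q⁻¹ * (xe E e0 e1 e2)⁻¹, p.lz.conj_mem _ hxz _ (Q.inv_mem hq), e0, e1, e2, π, _, h3, ?_⟩
  have h4 := xe_sq F e0 e1 e2
  calc c = (xe E e0 e1 e2 * xe E e0 e1 e2) * c := by rw [h4, one_mul]
    _ = _ := by group

/-- **(CS3)** every element of `C(z)` is a permutation of the coordinates up to `C₀` -/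
theorem hcs3 [Finite G] (F : Frame p φ E) (hc : IsConf p φ confOplus) :
    ∀ c ∈ Subgroup.centralizer ({z} : Set G), ∃ n ∈ C0 Q E, ∃ π, IsPerm E π (n * c) := by
  intro c hcm
  have hcz : c * z = z * c := Subgroup.mem_centralizer_singleton_iff.1 hcm
  obtain ⟨m, hm, h1⟩ := image_orb hc hcz (cd_a F hc.va) (by decide)
  obtain ⟨n, hn, L, hL, h2⟩ := exists_trans F hc hm
  have h3 := hL.cd h1
  rw [h2] at h3
  have hnz := hL.comm
  have hncz : (n * c) * z = z * (n * c) := by rw [mul_assoc, hcz, ← mul_assoc, hnz, mul_assoc]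
  have h4 : Cd φ (n * c * E.a * (n * c)⁻¹) 1 := by
    rw [SWBraid.conj_mul]; exact h3
  obtain ⟨q, hq, e0, e1, e2, π, t, ht, h5⟩ := stab F hc hncz h4
  refine ⟨(q * xe E e0 e1 e2)⁻¹ * n, Subgroup.mul_mem _ (Subgroup.inv_mem _
    (Subgroup.mul_mem _ (q_mem_C0 E hq) (xe_mem E e0 e1 e2))) hn, π, ?_⟩
  have h6 : (q * xe E e0 e1 e2)⁻¹ * n * c = t := by
    rw [mul_assoc, h5]; group
  rw [h6]
  exact ht

end Lin

end Cfsg.Agent.TypeO8Plus.CStruct
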