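import Mathlib

/-!
# A closing criterion: far pairs (helper260)

`Z` is a class of involutions of the finite group `G` and `M` a subgroup with `Z ∩ M ≠ ∅` such that every `x ∈ Z ∩ M`
is contained in no other conjugate of `M` (`ctrl`).  A *far pair* of `M` is a pair of commuting elements `x ≠ y` of
`Z ∩ M` with `x y ∉ Z`.  Under the conditions below, all of them *internal* to `M`, `Z ⊆ M`
(`Hyp.subset`; hence `M = G` if `G` is simple):

* every involution of `M` commutes with an element of `Z ∩ M`;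
* far pairs are contained in abelian subgroups `E ∈ 𝓔` with the properties `free` and `near`;
* `two`: for a far pair `(x, y)` there is `x' ∈ Z ∩ M` commuting with `x y`, with `x' x y ∉ Z`;
* `mixed`: for a far pair `(y₁, y₂)` and `x ∈ Z ∩ M` commuting with `u = y₁ y₂` and `x u ∉ Z` either `x u ∼ u` or
  there is `x' ∈ Z ∩ M` commuting with `x u` and with `x u x' ∼ x u`.
-/

set_option autoImplicit false

namespace Cfsg.Agent.TypeO8Plus.FarPairs

variable {G : Type*} [Group G]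

section dihedral

variable {x y : G}

theorem conj_zpow_x (hx : x * x = 1) (hy : y * y = 1) (k : ℤ) :
    x * (x * y) ^ k * x = (x * y) ^ (-k) := by
  have hxi : x⁻¹ = x := inv_eq_of_mul_eq_one_left hx
  have hyi : y⁻¹ = y := inv_eq_of_mul_eq_one_left hy
  have h1 : x * (x * y) * x⁻¹ = (x * y)⁻¹ := by
    rw [mul_inv_rev, hxi, hyi, ← mul_assoc, hx, one_mul]
  calc x * (x * y) ^ k * x = x * (x * y) ^ k * x⁻¹ := by rw [hxi]
    _ = (x * (x * y) * x⁻¹) ^ k := conj_zpow.symm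
    _ = _ := by rw [h1, inv_zpow, zpow_neg]

theorem conj_zpow_y (hx : x * x = 1) (hy : y * y = 1) (k : ℤ) :
    y * (x * y) ^ k * y = (x * y) ^ (-k) := by
  have hxi : x⁻¹ = x := inv_eq_of_mul_eq_one_left hx
  have hyi : y⁻¹ = y := inv_eq_of_mul_eq_one_left hy
  have h1 : y * (x * y) * y⁻¹ = (x * y)⁻¹ := by
    rw [mul_inv_rev, hxi, hyi, mul_assoc, mul_assoc, hy, mul_one]
  calc y * (x * y) ^ k * y = y * (x * y) ^ k * y⁻¹ := by rw [hyi]
    _ = (y * (x * y) * y⁻¹) ^ k := conj_zpow.symm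
    _ = _ := by rw [h1, inv_zpow, zpow_neg]

/-- `x (x y)^(2 j) = (x y)^(-j) x (x y)^j` -/
theorem conj_x (hx : x * x = 1) (hy : y * y = 1) (j : ℤ) :
    (x * y) ^ (-j) * x * ((x * y) ^ (-j))⁻¹ = x * (x * y) ^ (2 * j) := by
  have h1 := conj_zpow_x hx hy j
  have h2 : (x * y) ^ (-j) * x = x * (x * y) ^ j := by
    rw [← h1, mul_assoc, hx, mul_one]
  rw [h2, zpow_neg, inv_inv, mul_assoc, ← zpow_add]
  congr 2; ring

theorem conj_y (hx : x * x = 1) (hy : y * y = 1) (j : ℤ) :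
    (x * y) ^ (-j) * y * ((x * y) ^ (-j))⁻¹ = y * (x * y) ^ (2 * j) := by
  have h1 := conj_zpow_y hx hy j
  have h2 : (x * y) ^ (-j) * y = y * (x * y) ^ j := by
    rw [← h1, mul_assoc, hy, mul_one]
  rw [h2, zpow_neg, inv_inv, mul_assoc, ← zpow_add]
  congr 2; ring

/-- Two involutions whose product has odd order are conjugate in the group they generate. -/
theorem exists_of_odd (hx : x * x = 1) (hy : y * y = 1) (h : Odd (orderOf (x * y))) :
    ∃ k : ℤ, (x * y) ^ k * x * ((x * y) ^ k)⁻¹ = y := by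
  obtain ⟨j, hj⟩ := h
  refine ⟨-(j + 1 : ℤ), ?_⟩
  rw [conj_x hx hy]
  have h1 : (x * y) ^ (2 * ((j : ℤ) + 1)) = x * y := by
    have h2 : (x * y) ^ (2 * j + 1) = 1 := by rw [← hj]; exact pow_orderOf_eq_one _
    have h3 : (2 * ((j : ℤ) + 1)) = ((2 * j + 1 : ℕ) : ℤ) + 1 := by push_cast; ring
    rw [h3, zpow_add, zpow_natCast, h2, one_mul, zpow_one]
  rw [h1, ← mul_assoc, hx, one_mul]

/-- The central involution of a dihedral group of order divisible by four. -/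
theorem exists_of_even (hx : x * x = 1) (hy : y * y = 1) (h0 : orderOf (x * y) ≠ 0)
    (h : ¬ Odd (orderOf (x * y))) :
    ∃ k : ℤ, (x * y) ^ k * (x * y) ^ k = 1 ∧ (x * y) ^ k ≠ 1 ∧ x * (x * y) ^ k = (x * y) ^ k * x ∧
      y * (x * y) ^ k = (x * y) ^ k * y ∧
      (((∃ j : ℤ, (x * y) ^ j * x * ((x * y) ^ j)⁻¹ = x * (x * y) ^ k) ∧
        (∃ j : ℤ, (x * y) ^ j * y * ((x * y) ^ j)⁻¹ = y * (x * y) ^ k)) ∨
       ((∃ j : ℤ, (x * y) ^ j * y * ((x * y) ^ j)⁻¹ = x * (x * y) ^ k) ∧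
        (∃ j : ℤ, (x * y) ^ j * x * ((x * y) ^ j)⁻¹ = y * (x * y) ^ k))) := by
  rw [Nat.not_odd_iff_even] at h
  obtain ⟨k, hk⟩ := h
  have hk0 : k ≠ 0 := by rintro rfl; exact h0 (by rw [hk])
  have e1 : (x * y) ^ (k : ℤ) * (x * y) ^ (k : ℤ) = 1 := by
    rw [← zpow_add, show ((k : ℤ) + k) = ((k + k : ℕ) : ℤ) by push_cast; ring, zpow_natCast, ← hk]
    exact pow_orderOf_eq_one _
  have e2 : (x * y) ^ (-(k : ℤ)) = (x * y) ^ (k : ℤ) := by
    rw [zpow_neg]; exact inv_eq_of_mul_eq_one_left e1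
  refine ⟨k, e1, ?_, ?_, ?_, ?_⟩
  · rw [zpow_natCast]
    intro h1
    have := Nat.le_of_dvd (Nat.pos_of_ne_zero hk0) (orderOf_dvd_of_pow_eq_one h1)
    omega
  · have h1 := conj_zpow_x hx hy (k : ℤ)
    rw [e2] at h1
    calc x * (x * y) ^ (k : ℤ) = (x * (x * y) ^ (k : ℤ) * x) * x := by rw [mul_assoc, hx, mul_one]
      _ = _ := by rw [h1]
  · have h1 := conj_zpow_y hx hy (k : ℤ)
    rw [e2] at h1
    calc y * (x * y) ^ (k : ℤ) = (y * (x * y) ^ (k : ℤ) * y) * y := by rw [mul_assoc, hy, mul_one]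
      _ = _ := by rw [h1]
  · rcases Nat.even_or_odd k with ⟨j, hj⟩ | ⟨j, hj⟩
    · left
      refine ⟨⟨-(j : ℤ), ?_⟩, ⟨-(j : ℤ), ?_⟩⟩
      · rw [conj_x hx hy, hj]; push_cast; congr 2; ring
      · rw [conj_y hx hy, hj]; push_cast; congr 2; ring
    · right
      refine ⟨⟨-(j : ℤ), ?_⟩, ⟨(j : ℤ), ?_⟩⟩
      · rw [conj_y hx hy, hj]
        have : ((2 * j + 1 : ℕ) : ℤ) = 1 + 2 * (j : ℤ) := by push_cast; ring
        rw [this, zpow_add, zpow_one, ← mul_assoc, ← mul_assoc, hx, one_mul]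
      · have h1 := conj_x hx hy (-(j : ℤ))
        rw [neg_neg] at h1
        rw [h1, ← e2, hj]
        have : (-((2 * j + 1 : ℕ) : ℤ)) = -1 + 2 * (-(j : ℤ)) := by push_cast; ring
        rw [this, zpow_add, zpow_neg_one, mul_inv_rev, ← mul_assoc, ← mul_assoc,
          inv_eq_of_mul_eq_one_left hy, inv_eq_of_mul_eq_one_left hx, hy, one_mul]

theorem comm_zpow {c : G} (hx : c * x = x * c) (hy : c * y = y * c) (k : ℤ) :
    c * (x * y) ^ k = (x * y) ^ k * c := by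
  have : Commute c (x * y) := Commute.mul_right hx hy
  exact (this.zpow_right k).eq

end dihedral

/-- The hypotheses of the closing criterion. -/
structure Hyp (M : Subgroup G) (Z : Set G) (𝓔 : Set (Subgroup G)) : Prop where
  sq : ∀ x ∈ Z, x * x = 1
  one : (1 : G) ∉ Z
  conj : ∀ g, ∀ x ∈ Z, g * x * g⁻¹ ∈ Z
  isConj : ∀ x ∈ Z, ∀ y ∈ Z, ∃ g, g * x * g⁻¹ = y
  ctrl : ∀ x ∈ Z, x ∈ M → ∀ g, g * x * g⁻¹ ∈ M → g ∈ M
  inv : ∀ v ∈ M, v * v = 1 → v ≠ 1 → ∃ x ∈ Z, x ∈ M ∧ x * v = v * x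
  far : ∀ x ∈ Z, x ∈ M → ∀ y ∈ Z, x * y = y * x → x ≠ y → x * y ∉ Z → ∃ E ∈ 𝓔, x ∈ E ∧ y ∈ E
  le : ∀ E ∈ 𝓔, E ≤ M
  comm : ∀ E ∈ 𝓔, ∀ x ∈ E, ∀ y ∈ E, x * y = y * x
  free : ∀ E ∈ 𝓔, ∀ F : Subgroup G, F ≤ E → (∀ f ∈ F, f ∉ Z) →
    ∃ y ∈ E, y ∈ Z ∧ ∀ f ∈ F, f ≠ 1 → y * f ∉ Z
  near : ∀ E ∈ 𝓔, ∀ y ∈ E, y ∈ Z → ∀ u ∈ E, u ≠ 1 → u ∉ Z → y * u ∉ Z → ∀ c, c * c = 1 → c ≠ 1 → c ∉ Z →
    c * u = u * c → c * y = y * c → y * c ∈ Z → c ∈ E
  exists_far : ∃ x ∈ Z, x ∈ M ∧ ∃ y ∈ Z, x * y = y * x ∧ x ≠ y ∧ x * y ∉ Z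
  two : ∀ x ∈ Z, x ∈ M → ∀ y ∈ Z, x * y = y * x → x ≠ y → x * y ∉ Z →
    ∃ x' ∈ Z, x' ∈ M ∧ x' * (x * y) = (x * y) * x' ∧ x' * (x * y) ∉ Z
  mixed : ∀ x ∈ Z, x ∈ M → ∀ y₁ ∈ Z, y₁ ∈ M → ∀ y₂ ∈ Z, y₁ * y₂ = y₂ * y₁ → y₁ ≠ y₂ → y₁ * y₂ ∉ Z →
    x * (y₁ * y₂) = (y₁ * y₂) * x → x * (y₁ * y₂) ∉ Z →
    (∃ g, g * (y₁ * y₂) * g⁻¹ = x * (y₁ * y₂)) ∨
    ∃ x' ∈ Z, x' ∈ M ∧ x' * (x * (y₁ * y₂)) = x * (y₁ * y₂) * x' ∧
      ∃ g, g * (x * (y₁ * y₂)) * g⁻¹ = x' * (x * (y₁ * y₂))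

namespace Hyp

variable {M : Subgroup G} {Z : Set G} {𝓔 : Set (Subgroup G)}

theorem cent (h : Hyp M Z 𝓔) {x : G} (hx : x ∈ Z) (hM : x ∈ M) {c : G} (hc : c * x = x * c) : c ∈ M := by
  apply h.ctrl x hx hM
  rw [hc, mul_inv_cancel_right]; exact hM

/-- conjugation inside a commuting situation -/
theorem conj_mul {k x y f : G} (hk : k * x * k⁻¹ = y) (hf : f * k = k * f) : k * (x * f) * k⁻¹ = y * f := by
  rw [← hk]
  have : k * x * k⁻¹ * f = k * x * (k⁻¹ * f) := by group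
  rw [this]
  have h2 : k⁻¹ * f = f * k⁻¹ := by
    rw [inv_mul_eq_iff_eq_mul, ← mul_assoc, ← hf, mul_inv_cancel_right]
  rw [h2]; group

/-- (A): elements of `Z` in different conjugates of `M` have a product of odd order. -/
theorem odd_mul [Finite G] (h : Hyp M Z 𝓔) {x y : G} (hx : x ∈ Z) (hxM : x ∉ M) (hy : y ∈ Z) (hyM : y ∈ M) :
    Odd (orderOf (x * y)) := by
  classical
  -- the general step: `y ∈ Z ∩ M` with `x y` of even order
  have step : ∀ y ∈ Z, y ∈ M → ¬ Odd (orderOf (x * y)) →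
      ∃ k : ℤ, ((x * y) ^ k) * ((x * y) ^ k) = 1 ∧ (x * y) ^ k ≠ 1 ∧ (x * y) ^ k ∉ Z ∧
        x * (x * y) ^ k = (x * y) ^ k * x ∧ y * (x * y) ^ k = (x * y) ^ k * y ∧
        x * (x * y) ^ k ∈ Z ∧ y * (x * y) ^ k ∈ Z := by
    intro y hy hyM hodd
    obtain ⟨k, h1, h2, h3, h4, h5⟩ := exists_of_even (h.sq x hx) (h.sq y hy)
      (orderOf_pos (x * y)).ne' hodd
    refine ⟨k, h1, h2, ?_, h3, h4, ?_, ?_⟩
    · intro hZ
      have hM : (x * y) ^ k ∈ M := h.cent hy hyM h4.symm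
      exact hxM (h.cent hZ hM h3)
    · rcases h5 with ⟨⟨j, hj⟩, -⟩ | ⟨⟨j, hj⟩, -⟩
      · rw [← hj]; exact h.conj _ x hx
      · rw [← hj]; exact h.conj _ y hy
    · rcases h5 with ⟨-, ⟨j, hj⟩⟩ | ⟨-, ⟨j, hj⟩⟩
      · rw [← hj]; exact h.conj _ y hy
      · rw [← hj]; exact h.conj _ x hx
  by_contra hodd
  obtain ⟨k, h1, h2, h3, h4, h5, h6, h7⟩ := step y hy hyM hodd
  set u := (x * y) ^ k with hu
  -- the subgroup `E`
  have hyu : y ≠ y * u := by
    intro h8; exact h2 (mul_eq_left.1 h8.symm)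
  have hyyu : y * (y * u) = u := by rw [← mul_assoc, h.sq y hy, one_mul]
  obtain ⟨E, hE, hyE, hyuE⟩ := h.far y hy hyM (y * u) h7 (by rw [mul_assoc, ← h5]) hyu (by rw [hyyu]; exact h3)
  have huE : u ∈ E := by rw [← hyyu]; exact E.mul_mem hyE hyuE
  -- a maximal subgroup
  let P : Subgroup G → Prop := fun F => u ∈ F ∧ F ≤ E ∧ ∀ f ∈ F, x * f = f * x
  have hP0 : P (Subgroup.zpowers u) := by
    refine ⟨Subgroup.mem_zpowers u, ?_, ?_⟩
    · rw [Subgroup.zpowers_le]; exact huE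
    · intro f hf
      obtain ⟨m, rfl⟩ := Subgroup.mem_zpowers_iff.1 hf
      have : Commute x u := h4
      exact (this.zpow_right m).eq
  obtain ⟨F, hF, hmax⟩ := Set.Finite.exists_maximal (Set.toFinite {F : Subgroup G | P F}) ⟨_, hP0⟩
  obtain ⟨huF, hFE, hFx⟩ := hF
  have hFZ : ∀ f ∈ F, f ∉ Z := by
    intro f hf hfZ
    exact hxM (h.cent hfZ (h.le E hE (hFE hf)) (hFx f hf))
  obtain ⟨y', hy'E, hy'Z, hy'⟩ := h.free E hE F hFE hFZ
  have hy'M := h.le E hE hy'E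
  have hy'F : ∀ f ∈ F, f * y' = y' * f := fun f hf => h.comm E hE f (hFE hf) y' hy'E
  by_cases hodd' : Odd (orderOf (x * y'))
  · obtain ⟨k', hk'⟩ := exists_of_odd (h.sq x hx) (h.sq y' hy'Z) hodd'
    apply hy' u huF h2
    have hc := comm_zpow (c := u) (x := x) (y := y') h4.symm (hy'F u huF) k'
    rw [← conj_mul hk' hc]
    exact h.conj _ _ h6
  · obtain ⟨k', g1, g2, g3, g4, g5, g6, g7⟩ := step y' hy'Z hy'M hodd'
    set c := (x * y') ^ k' with hcdef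
    have hcF : ∀ f ∈ F, f * c = c * f := fun f hf =>
      comm_zpow (c := f) (x := x) (y := y') (hFx f hf).symm (hy'F f hf) k'
    have hcE : c ∈ E := h.near E hE y' hy'E hy'Z u huE h2 h3 (hy' u huF h2) c g1 g2 g3
      (hcF u huF).symm g5.symm g7
    have hcF' : c ∉ F := fun hc => hy' c hc g2 g7
    -- the bigger subgroup
    have hP1 : P (F ⊔ Subgroup.zpowers c) := by
      refine ⟨Subgroup.mem_sup_left huF, ?_, ?_⟩
      · rw [sup_le_iff, Subgroup.zpowers_le]; exact ⟨hFE, hcE⟩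
      · have : F ⊔ Subgroup.zpowers c ≤ Subgroup.centralizer {x} := by
          rw [sup_le_iff, Subgroup.zpowers_le]
          refine ⟨fun f hf => ?_, ?_⟩
          · rw [Subgroup.mem_centralizer_singleton_iff]; exact (hFx f hf).symm
          · rw [Subgroup.mem_centralizer_singleton_iff]; exact g4.symm
        intro f hf
        have := this hf
        rw [Subgroup.mem_centralizer_singleton_iff] at this
        exact this.symm
    have h8 := hmax hP1 le_sup_left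
    exact hcF' (h8 (Subgroup.mem_sup_right (Subgroup.mem_zpowers c)))

/-- The product of a far pair lies in no other conjugate of `M`. -/
theorem ctrl_far [Finite G] (h : Hyp M Z 𝓔) {x y : G} (hx : x ∈ Z) (hxM : x ∈ M) (hy : y ∈ Z)
    (hxy : x * y = y * x) (hne : x ≠ y) (hZ : x * y ∉ Z) {g : G} (hg : g * (x * y) * g⁻¹ ∈ M) : g ∈ M := by
  by_contra hgM
  have hyM : y ∈ M := h.cent hx hxM hxy.symm
  have hxx := h.sq x hx
  have hyy := h.sq y hy
  have huu : (x * y) * (x * y) = 1 := by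
    calc (x * y) * (x * y) = x * (y * x) * y := by group
      _ = x * (x * y) * y := by rw [hxy]
      _ = (x * x) * (y * y) := by group
      _ = 1 := by rw [hxx, hyy, one_mul]
  have hxu : (x * y) * x = x * (x * y) := by rw [mul_assoc, ← hxy]
  obtain ⟨u, hu⟩ : ∃ u, u = x * y := ⟨_, rfl⟩
  have htwo := h.two x hx hxM y hy hxy hne hZ
  rw [← hu] at hZ hg huu hxu htwo
  have hu1 : u ≠ 1 := by
    intro h1
    apply hne
    rw [hu] at h1
    rw [eq_inv_of_mul_eq_one_left h1, inv_eq_of_mul_eq_one_left hyy]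
  -- an element of `Z` of the conjugate of `M`
  have hgu : (g * u * g⁻¹) * (g * u * g⁻¹) = 1 := by
    calc (g * u * g⁻¹) * (g * u * g⁻¹) = g * (u * u) * g⁻¹ := by group
      _ = 1 := by rw [huu]; group
  have hgu1 : g * u * g⁻¹ ≠ 1 := by
    intro h1
    apply hu1
    have := congrArg (fun t => g⁻¹ * t * g) h1
    simpa [mul_assoc] using this
  obtain ⟨v, hvZ, hvM, hv⟩ := h.inv _ hg hgu hgu1
  set w := g⁻¹ * v * g with hw
  have hwZ : w ∈ Z := by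
    have := h.conj g⁻¹ v hvZ
    rwa [inv_inv] at this
  have hwu : w * u = u * w := by
    calc w * u = g⁻¹ * (v * (g * u * g⁻¹)) * g := by rw [hw]; group
      _ = g⁻¹ * (g * u * g⁻¹ * v) * g := by rw [hv]
      _ = u * w := by rw [hw]; group
  have hwM : w ∉ M := by
    intro hwM
    apply hgM
    apply h.ctrl w hwZ hwM
    have : g * w * g⁻¹ = v := by rw [hw]; group
    rw [this]; exact hvM
  obtain ⟨x', hx'Z, hx'M, hx'u, hx'⟩ := htwo
  -- `w ∼ x` and `w ∼ x'` in `C(u)`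
  have ho1 := h.odd_mul hwZ hwM hx hxM
  have ho2 := h.odd_mul hwZ hwM hx'Z hx'M
  obtain ⟨k1, hk1⟩ := exists_of_odd (h.sq w hwZ) hxx ho1
  obtain ⟨k2, hk2⟩ := exists_of_odd (h.sq w hwZ) (h.sq x' hx'Z) ho2
  have c1 := comm_zpow (c := u) (x := w) (y := x) hwu.symm hxu k1
  have c2 := comm_zpow (c := u) (x := w) (y := x') hwu.symm hx'u.symm k2
  have d1 := conj_mul hk1 c1
  have d2 := conj_mul hk2 c2
  have e1 : x * u = y := by rw [hu, ← mul_assoc, hxx, one_mul]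
  rw [e1] at d1
  apply hx'
  rw [← d2]
  apply h.conj
  have : w * u = ((w * x) ^ k1)⁻¹ * y * ((w * x) ^ k1)⁻¹⁻¹ := by rw [← d1]; group
  rw [this]
  exact h.conj _ _ hy

/-- The closing criterion. -/
theorem subset [Finite G] (h : Hyp M Z 𝓔) : Z ⊆ M := by
  intro y hyZ
  by_contra hyM
  have hyM : y ∉ M := hyM
  obtain ⟨x, hx, hxM, x₂, hx₂, hxx₂, hne, hZ⟩ := h.exists_far
  have hx₂M : x₂ ∈ M := h.cent hx hxM hxx₂.symm
  have hxx := h.sq x hx
  have hyy := h.sq x₂ hx₂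
  have huu : (x * x₂) * (x * x₂) = 1 := by
    calc (x * x₂) * (x * x₂) = x * (x₂ * x) * x₂ := by group
      _ = x * (x * x₂) * x₂ := by rw [hxx₂]
      _ = (x * x) * (x₂ * x₂) := by group
      _ = 1 := by rw [hxx, hyy, one_mul]
  have huM : x * x₂ ∈ M := M.mul_mem hxM hx₂M
  have hctrl : ∀ g, g * (x * x₂) * g⁻¹ ∈ M → g ∈ M := fun g hg => h.ctrl_far hx hxM hx₂ hxx₂ hne hZ hg
  have hmixed := fun x' hx' hx'M => h.mixed x' hx' hx'M x hx hxM x₂ hx₂ hxx₂ hne hZ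
  obtain ⟨u, hu⟩ : ∃ u, u = x * x₂ := ⟨_, rfl⟩
  rw [← hu] at hZ huu huM hctrl hmixed
  have hcu : ∀ c, c * u = u * c → c ∈ M := by
    intro c hc
    apply hctrl
    rw [hc, mul_inv_cancel_right]; exact huM
  -- `u y` has even order
  have heven : ¬ Odd (orderOf (u * y)) := by
    intro hodd
    obtain ⟨k, hk⟩ := exists_of_odd huu (h.sq y hyZ) hodd
    apply hZ
    obtain ⟨q, hq⟩ : ∃ q, q = (u * y) ^ k := ⟨_, rfl⟩
    rw [← hq] at hk
    have : u = q⁻¹ * y * q⁻¹⁻¹ := by rw [← hk]; group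
    rw [this]
    exact h.conj _ _ hyZ
  obtain ⟨k, h1, h2, h3, h4, h5⟩ := exists_of_even huu (h.sq y hyZ) (orderOf_pos (u * y)).ne' heven
  set w := (u * y) ^ k with hw
  have hwM : w ∈ M := hcu w h3.symm
  have hwZ : w ∉ Z := fun hwZ => hyM (h.cent hwZ hwM h4)
  have hwy : (w * y) * y = w := by rw [mul_assoc, h.sq y hyZ, mul_one]
  -- the conjugate of `M` containing `y`
  obtain ⟨g, hg⟩ := h.isConj x hx y hyZ
  -- `w` is not conjugate to `u`
  have hwu : ∀ g', g' * u * g'⁻¹ ≠ w := by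
    intro g' hg'
    have hg'M : g' ∈ M := hctrl g' (by rw [hg']; exact hwM)
    -- conjugate back
    have : g'⁻¹ * y * g' ∈ M := by
      apply hcu
      have e : u = g'⁻¹ * w * g' := by rw [← hg']; group
      rw [e]
      calc g'⁻¹ * y * g' * (g'⁻¹ * w * g') = g'⁻¹ * (y * w) * g' := by group
        _ = g'⁻¹ * (w * y) * g' := by rw [h4]
        _ = _ := by group
    apply hyM
    have e : y = g' * (g'⁻¹ * y * g') * g'⁻¹ := by group
    rw [e]
    exact M.mul_mem (M.mul_mem hg'M this) (M.inv_mem hg'M)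
  rcases h5 with ⟨-, ⟨j, hj⟩⟩ | ⟨⟨j, hj⟩, ⟨j', hj'⟩⟩
  · -- `y w ∈ Z`: a far pair in the other conjugate
    have hywZ : y * w ∈ Z := by rw [← hj]; exact h.conj _ _ hyZ
    have e1 : g⁻¹ * y * g = x := by rw [← hg]; group
    have hy'Z : g⁻¹ * (y * w) * g ∈ Z := by
      have := h.conj g⁻¹ _ hywZ
      rwa [inv_inv] at this
    have e2 : x * (g⁻¹ * (y * w) * g) = g⁻¹ * w * g := by
      rw [← e1]
      calc g⁻¹ * y * g * (g⁻¹ * (y * w) * g) = g⁻¹ * ((y * y) * w) * g := by group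
        _ = _ := by rw [h.sq y hyZ, one_mul]
    have e3 : (g⁻¹ * (y * w) * g) * x = g⁻¹ * w * g := by
      rw [← e1]
      calc (g⁻¹ * (y * w) * g) * (g⁻¹ * y * g) = g⁻¹ * (y * (w * y)) * g := by group
        _ = g⁻¹ * ((y * y) * w) * g := by rw [← h4]; group
        _ = _ := by rw [h.sq y hyZ, one_mul]
    have hgM : g ∈ M := by
      apply h.ctrl_far hx hxM hy'Z (by rw [e2, e3])
      · intro h6
        apply h2
        have h7 : g⁻¹ * w * g = 1 := by rw [← e2, ← h6, hxx]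
        have := congrArg (fun t => g * t * g⁻¹) h7
        simpa [mul_assoc] using this
      · rw [e2]
        intro h6
        apply hwZ
        have := h.conj g _ h6
        have e4 : g * (g⁻¹ * w * g) * g⁻¹ = w := by group
        rwa [e4] at this
      · rw [e2]
        have e4 : g * (g⁻¹ * w * g) * g⁻¹ = w := by group
        rw [e4]; exact hwM
    apply hyM
    rw [← hg]
    exact M.mul_mem (M.mul_mem hgM hxM) (M.inv_mem hgM)
  · -- `u w ∈ Z`, `y w ∼ u`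
    have huwZ : u * w ∈ Z := by rw [← hj]; exact h.conj _ _ hyZ
    have huwM : u * w ∈ M := M.mul_mem huM hwM
    have e1 : (u * w) * u = w := by rw [h3, mul_assoc, huu, mul_one]
    have e2 : u * (u * w) = w := by rw [← mul_assoc, huu, one_mul]
    rcases hmixed (u * w) huwZ huwM (by rw [e1, e2])
      (by rw [e1]; exact hwZ) with ⟨g', hg'⟩ | ⟨x', hx'Z, hx'M, hx'w, g', hg'⟩
    · rw [e1] at hg'
      exact hwu g' hg'
    · rw [e1] at hx'w hg'
      have hodd := h.odd_mul hyZ hyM hx'Z hx'M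
      obtain ⟨m, hm⟩ := exists_of_odd (h.sq y hyZ) (h.sq x' hx'Z) hodd
      have c1 := comm_zpow (c := w) (x := y) (y := x') h4.symm hx'w.symm m
      have d1 := conj_mul hm c1
      -- `w ∼ x' w ∼ y w ∼ u`
      rw [← d1, ← hj'] at hg'
      apply hwu (g'⁻¹ * (y * x') ^ m * (u * y) ^ j')
      calc g'⁻¹ * (y * x') ^ m * (u * y) ^ j' * u * (g'⁻¹ * (y * x') ^ m * (u * y) ^ j')⁻¹
          = g'⁻¹ * ((y * x') ^ m * ((u * y) ^ j' * u * ((u * y) ^ j')⁻¹) * ((y * x') ^ m)⁻¹) * g' := by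
            simp only [mul_inv_rev, inv_inv, mul_assoc]
        _ = w := by rw [← hg']; group

end Hyp

end Cfsg.Agent.TypeO8Plus.FarPairs
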