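import Cfsg.Agent.TypeO8Plus.EFOne
import Cfsg.Agent.TypeO8Plus.FarPairs

/-!
# `Ω₈⁺(2)`: the family of far pairs (helper951)

`Facts F`: what is needed of `MM Q E` and of the fusion of involutions.  `hyp`: the hypotheses of the closing criterion
`FarPairs.Hyp` for `MM Q E` and the conjugates of `z`.
-/

set_option autoImplicit false

namespace Cfsg.Agent.TypeO8Plus.EFam

open Cfsg.Agent.Co2Type.Quad Cfsg.Agent.LargeExtra.Base Cfsg.Agent.LargeExtra.Nine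
open Cfsg.Agent.LargeExtra.KillNine Cfsg.Agent.LargeExtra.KillNine.Codes
open Cfsg.Agent.TypeO8Plus.Code Cfsg.Agent.TypeO8Plus.CAct Cfsg.Agent.TypeO8Plus.EFOne

variable {G : Type*} [Group G] {Q A : Subgroup G} {z a : G} {p : Pair Q z A a} {φ : Coord p.lz} {E : El G}

/-- the facts about `C(z)` and the fusion of involutions -/
structure Facts (F : Frame p φ E) : Prop where
  norm : ∀ m ∈ MM Q E, ∀ g ∈ G0 Q E, m * g * m⁻¹ ∈ G0 Q E
  fus : ∀ y ∈ MM Q E, IsConj z y → ∃ m ∈ MM Q E, m * z * m⁻¹ = y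
  two_el : ∀ v ∈ MM Q E, v * v = 1 → ∃ m ∈ MM Q E, (m * v * m⁻¹) * z = z * (m * v * m⁻¹)
  out : ∀ t, t * z = z * t → IsConj z t → t ∉ Q → ∃ c ∈ C0 Q E, ∃ i, c * t * c⁻¹ = E.x i
  zx : ∀ i, ¬ IsConj z (z * E.x i)
  cen : ∀ w ∈ G0 Q E, w * z = z * w → w * w = 1 → w ∈ C0 Q E

/-- the family of the conjugates of the `A_i` -/
def fam (Q : Subgroup G) (E : El G) : Set (Subgroup G) :=
  {H | ∃ m ∈ MM Q E, ∃ i, H = (AA E i).map (MulAut.conj m).toMonoidHom}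

theorem mem_map {m : G} {i : Fin 3} {u : G} :
    u ∈ (AA E i).map (MulAut.conj m).toMonoidHom ↔ m⁻¹ * u * m ∈ AA E i := by
  constructor
  · rintro ⟨v, hv, rfl⟩
    have : m⁻¹ * (m * v * m⁻¹) * m = v := by group
    show m⁻¹ * (m * v * m⁻¹) * m ∈ _
    rw [this]; exact hv
  · intro h
    exact ⟨_, h, by show m * (m⁻¹ * u * m) * m⁻¹ = u; group⟩

theorem mem_fam {H : Subgroup G} (hH : H ∈ fam Q E) : ∃ m ∈ MM Q E, ∃ i, ∀ u, u ∈ H ↔ m⁻¹ * u * m ∈ AA E i := by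
  obtain ⟨m, hm, i, rfl⟩ := hH
  exact ⟨m, hm, i, fun u => mem_map⟩

theorem isConj_conj {x y : G} (g : G) : IsConj x (g * y * g⁻¹) ↔ IsConj x y :=
  ⟨fun h => h.trans (isConj_iff.2 ⟨g⁻¹, by group⟩), fun h => h.trans (isConj_iff.2 ⟨g, rfl⟩)⟩

theorem isConj_conj' {x y : G} (g : G) : IsConj x (g⁻¹ * y * g) ↔ IsConj x y := by
  have := isConj_conj (x := x) (y := y) g⁻¹
  rwa [inv_inv] at this

theorem acts_eq {h : Large Q z} {ψ : Coord h} {L M : List ℕ} {f : h.V ≃ₗ[ZMod 2] h.V} (hL : Pts.Wf L)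
    (hM : Pts.Wf M) (h1 : Acts ψ L f) (h2 : Acts ψ M f) : L = M := by
  apply Pts.eq_of_lin hL hM
  intro v
  have h3 := h1 (ψ.e.symm v)
  have h4 := h2 (ψ.e.symm v)
  rw [LinearEquiv.apply_symm_apply] at h3 h4
  rw [← h3, ← h4]

theorem wf_T9 : ∀ T ∈ T9, Pts.Wf T := by decide +kernel

theorem wf_SS : ∀ i, ∀ s ∈ SS i, Pts.Wf s := by decide +kernel

theorem wf_MM3 {s0 s1 s2 : List ℕ} (h0 : s0 ∈ SS 0) (h1 : s1 ∈ SS 1) (h2 : s2 ∈ SS 2) : Pts.Wf (MM3 s0 s1 s2) :=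
  Pts.wf_mul (Pts.wf_mul (wf_SS 0 _ h0) (wf_SS 1 _ h1)) (wf_SS 2 _ h2)

/-- elements of `Q` outside `⟨z⟩` are conjugate to their product with `z` -/
theorem conj_mul_z (h : Large Q z) {y : G} (hy : y ∈ Q) (h1 : y ≠ 1) (hz : y ≠ z) : ∃ r ∈ Q, r * y * r⁻¹ = z * y := by
  obtain ⟨r, hr, hry⟩ := exists_not_comm h hy h1 hz
  refine ⟨r, hr, ?_⟩
  have h2 : r * z = z * r := h.comm_z r hr
  have h3 : y * z = z * y := h.comm_z y hy
  rw [hry, mul_assoc y r z, h2, ← mul_assoc, h3]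
  group

variable (F : Frame p φ E)

include F

theorem cent_le : Subgroup.centralizer ({z} : Set G) ≤ MM Q E := by
  rw [← F.z]
  exact le_sup_right

theorem mem_MM {c : G} (hc : c * z = z * c) : c ∈ MM Q E :=
  cent_le F (Subgroup.mem_centralizer_singleton_iff.2 hc)

omit F in
theorem z_mem_C0 (p : Pair Q z A a) : z ∈ C0 Q E := Q_le_C0 p.lz.z_mem

omit F in
theorem a_conj (p : Pair Q z A a) : IsConj z a := by
  obtain ⟨g, hg, -⟩ := p.isConj
  exact isConj_iff.2 ⟨g, hg⟩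

theorem z_ne_x (i : Fin 3) : z ≠ E.x i := by
  intro h
  have h1 := F.X_rel.h i
  rw [← h, p.lz.comm_z _ (F.h_mem i) |>.symm, mul_inv_cancel_right] at h1
  exact p.la.z_ne (by rw [← F.a]; exact (mul_eq_left.1 h1.symm))

section

variable {F} (H : Facts F)

include H

/-- far pairs -/
theorem far_pair {x y : G} (hx : IsConj z x) (hxM : x ∈ MM Q E) (hy : IsConj z y) (hxy : x * y = y * x)
    (hne : x ≠ y) (hf : ¬ IsConj z (x * y)) : ∃ g ∈ MM Q E, ∃ i, g * z * g⁻¹ = x ∧ g * E.x i * g⁻¹ = y := by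
  obtain ⟨m, hm, rfl⟩ := H.fus x hxM hx
  have h1 : m⁻¹ * y * m * z = z * (m⁻¹ * y * m) := by
    calc m⁻¹ * y * m * z = m⁻¹ * (y * (m * z * m⁻¹)) * m := by group
      _ = m⁻¹ * (m * z * m⁻¹ * y) * m := by rw [hxy]
      _ = _ := by group
  have h2 : IsConj z (m⁻¹ * y * m) := (isConj_conj' m).2 hy
  have h3 : m⁻¹ * y * m ∉ Q := by
    intro hQ
    have n1 : m⁻¹ * y * m ≠ 1 := by
      intro h; rw [h] at h2; exact p.lz.z_ne (isConj_one_left.1 h2)
    have nz : m⁻¹ * y * m ≠ z := by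
      intro h; apply hne; rw [← h]; group
    obtain ⟨r, hr, hry⟩ := conj_mul_z p.lz hQ n1 nz
    apply hf
    have h4 : IsConj z (z * (m⁻¹ * y * m)) := by rw [← hry]; exact (isConj_conj r).2 h2
    have h5 := (isConj_conj m).2 h4
    have e : m * (z * (m⁻¹ * y * m)) * m⁻¹ = m * z * m⁻¹ * y := by group
    rwa [e] at h5
  obtain ⟨c, hc, i, hci⟩ := H.out _ h1 h2 h3
  have hcz := C0_comm F hc
  refine ⟨m * c⁻¹, mul_mem hm (inv_mem (mem_MM F hcz)), i, ?_, ?_⟩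
  · have : c⁻¹ * z * c = z := by rw [mul_assoc, ← hcz]; group
    calc m * c⁻¹ * z * (m * c⁻¹)⁻¹ = m * (c⁻¹ * z * c) * m⁻¹ := by group
      _ = _ := by rw [this]
  · rw [← hci]; group

theorem near0 [Finite G] (hva : φ.e p.va = vec 1) {i : Fin 3} {u c : G} (hu : u ∈ AA E i) (hu1 : u ≠ 1) (huc : ¬ IsConj z u)
    (huz : ¬ IsConj z (z * u)) (hc2 : c * c = 1) (hc1 : c ≠ 1) (hcc : ¬ IsConj z c) (hcu : c * u = u * c)
    (hcz : c * z = z * c) (hzc : IsConj z (z * c)) : c ∈ AA E i := by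
  have hzu : z * u = u * z := AA_comm F i (z_mem_AA F i) hu
  -- `t = z c`
  have htz : z * c * z = z * (z * c) := by rw [mul_assoc, hcz]
  have htQ : z * c ∉ Q := by
    intro hQ
    have hcQ : c ∈ Q := (Q.mul_mem_cancel_left p.lz.z_mem).1 hQ
    have hcnz : c ≠ z := by rintro rfl; exact hcc (IsConj.refl _)
    obtain ⟨r, hr, hry⟩ := conj_mul_z p.lz hcQ hc1 hcnz
    rw [← hry, isConj_conj] at hzc
    exact hcc hzc
  obtain ⟨d, hd, j, hdj⟩ := H.out _ htz hzc htQ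
  obtain ⟨hdz, hd9⟩ := T9_C0 F hva hd
  have ht : z * c ∈ Subgroup.centralizer ({z} : Set G) := Subgroup.mem_centralizer_singleton_iff.2 htz
  have h1 : p.lz.act ⟨z * c, ht⟩ = (p.lz.act ⟨d, hdz⟩)⁻¹ * p.lz.act (cx F j) * p.lz.act ⟨d, hdz⟩ := by
    have e : (⟨z * c, ht⟩ : Subgroup.centralizer ({z} : Set G)) =
        (⟨d, hdz⟩ : Subgroup.centralizer ({z} : Set G))⁻¹ * cx F j * ⟨d, hdz⟩ := by
      apply Subtype.ext
      show z * c = d⁻¹ * E.x j * d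
      rw [← hdj]; group
    rw [e, map_mul, map_mul, map_inv]
  obtain ⟨T, hT, hTf⟩ : T9f φ (p.lz.act ⟨z * c, ht⟩) := by
    rw [h1]
    exact (hd9 _ ⟨MX j, MX_mem j, acts_x F hva j⟩).2
  -- `T` fixes the code of `u`
  obtain ⟨n, hn, hun⟩ := near_code F hva H.zx i hu hu1 huc huz
  have hn256 : n < 256 := rk2_lt i n hn
  have h2 := Cd.conj hTf hun
  have h3 : ((⟨z * c, ht⟩ : Subgroup.centralizer ({z} : Set G)) : G) * u *
      ((⟨z * c, ht⟩ : Subgroup.centralizer ({z} : Set G)) : G)⁻¹ = u := by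
    show z * c * u * (z * c)⁻¹ = u
    rw [mul_assoc z c u, hcu, ← mul_assoc, hzu]; group
  rw [h3] at h2
  have h4 : ap T n = n := Cd.inj (Pts.ap_lt (wf_T9 T hT).2 n) hn256 h2 hun
  have h5 := near_check2 i T hT n hn h4
  subst h5
  -- `(x i)⁻¹ t ∈ Q`
  have h6 : p.lz.act ((cx F i)⁻¹ * ⟨z * c, ht⟩) = 1 := by
    have := Acts.ext hTf (acts_x F hva i)
    rw [map_mul, map_inv, this, inv_mul_cancel]
  have h7 : (E.x i)⁻¹ * (z * c) ∈ Q := p.lz.mem_of_act _ h6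
  have hxi : (E.x i)⁻¹ = E.x i := inv_eq_of_mul_eq_one_left (F.weyl.xx i)
  rw [hxi] at h7
  obtain ⟨k, hk, hqk⟩ := exists_cd_of_mem φ h7
  have h8 := Cd.conj (acts_x F hva i) hqk
  have h9 : E.x i * (E.x i * (z * c)) * (E.x i)⁻¹ = (E.x i * (z * c))⁻¹ := by
    have e1 : (z * c)⁻¹ = z * c := by
      rw [mul_inv_rev, inv_eq_of_mul_eq_one_left hc2, inv_eq_of_mul_eq_one_left p.lz.z_sq, hcz]
    rw [mul_inv_rev, e1, hxi, ← mul_assoc, ← mul_assoc, F.weyl.xx i, one_mul]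
  have h10 : Cd φ ((E.x i * (z * c))⁻¹) (ap (MX i) k) := by
    rw [← h9]; exact h8
  have h11 : ap (MX i) k = k := Cd.inj (Pts.ap_lt (wf_T9 _ (MX_mem i)).2 k) hk h10 hqk.inv
  have h12 := of_code F hva i hk hqk h11
  have h13 : c = z * (E.x i * (E.x i * (z * c))) := by
    rw [← mul_assoc (E.x i), F.weyl.xx i, one_mul, ← mul_assoc, p.lz.z_sq, one_mul]
  rw [h13]
  exact mul_mem (z_mem_AA F i) (mul_mem (x_mem_AA F i) h12)

/-- the last case of `mixed` -/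
theorem mixed0 [Finite G] (hva : φ.e p.va = vec 1) {w : G} (hw : w ∈ C0 Q E) (hw2 : w * w = 1) (hwQ : w ∉ Q) :
    ∃ x', IsConj z x' ∧ x' ∈ Q ∧ x' * w = w * x' ∧ ∃ g, g * w * g⁻¹ = x' * w := by
  obtain ⟨hz, s0, h0, s1, h1, s2, h2, hM⟩ := C0_matrix F hva hw
  have wfM := wf_MM3 h0 h1 h2
  -- the square
  have h3 : mulL (MM3 s0 s1 s2) (MM3 s0 s1 s2) = idL := by
    apply acts_eq (f := p.lz.act ⟨w, hz⟩ * p.lz.act ⟨w, hz⟩) (Pts.wf_mul wfM wfM) Pts.wf_id (Acts.mul hM hM)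
    rw [← map_mul]
    have e : (⟨w, hz⟩ * ⟨w, hz⟩ : Subgroup.centralizer ({z} : Set G)) = 1 := Subtype.ext hw2
    rw [e, map_one]
    exact Acts.one
  rcases invol_check s0 h0 s1 h1 s2 h2 h3 with h4 | ⟨n, hn, hn2⟩
  · exfalso
    apply hwQ
    apply p.lz.mem_of_act ⟨w, hz⟩
    rw [h4] at hM
    exact Acts.ext hM Acts.one
  · obtain ⟨g, hg⟩ := exists_cd φ n
    have h5 := Cd.conj hM hg
    have h6 : Cd φ (w * g * w⁻¹ * g⁻¹) (ap (MM3 s0 s1 s2) n ^^^ n) := h5.mul hg.inv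
    have h7 := conj_orb F hva hn2 h6
    have hwi : w⁻¹ = w := inv_eq_of_mul_eq_one_left hw2
    -- `x' = w g w⁻¹ g⁻¹` is an involution
    have h8 : (w * g * w⁻¹ * g⁻¹) * (w * g * w⁻¹ * g⁻¹) = 1 := by
      obtain ⟨k, hk⟩ := isConj_iff.1 h7
      rw [← hk]
      calc k * z * k⁻¹ * (k * z * k⁻¹) = k * (z * z) * k⁻¹ := by group
        _ = 1 := by rw [p.lz.z_sq]; group
    have hxi : (w * g * w⁻¹ * g⁻¹)⁻¹ = w * g * w⁻¹ * g⁻¹ := inv_eq_of_mul_eq_one_left h8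
    have h9 : g * w * g⁻¹ = w * (w * g * w⁻¹ * g⁻¹) := by
      rw [hwi, ← mul_assoc, ← mul_assoc, ← mul_assoc, hw2, one_mul]
    have h10 : (w * (w * g * w⁻¹ * g⁻¹)) * (w * (w * g * w⁻¹ * g⁻¹)) = 1 := by
      rw [← h9]
      calc g * w * g⁻¹ * (g * w * g⁻¹) = g * (w * w) * g⁻¹ := by group
        _ = 1 := by rw [hw2]; group
    have h11 : (w * g * w⁻¹ * g⁻¹) * w = w * (w * g * w⁻¹ * g⁻¹) := by
      have h12 : (w * (w * g * w⁻¹ * g⁻¹))⁻¹ = w * (w * g * w⁻¹ * g⁻¹) := inv_eq_of_mul_eq_one_left h10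
      generalize w * g * w⁻¹ * g⁻¹ = y at hxi h12 ⊢
      rwa [mul_inv_rev, hxi, hwi] at h12
    exact ⟨_, h7, h6.mem, h11, g, by rw [h11, h9]⟩

/-- **The hypotheses of the closing criterion.** -/
theorem hyp [Finite G] (hva : φ.e p.va = vec 1) :
    FarPairs.Hyp (MM Q E) {t | IsConj z t} (fam Q E) where
  sq := by
    intro x hx
    obtain ⟨g, rfl⟩ := isConj_iff.1 hx
    calc g * z * g⁻¹ * (g * z * g⁻¹) = g * (z * z) * g⁻¹ := by group
      _ = 1 := by rw [p.lz.z_sq]; group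
  one := fun h => p.lz.z_ne (isConj_one_left.1 h)
  conj := fun g x hx => (isConj_conj g).2 hx
  isConj := fun x hx y hy => isConj_iff.1 ((show IsConj z x from hx).symm.trans hy)
  ctrl := by
    intro x hx hxM g hg
    obtain ⟨m, hm, hmx⟩ := H.fus x hxM hx
    obtain ⟨n, hn, hnx⟩ := H.fus _ hg ((isConj_conj g).2 hx)
    have h1 : n⁻¹ * g * m * z = z * (n⁻¹ * g * m) := by
      calc n⁻¹ * g * m * z = n⁻¹ * (g * (m * z * m⁻¹) * g⁻¹) * g * m := by group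
        _ = n⁻¹ * (n * z * n⁻¹) * g * m := by rw [hmx, hnx]
        _ = _ := by group
    have h2 := mem_MM F h1
    have h3 := mul_mem (mul_mem hn h2) (inv_mem hm)
    have e : n * (n⁻¹ * g * m) * m⁻¹ = g := by group
    rwa [e] at h3
  inv := by
    intro v hv hv2 hv1
    obtain ⟨m, hm, h1⟩ := H.two_el v hv hv2
    refine ⟨m⁻¹ * z * m, (isConj_conj' m).2 (IsConj.refl z), mul_mem (mul_mem (inv_mem hm) (mem_MM F rfl)) hm, ?_⟩
    calc m⁻¹ * z * m * v = m⁻¹ * (z * (m * v * m⁻¹)) * m := by group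
      _ = m⁻¹ * (m * v * m⁻¹ * z) * m := by rw [h1]
      _ = _ := by group
  far := by
    intro x hx hxM y hy hxy hne hf
    obtain ⟨g, hg, i, rfl, rfl⟩ := far_pair H hx hxM hy hxy hne hf
    refine ⟨_, ⟨g, hg, i, rfl⟩, ?_, ?_⟩
    · exact ⟨z, z_mem_AA F i, rfl⟩
    · exact ⟨E.x i, x_mem_AA F i, rfl⟩
  le := by
    intro B hB u hu
    obtain ⟨m, hm, i, hmi⟩ := mem_fam hB
    have h1 := AA_le F i ((hmi u).1 hu)
    have h2 := mul_mem (mul_mem hm h1) (inv_mem hm)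
    have e : m * (m⁻¹ * u * m) * m⁻¹ = u := by group
    rwa [e] at h2
  comm := by
    intro B hB x hx y hy
    obtain ⟨m, hm, i, hmi⟩ := mem_fam hB
    have h1 := AA_comm F i ((hmi x).1 hx) ((hmi y).1 hy)
    calc x * y = m * (m⁻¹ * x * m * (m⁻¹ * y * m)) * m⁻¹ := by group
      _ = m * (m⁻¹ * y * m * (m⁻¹ * x * m)) * m⁻¹ := by rw [h1]
      _ = _ := by group
  free := by
    intro B hB S hS hf
    obtain ⟨m, hm, i, hmi⟩ := mem_fam hB
    -- conjugate by `m⁻¹`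
    have h1 : ∀ f, f ∈ S.map (MulAut.conj m⁻¹).toMonoidHom → m * f * m⁻¹ ∈ S := by
      rintro _ ⟨f, hfS, rfl⟩
      have e : m * (m⁻¹ * f * m⁻¹⁻¹) * m⁻¹ = f := by group
      show m * (m⁻¹ * f * m⁻¹⁻¹) * m⁻¹ ∈ S
      rw [e]; exact hfS
    obtain ⟨y, hy, hyc, hyf⟩ := AA_free F H.zx i (S := S.map (MulAut.conj m⁻¹).toMonoidHom)
      (fun f hf' => by
        have h2 := (hmi _).1 (hS (h1 f hf'))
        have e : m⁻¹ * (m * f * m⁻¹) * m = f := by group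
        rwa [e] at h2)
      (fun f hf' hc => hf _ (h1 f hf') ((isConj_conj m).2 hc))
    refine ⟨m * y * m⁻¹, ?_, (isConj_conj m).2 hyc, ?_⟩
    · rw [hmi]
      have e : m⁻¹ * (m * y * m⁻¹) * m = y := by group
      rwa [e]
    · intro f hfS hf1 hc
      apply hyf (m⁻¹ * f * m)
      · exact ⟨f, hfS, by show m⁻¹ * f * m⁻¹⁻¹ = _; rw [inv_inv]⟩
      · intro h
        apply hf1
        calc f = m * (m⁻¹ * f * m) * m⁻¹ := by group
          _ = 1 := by rw [h]; group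
      · rw [← isConj_conj m]
        have e : m * (y * (m⁻¹ * f * m)) * m⁻¹ = m * y * m⁻¹ * f := by group
        rw [e]; exact hc
  near := by
    intro B hB y hyB hyZ u huB hu1 huZ hyu c hc2 hc1 hcZ hcu hcy hyc
    obtain ⟨m, hm, i, hmi⟩ := mem_fam hB
    have hyc' : IsConj z (m⁻¹ * y * m) := (isConj_conj' m).2 hyZ
    obtain ⟨g, hg, hgz, hgA⟩ := AA_trans F H.zx i ((hmi y).1 hyB) hyc'
    -- everything conjugated by `(m g)⁻¹`
    have key : ∀ x, x ∈ B ↔ (m * g)⁻¹ * x * (m * g) ∈ AA E i := by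
      intro x
      rw [hmi, hgA ((m * g)⁻¹ * x * (m * g))]
      have e : g * ((m * g)⁻¹ * x * (m * g)) * g⁻¹ = m⁻¹ * x * m := by group
      rw [e]
    have hy0 : (m * g)⁻¹ * y * (m * g) = z := by
      calc (m * g)⁻¹ * y * (m * g) = g⁻¹ * (m⁻¹ * y * m) * g := by group
        _ = g⁻¹ * (g * z * g⁻¹) * g := by rw [hgz]
        _ = z := by group
    generalize hk : m * g = k at key hy0
    rw [key]
    have hmul : ∀ x y, k⁻¹ * (x * y) * k = (k⁻¹ * x * k) * (k⁻¹ * y * k) := fun x y => by group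
    refine near0 H hva ((key u).1 huB) ?_ ?_ ?_ ?_ ?_ ?_ ?_ ?_ ?_
    · intro h
      apply hu1
      calc u = k * (k⁻¹ * u * k) * k⁻¹ := by group
        _ = 1 := by rw [h]; group
    · rw [isConj_conj']; exact huZ
    · rw [← hy0, ← hmul, isConj_conj']
      rw [hy0]; exact hyu
    · rw [← hmul, hc2]; group
    · intro h
      apply hc1
      calc c = k * (k⁻¹ * c * k) * k⁻¹ := by group
        _ = 1 := by rw [h]; group
    · rw [isConj_conj']; exact hcZ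
    · rw [← hmul, hcu, hmul]
    · conv_lhs => rw [← hy0, ← hmul, hcy, hmul, hy0]
    · have h2 := (isConj_conj' k).2 hyc
      rwa [hmul, hy0] at h2
  exists_far := by
    refine ⟨z, IsConj.refl z, mem_MM F rfl, E.x 0, x_conj F H.zx 0, (x_comm F 0).symm, z_ne_x F 0, H.zx 0⟩
  two := by
    intro x hx hxM y hy hxy hne hf
    obtain ⟨g, hg, i, rfl, rfl⟩ := far_pair H hx hxM hy hxy hne hf
    have hza : z * E.a = E.a * z := by
      rw [F.a]; exact (p.lz.comm_z a p.a_mem).symm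
    have hxa : E.x i * E.a = E.a * E.x i := mul_inv_eq_iff_eq_mul.1 (F.X_rel.a i)
    have hcomm : E.a * (z * E.x i) = z * E.x i * E.a := by
      rw [mul_assoc, hxa, ← mul_assoc, ← mul_assoc, hza]
    refine ⟨g * E.a * g⁻¹, ?_, ?_, ?_, ?_⟩
    · rw [F.a]; exact (isConj_conj g).2 (a_conj p)
    · rw [F.a]
      exact mul_mem (mul_mem hg (mem_MM F (p.lz.comm_z a p.a_mem))) (inv_mem hg)
    · calc g * E.a * g⁻¹ * (g * z * g⁻¹ * (g * E.x i * g⁻¹)) = g * (E.a * (z * E.x i)) * g⁻¹ := by group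
        _ = g * (z * E.x i * E.a) * g⁻¹ := by rw [hcomm]
        _ = _ := by group
    · have e : g * E.a * g⁻¹ * (g * z * g⁻¹ * (g * E.x i * g⁻¹)) = g * (E.a * (z * E.x i)) * g⁻¹ := by group
      rw [e]
      show ¬ IsConj z _
      rw [isConj_conj]
      exact not_ax F H.zx i
  mixed := by
    intro x hx hxM y₁ hy₁ hy₁M y₂ hy₂ hyy hne hf hxu hxf
    obtain ⟨m, hm, hmx⟩ := H.fus x hxM hx
    obtain ⟨g, hg, i, hg1, hg2⟩ := far_pair H hy₁ hy₁M hy₂ hyy hne hf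
    have hy1sq : y₁ * y₁ = 1 := by
      rw [← hg1]
      calc g * z * g⁻¹ * (g * z * g⁻¹) = g * (z * z) * g⁻¹ := by group
        _ = 1 := by rw [p.lz.z_sq]; group
    have hy2sq : y₂ * y₂ = 1 := by
      rw [← hg2]
      calc g * E.x i * g⁻¹ * (g * E.x i * g⁻¹) = g * (E.x i * E.x i) * g⁻¹ := by group
        _ = 1 := by rw [F.weyl.xx i]; group
    generalize hU : y₁ * y₂ = U at hf hxu hxf
    have hUsq : U * U = 1 := by
      rw [← hU]
      calc y₁ * y₂ * (y₁ * y₂) = y₁ * (y₂ * y₁) * y₂ := by group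
        _ = (y₁ * y₁) * (y₂ * y₂) := by rw [← hyy]; group
        _ = 1 := by rw [hy1sq, hy2sq, one_mul]
    have hU1 : U ≠ 1 := by
      intro h
      apply hne
      rw [← hU] at h
      have h2 := eq_inv_of_mul_eq_one_left h
      rwa [inv_eq_of_mul_eq_one_left hy2sq] at h2
    -- conjugate by `m⁻¹`
    have hu0 : m⁻¹ * U * m ∈ G0 Q E := by
      have h1 : z * E.x i ∈ G0 Q E :=
        (show C0 Q E ≤ G0 Q E from le_sup_left) (mul_mem (z_mem_C0 p) (x_mem_C0 i))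
      have h2 := H.norm (m⁻¹ * g) (mul_mem (inv_mem hm) hg) _ h1
      have e : m⁻¹ * g * (z * E.x i) * (m⁻¹ * g)⁻¹ = m⁻¹ * U * m := by
        rw [← hU, ← hg1, ← hg2]; group
      rwa [e] at h2
    have hmU : m * (m⁻¹ * U * m) * m⁻¹ = U := by group
    have huz : m⁻¹ * U * m * z = z * (m⁻¹ * U * m) := by
      calc m⁻¹ * U * m * z = m⁻¹ * (U * (m * z * m⁻¹)) * m := by group
        _ = m⁻¹ * (m * z * m⁻¹ * U) * m := by rw [hmx, hxu]
        _ = _ := by group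
    have husq : (m⁻¹ * U * m) * (m⁻¹ * U * m) = 1 := by
      calc (m⁻¹ * U * m) * (m⁻¹ * U * m) = m⁻¹ * (U * U) * m := by group
        _ = 1 := by rw [hUsq]; group
    have huZ : ¬ IsConj z (m⁻¹ * U * m) := by rw [isConj_conj']; exact hf
    have hu1 : m⁻¹ * U * m ≠ 1 := by
      intro h
      apply hU1
      rw [← hmU, h]; group
    have hxU : m * (z * (m⁻¹ * U * m)) * m⁻¹ = x * U := by rw [← hmx]; group
    generalize m⁻¹ * U * m = u at hu0 hmU huz husq huZ hu1 hxU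
    by_cases hQ : u ∈ Q
    · left
      obtain ⟨r, hr, hru⟩ := conj_mul_z p.lz hQ hu1 (by rintro rfl; exact huZ (IsConj.refl _))
      refine ⟨m * r * m⁻¹, ?_⟩
      rw [← hxU, ← hru, ← hmU]; group
    · right
      have hwz : z * u * z = z * (z * u) := by rw [mul_assoc, huz]
      have hw2 : (z * u) * (z * u) = 1 := by
        rw [mul_assoc, ← mul_assoc u, huz, mul_assoc, husq, mul_one, p.lz.z_sq]
      have hwG : z * u ∈ G0 Q E := mul_mem ((show C0 Q E ≤ G0 Q E from le_sup_left) (z_mem_C0 p)) hu0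
      have hwQ : z * u ∉ Q := fun h => hQ ((Q.mul_mem_cancel_left p.lz.z_mem).1 h)
      obtain ⟨x', hx'c, hx'Q, hx'w, k, hk⟩ := mixed0 H hva (H.cen _ hwG hwz hw2) hw2 hwQ
      refine ⟨m * x' * m⁻¹, (isConj_conj m).2 hx'c,
        mul_mem (mul_mem hm (mem_MM F (p.lz.comm_z x' hx'Q))) (inv_mem hm), ?_, m * k * m⁻¹, ?_⟩
      · rw [← hxU]
        calc m * x' * m⁻¹ * (m * (z * u) * m⁻¹) = m * (x' * (z * u)) * m⁻¹ := by group
          _ = m * (z * u * x') * m⁻¹ := by rw [hx'w]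
          _ = _ := by group
      · rw [← hxU]
        calc m * k * m⁻¹ * (m * (z * u) * m⁻¹) * (m * k * m⁻¹)⁻¹ = m * (k * (z * u) * k⁻¹) * m⁻¹ := by group
          _ = m * (x' * (z * u)) * m⁻¹ := by rw [hk]
          _ = _ := by group

end

end Cfsg.Agent.TypeO8Plus.EFam
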