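import Cfsg.Agent.TypeO8Plus.FuInv
import Cfsg.Agent.LargeExtra.KillNine.PtsOplus
import Cfsg.Agent.LargeExtra.TwoCentral

/-!
# `Ω₈⁺(2)`: `Z ∩ MM = z ^ MM` (helper416)

(FU1) conjugates of `z` in `Q`; (FU3) conjugates of `z` in `C₀ - Q` are `C₀`-conjugate to some `x i`;
(FU4) no conjugate of `z` induces a transposition of the coordinates; (FU5) the final statement.
-/

set_option autoImplicit false

namespace Cfsg.Agent.TypeO8Plus.Fusion

open Cfsg.Agent.Co2Type.Quad Cfsg.Agent.LargeExtra.Base Cfsg.Agent.LargeExtra.Nine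
open Cfsg.Agent.LargeExtra.KillNine Cfsg.Agent.LargeExtra.TwoCentral
open Cfsg.Agent.LargeExtra.KillNine.Codes Cfsg.Agent.TypeO8Plus Cfsg.Agent.TypeO8Plus.Code
open Cfsg.Agent.TypeO8Plus.FuBase Cfsg.Agent.TypeO8Plus.FuKappa Cfsg.Agent.LargeExtra.KillNine.Pts
open Cfsg.Agent.TypeO8Plus.FuKill Cfsg.Agent.TypeO8Plus.FuInv

variable {G : Type*} [Group G] {Q A : Subgroup G} {z a : G}

/-! ### checks -/

theorem orb_pure : ∀ n ∈ PtsOplus.orb, ∃ a ∈ [1, sW, sX * sW], ∃ b ∈ [1, sW, sX * sW], ∃ c ∈ [1, sW, sX * sW],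
    ap (mat ![a, b, c]) 1 = n := by decide +kernel

/-- code of `s κ(f) s⁻¹` -/
def pcode (f : Fin 3 → Equiv.Perm (Fin 3)) : ℕ :=
  (if f 0 = 1 then 0 else 32) ^^^ (if f 1 = 1 then 0 else 64) ^^^ (if f 2 = 1 then 0 else 128)

theorem pcode_orb : ∀ a ∈ [1, sX], ∀ b ∈ [1, sX], ∀ c ∈ [1, sX], pcode ![a, b, c] ∈ PtsOplus.orb →
    ∃ i : Fin 3, ∀ j, (![a, b, c] : Fin 3 → Equiv.Perm (Fin 3)) j = (if j = i then sX else 1) := by
  decide +kernel

theorem pcode_orb1 : ∀ a ∈ [1, sX], ∀ b ∈ [1, sX], ∀ c ∈ [1, sX], ¬ (a = 1 ∧ b = 1 ∧ c = 1) →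
    1 ^^^ pcode ![a, b, c] ∉ PtsOplus.orb := by decide +kernel

theorem pcode_ne : ∀ a ∈ [1, sX], ∀ b ∈ [1, sX], ∀ c ∈ [1, sX], ¬ (a = 1 ∧ b = 1 ∧ c = 1) →
    pcode ![a, b, c] ≠ 0 ∧ 1 ^^^ pcode ![a, b, c] ≠ 0 ∧ pcode ![a, b, c] < 256 := by decide +kernel

theorem orb_lt : ∀ n ∈ PtsOplus.orb, n < 256 := by decide +kernel

/-- constant on the two coordinates other than `k` -/
def fk (k : Fin 3) (ρ σ : Equiv.Perm (Fin 3)) : Fin 3 → Equiv.Perm (Fin 3) := fun i => if i = k then ρ else σ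

set_option synthInstance.maxSize 1024 in
set_option synthInstance.maxHeartbeats 400000 in
theorem red : ∀ k : Fin 3, ∀ n < 256, ap (mP (tr k)) n = n → qs (vec n) = 0 →
    ∃ ρ ∈ [1, sW, sX * sW, sW * sX], ∃ σ ∈ [1, sW, sX * sW, sW * sX],
      (ap (mat (fk k ρ σ)) n ∈ wl k ∨ 1 ^^^ ap (mat (fk k ρ σ)) n ∈ wl k) := by
  decide +kernel

theorem wl_comm : ∀ k : Fin 3, ∀ w ∈ wl k, ∃ m < 256, m ^^^ ap (mP (tr k)) m = w := by decide +kernel

section

variable {p : Pair Q z A a} {φ : Coord p.lz} {E : El G}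

theorem C0_le_MM (Q : Subgroup G) (E : El G) : C0 Q E ≤ MM Q E := le_sup_left.trans le_sup_left

theorem s_mem_MM (Q : Subgroup G) (E : El G) : E.s ∈ MM Q E :=
  Subgroup.mem_sup_left (Subgroup.mem_sup_right (Subgroup.mem_zpowers _))

theorem cent_le_MM (F : Frame p φ E) : Subgroup.centralizer ({z} : Set G) ≤ MM Q E := by
  rw [← F.z]
  exact le_sup_right

/-- (FU1) -/
theorem fu1 [Finite G] (F : Frame p φ E) (hc : IsConf p φ confOplus) {y : G} (hy : y ∈ Q)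
    (hyZ : IsConj z y) (hyz : y ≠ z) : ∃ c ∈ C0 Q E, c * a * c⁻¹ = y := by
  have hva := hc.va
  have hy1 : y ≠ 1 := by
    rintro rfl
    exact p.lz.z_ne (isConj_one_right.1 hyZ.symm)
  have hpr : p.lz.pr ⟨y, hy⟩ ≠ 0 := fun h => by
    rcases p.lz.pr_eq_zero.1 h with h1 | h1
    · exact hy1 h1
    · exact hyz h1
  obtain ⟨n, hn, hyn⟩ := PtsOplus.pts p φ hc ⟨y, hy⟩ hyZ hpr
  obtain ⟨b0, -, b1, -, b2, -, hb⟩ := orb_pure n hn
  have h1 : Cd φ y n := ⟨hy, hyn⟩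
  have h2 : Cd φ (ka F ![b0, b1, b2] * a * (ka F ![b0, b1, b2])⁻¹) n := by
    rw [← hb]
    exact (mt_ka F hva _).cd ⟨p.a_mem, hva⟩
  rcases h1.eq_or h2 with h3 | h3
  · exact ⟨_, ka_mem F _, h3.symm⟩
  · refine ⟨ka F ![b0, b1, b2] * E.e, Subgroup.mul_mem _ (ka_mem F _) (Q_le_C0 Q E F.e_mem), ?_⟩
    have h4 : E.e * a * E.e⁻¹ = a * z := by
      have hea := F.Q_rel.ea
      rw [F.a, F.z] at hea
      rw [hea, mul_assoc a, p.lz.comm_z _ F.e_mem]
      group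
    have h5 := (mt_ka F hva ![b0, b1, b2]).comm
    rw [h3]
    calc ka F ![b0, b1, b2] * E.e * a * (ka F ![b0, b1, b2] * E.e)⁻¹
        = ka F ![b0, b1, b2] * (E.e * a * E.e⁻¹) * (ka F ![b0, b1, b2])⁻¹ := by group
      _ = ka F ![b0, b1, b2] * (a * z) * (ka F ![b0, b1, b2])⁻¹ := by rw [h4]
      _ = ka F ![b0, b1, b2] * a * ((ka F ![b0, b1, b2])⁻¹ * (ka F ![b0, b1, b2] * z)) *
            (ka F ![b0, b1, b2])⁻¹ := by group
      _ = ka F ![b0, b1, b2] * a * ((ka F ![b0, b1, b2])⁻¹ * (z * ka F ![b0, b1, b2])) *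
            (ka F ![b0, b1, b2])⁻¹ := by rw [h5]
      _ = _ := by group

/-- an element of `Q ∩ Z` is `MM`-conjugate to `z` -/
theorem fu1' [Finite G] (F : Frame p φ E) (hc : IsConf p φ confOplus) {y : G} (hy : y ∈ Q)
    (hyZ : IsConj z y) : ∃ m ∈ MM Q E, m * z * m⁻¹ = y := by
  by_cases hyz : y = z
  · exact ⟨1, Subgroup.one_mem _, by rw [hyz]; group⟩
  · obtain ⟨c, hc, h1⟩ := fu1 F hc hy hyZ hyz
    refine ⟨c * E.s, Subgroup.mul_mem _ (C0_le_MM Q E hc) (s_mem_MM Q E), ?_⟩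
    have h2 : E.s * z * E.s⁻¹ = a := by rw [← F.z, ← F.a]; exact F.S_rel.z
    rw [← h1, ← h2]; group

theorem isConj_conj {x y : G} (g : G) (h : IsConj x y) : IsConj x (g * y * g⁻¹) :=
  h.trans (isConj_iff.2 ⟨g, rfl⟩)

/-- the code of `s κ(f) s⁻¹` -/
theorem cd_s_ka (F : Frame p φ E) {f : Fin 3 → Equiv.Perm (Fin 3)} (hf : ∀ i, f i = 1 ∨ f i = sX) :
    Cd φ (E.s * ka F f * E.s⁻¹) (pcode f) := by
  have h1 : ∀ i : Fin 3, Cd φ (E.s * kp F i (f i) * E.s⁻¹) (if f i = 1 then 0 else 2 ^ (i.1 + 5)) := by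
    intro i
    rcases hf i with h | h
    · rw [h, map_one, if_pos rfl, mul_one, mul_inv_cancel]; exact cd_one
    · rw [h, kp_X, if_neg (by decide), F.S_rel.x]; exact cd_p F i
  have e : E.s * ka F f * E.s⁻¹ = E.s * kp F 0 (f 0) * E.s⁻¹ * (E.s * kp F 1 (f 1) * E.s⁻¹) *
      (E.s * kp F 2 (f 2) * E.s⁻¹) := by rw [ka_apply]; group
  rw [e]
  exact ((h1 0).mul (h1 1)).mul (h1 2)

/-- the code of `s (z κ(f)) s⁻¹` -/
theorem cd_s_zka (F : Frame p φ E) (hva : φ.e p.va = vec 1) {f : Fin 3 → Equiv.Perm (Fin 3)}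
    (hf : ∀ i, f i = 1 ∨ f i = sX) : Cd φ (E.s * (z * ka F f) * E.s⁻¹) (1 ^^^ pcode f) := by
  have e : E.s * (z * ka F f) * E.s⁻¹ = E.s * z * E.s⁻¹ * (E.s * ka F f * E.s⁻¹) := by group
  have h2 : E.s * z * E.s⁻¹ = E.a := by rw [← F.z]; exact F.S_rel.z
  rw [e, h2]
  exact (cd_a F hva).mul (cd_s_ka F hf)

/-- (FU3) a conjugate of `z` in `C₀ - Q` is `C₀`-conjugate to some `x i` -/
theorem fu3' [Finite G] (F : Frame p φ E) (hc : IsConf p φ confOplus) {t : G} (ht : t ∈ C0 Q E)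
    (htQ : t ∉ Q) (htZ : IsConj z t) : ∃ c ∈ C0 Q E, ∃ i, c * t * c⁻¹ = E.x i := by
  have hva := hc.va
  have htt : t * t = 1 := by
    obtain ⟨g, hg⟩ := isConj_iff.1 htZ
    rw [← hg]
    calc g * z * g⁻¹ * (g * z * g⁻¹) = g * (z * z) * g⁻¹ := by group
      _ = 1 := by rw [p.lz.z_sq]; group
  obtain ⟨c, hcC, f, hf, hf1, h1⟩ := fu3 F hva htt ht htQ
  have hm : ∀ i, f i ∈ [1, sX] := fun i => by rcases hf i with h | h <;> rw [h] <;> simp
  have hne : ¬ (f 0 = 1 ∧ f 1 = 1 ∧ f 2 = 1) := by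
    rintro ⟨h3, h4, h5⟩
    apply hf1
    rw [vec3 f, h3, h4, h5]
    decide
  obtain ⟨hn1, hn2, hn3⟩ := pcode_ne _ (hm 0) _ (hm 1) _ (hm 2) hne
  rw [← vec3 f] at hn1 hn2 hn3
  refine ⟨c, hcC, ?_⟩
  rcases h1 with h1 | h1
  · -- in `orb`
    have h2 : IsConj z (E.s * ka F f * E.s⁻¹) := by
      rw [← h1]
      exact isConj_conj _ (isConj_conj _ htZ)
    obtain ⟨hQ, hcode⟩ := cd_s_ka F hf
    have hpr : p.lz.pr ⟨_, hQ⟩ ≠ 0 := by
      intro h
      rw [h, map_zero, ← vec_zero] at hcode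
      exact hn1 (vec_inj _ hn3 _ (by norm_num) hcode.symm)
    obtain ⟨n, hn, h3⟩ := PtsOplus.pts p φ hc ⟨_, hQ⟩ h2 hpr
    have h4 : pcode f = n := vec_inj _ hn3 _ (orb_lt n hn) (hcode.symm.trans h3)
    obtain ⟨i, hi⟩ := pcode_orb _ (hm 0) _ (hm 1) _ (hm 2) (by rw [← vec3 f, h4]; exact hn)
    refine ⟨i, ?_⟩
    rw [h1, ← kp_X F, ← ka_single]
    congr 1
    funext j
    rw [← vec3 f] at hi
    rw [hi j]
    by_cases hj : j = i
    · rw [hj, Pi.mulSingle_eq_same, if_pos rfl]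
    · rw [Pi.mulSingle_eq_of_ne hj, if_neg hj]
  · exfalso
    have h2 : IsConj z (E.s * (z * ka F f) * E.s⁻¹) := by
      rw [← h1]
      exact isConj_conj _ (isConj_conj _ htZ)
    obtain ⟨hQ, hcode⟩ := cd_s_zka F hva hf
    have hlt : 1 ^^^ pcode f < 256 := Nat.xor_lt_two_pow (n := 8) (by norm_num) hn3
    have hpr : p.lz.pr ⟨_, hQ⟩ ≠ 0 := by
      intro h
      rw [h, map_zero, ← vec_zero] at hcode
      exact hn2 (vec_inj _ hlt _ (by norm_num) hcode.symm)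
    obtain ⟨n, hn, h3⟩ := PtsOplus.pts p φ hc ⟨_, hQ⟩ h2 hpr
    have h4 : 1 ^^^ pcode f = n := vec_inj _ hlt _ (orb_lt n hn) (hcode.symm.trans h3)
    apply pcode_orb1 _ (hm 0) _ (hm 1) _ (hm 2) hne
    rw [← vec3 f, h4]; exact hn

theorem fk_tr (k : Fin 3) (ρ σ : Equiv.Perm (Fin 3)) : (fun i => fk k ρ σ (tr k i)) = fk k ρ σ := by
  have h1 : ∀ k i : Fin 3, tr k i = k ↔ i = k := by decide
  funext i
  show (if tr k i = k then ρ else σ) = (if i = k then ρ else σ)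
  by_cases hi : i = k
  · rw [if_pos hi, if_pos ((h1 k i).2 hi)]
  · rw [if_neg hi, if_neg (fun h => hi ((h1 k i).1 h))]

/-- (FU4) for `q τ` -/
theorem fu4a [Finite G] (F : Frame p φ E) (hva : φ.e p.va = vec 1) (h9 : Nat.card Q = 2 ^ 9)
    (hcard : ¬ 2 ^ 14 ∣ Nat.card (Subgroup.centralizer ({z} : Set G))) {k : Fin 3} {τ : G}
    (hτ : IsPerm E (tr k) τ) (hττ : τ * τ = 1) {q : G} (hq : q ∈ Q) (hZ : IsConj z (q * τ)) : False := by
  have hkill : ∀ T, T = τ ∨ T = z * τ → ¬ IsConj z T := by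
    intro T hT h1
    obtain ⟨g, hg⟩ := isConj_iff.1 h1
    exact kill F hva h9 hcard hτ hT g hg
  have hMt := mt_perm F hva hτ
  have hqq : q * τ * (q * τ) = 1 := by
    obtain ⟨g, hg⟩ := isConj_iff.1 hZ
    rw [← hg]
    calc g * z * g⁻¹ * (g * z * g⁻¹) = g * (z * z) * g⁻¹ := by group
      _ = 1 := by rw [p.lz.z_sq]; group
  obtain ⟨n, hn, hqn⟩ := exists_cd_of_mem φ hq
  obtain ⟨h1, h2⟩ := fix_of_sq (wf_mP _) hMt hττ hn hqn hqq
  have hcomm : τ * q = q * τ := by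
    obtain ⟨x, hx, hxτ⟩ := pc_of_fix F hva hτ hn h2
    have hzτ := hMt.comm
    rcases hqn.eq_or hx with h3 | h3
    · rw [h3]; exact hxτ
    · rw [h3, ← mul_assoc, hxτ, mul_assoc, hzτ, ← mul_assoc]
  have hsq : q * q = 1 := by
    rw [hcomm, mul_inv_cancel_right] at h1
    nth_rewrite 1 [h1]
    exact inv_mul_cancel q
  have hqs : qs (vec n) = 0 := hqn.q_of_sq hsq
  obtain ⟨ρ, -, σ, -, hred⟩ := red k n hn h2 hqs
  set c := ka F (fk k ρ σ) with hcdef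
  have hcτ : τ * c * τ⁻¹ = c := by rw [hcdef, tr_conj_ka F hτ, fk_tr]
  have hcτ' : c * τ = τ * c := (mul_inv_eq_iff_eq_mul.1 hcτ).symm
  have e1 : c * (q * τ) * c⁻¹ = c * q * c⁻¹ * τ := by
    calc c * (q * τ) * c⁻¹ = c * q * c⁻¹ * (c * τ) * c⁻¹ := by group
      _ = c * q * c⁻¹ * (τ * c) * c⁻¹ := by rw [hcτ']
      _ = _ := by group
  have hZ' : IsConj z (c * q * c⁻¹ * τ) := e1 ▸ isConj_conj c hZ
  have hcd : Cd φ (c * q * c⁻¹) (ap (mat (fk k ρ σ)) n) := (mt_ka F hva _).cd hqn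
  rcases hred with h3 | h3
  · obtain ⟨m, -, hm⟩ := wl_comm k _ h3
    obtain ⟨r, -, hr⟩ := conj_of_code hMt hcd hm
    rcases hr with hr | hr
    · exact hkill τ (Or.inl rfl) (hr ▸ isConj_conj r hZ')
    · exact hkill (z * τ) (Or.inr rfl) (hr ▸ isConj_conj r hZ')
  · obtain ⟨m, -, hm⟩ := wl_comm k _ h3
    obtain ⟨r, hrQ, hr⟩ := conj_of_code hMt ((cd_a F hva).mul hcd) hm
    -- `r (q' τ) r⁻¹ = (r a⁻¹ r⁻¹) (τ or z τ)`
    have haa : E.a * E.a = 1 := F.Q_rel.aa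
    have hai : E.a⁻¹ = E.a := inv_eq_of_mul_eq_one_left haa
    have haz : E.a * z = z * E.a := by rw [← F.z]; exact F.Q_rel.za.symm
    have e2 : r * (c * q * c⁻¹ * τ) * r⁻¹ = r * E.a * r⁻¹ * (r * (E.a * (c * q * c⁻¹) * τ) * r⁻¹) := by
      calc r * (c * q * c⁻¹ * τ) * r⁻¹ = r * (1 * (c * q * c⁻¹ * τ)) * r⁻¹ := by rw [one_mul]
        _ = r * (E.a * E.a * (c * q * c⁻¹ * τ)) * r⁻¹ := by rw [haa]
        _ = _ := by group
    have hra : r * E.a * r⁻¹ = E.a ∨ r * E.a * r⁻¹ = E.a * z := by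
      rcases p.lz.comm r hrQ E.a (cd_a F hva).mem with h4 | h4
      · left; rw [h4, mul_inv_cancel_right]
      · right
        rw [h4, mul_assoc (E.a * r), ← p.lz.comm_z _ (Q.inv_mem hrQ)]
        group
    have hzz := p.lz.z_sq
    have h5 : IsConj z (E.a * τ) ∨ IsConj z (E.a * z * τ) := by
      have h6 := isConj_conj r hZ'
      rw [e2] at h6
      rcases hra with h7 | h7 <;> rcases hr with h8 | h8 <;> rw [h7, h8] at h6
      · exact Or.inl h6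
      · right; rwa [← mul_assoc] at h6
      · exact Or.inr h6
      · left
        have e3 : E.a * z * (z * τ) = E.a * τ := by
          calc E.a * z * (z * τ) = E.a * (z * z) * τ := by group
            _ = _ := by rw [hzz, mul_one]
        rwa [e3] at h6
    have h6 : IsConj z (E.a * τ) := by
      rcases h5 with h5 | h5
      · exact h5
      · have h7 := isConj_conj E.e h5
        have heτ : E.e * τ = τ * E.e := (comm_of_conj hτ.e).symm
        have hea : E.e * E.a = E.a * E.e * z := by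
          have := F.Q_rel.ea
          rwa [F.z] at this
        have hez : E.e * z = z * E.e := by
          have := F.Q_rel.ze
          rw [F.z] at this
          exact this.symm
        have e4 : E.e * (E.a * z * τ) * E.e⁻¹ = E.a * τ := by
          calc E.e * (E.a * z * τ) * E.e⁻¹ = E.e * E.a * z * τ * E.e⁻¹ := by group
            _ = E.a * E.e * z * z * τ * E.e⁻¹ := by rw [hea]
            _ = E.a * E.e * (z * z) * τ * E.e⁻¹ := by group
            _ = E.a * (E.e * τ) * E.e⁻¹ := by rw [hzz]; group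
            _ = E.a * (τ * E.e) * E.e⁻¹ := by rw [heτ]
            _ = _ := by group
        rwa [e4] at h7
    have h7 := isConj_conj E.s h6
    have hsτ : E.s * τ = τ * E.s := (comm_of_conj hτ.s).symm
    have hsa : E.s * E.a * E.s⁻¹ = z := by rw [F.S_rel.a, F.z]
    have e5 : E.s * (E.a * τ) * E.s⁻¹ = z * τ := by
      calc E.s * (E.a * τ) * E.s⁻¹ = E.s * E.a * E.s⁻¹ * (E.s * τ) * E.s⁻¹ := by group
        _ = z * (τ * E.s) * E.s⁻¹ := by rw [hsa, hsτ]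
        _ = _ := by group
    rw [e5] at h7
    exact hkill _ (Or.inr rfl) h7

/-- (FU4) -/
theorem fu4 [Finite G] (F : Frame p φ E) (hva : φ.e p.va = vec 1) (h9 : Nat.card Q = 2 ^ 9)
    (hcard : ¬ 2 ^ 14 ∣ Nat.card (Subgroup.centralizer ({z} : Set G))) {k : Fin 3} {τ : G}
    (hτ : IsPerm E (tr k) τ) (hττ : τ * τ = 1) {q : G} (hq : q ∈ Q) {ρ : Equiv.Perm (Fin 3)}
    (hρ : ρ = 1 ∨ ρ = sX) (hZ : IsConj z (q * kp F k ρ * τ)) : False := by
  rcases hρ with rfl | rfl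
  · rw [map_one, mul_one] at hZ
    exact fu4a F hva h9 hcard hτ hττ hq hZ
  · rw [kp_X, mul_assoc] at hZ
    have hQf : Finite Q := inferInstance
    have hMt : Mt φ (E.x k * τ) (mulL (mP (tr k)) (mX k)) := (mt_x F hva k).mul (mt_perm F hva hτ)
    have hxτ : τ * E.x k = E.x k * τ := by
      have := hτ.x k
      rw [tr_k] at this
      exact comm_of_conj this
    have hTT : E.x k * τ * (E.x k * τ) = 1 := by
      calc E.x k * τ * (E.x k * τ) = E.x k * (τ * E.x k) * τ := by group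
        _ = E.x k * (E.x k * τ) * τ := by rw [hxτ]
        _ = E.x k * E.x k * (τ * τ) := by group
        _ = 1 := by rw [F.weyl.xx, hττ, one_mul]
    have hqq : q * (E.x k * τ) * (q * (E.x k * τ)) = 1 := by
      obtain ⟨g, hg⟩ := isConj_iff.1 hZ
      rw [← hg]
      calc g * z * g⁻¹ * (g * z * g⁻¹) = g * (z * z) * g⁻¹ := by group
        _ = 1 := by rw [p.lz.z_sq]; group
    obtain ⟨r, -, hr⟩ := conj_of_fr (wf_trX k) hMt (fr_tr k) hTT hq hqq
    have hsτ : E.s * τ = τ * E.s := (comm_of_conj hτ.s).symm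
    have e1 : E.s * (E.x k * τ) * E.s⁻¹ = E.p k * τ := by
      calc E.s * (E.x k * τ) * E.s⁻¹ = E.s * E.x k * E.s⁻¹ * (E.s * τ) * E.s⁻¹ := by group
        _ = E.p k * (τ * E.s) * E.s⁻¹ := by rw [F.S_rel.x, hsτ]
        _ = _ := by group
    have hsz : E.s * z * E.s⁻¹ = E.a := by rw [← F.z]; exact F.S_rel.z
    have h1 := isConj_conj E.s (isConj_conj r hZ)
    rcases hr with hr | hr
    · rw [hr, e1] at h1
      exact fu4a F hva h9 hcard hτ hττ (F.p_mem k) h1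
    · have e2 : E.s * (z * (E.x k * τ)) * E.s⁻¹ = E.a * E.p k * τ := by
        calc E.s * (z * (E.x k * τ)) * E.s⁻¹ = E.s * z * E.s⁻¹ * (E.s * (E.x k * τ) * E.s⁻¹) := by group
          _ = _ := by rw [hsz, e1, mul_assoc]
      rw [hr, e2] at h1
      exact fu4a F hva h9 hcard hτ hττ (Q.mul_mem (cd_a F hva).mem (F.p_mem k)) h1

/-- (FU) for elements of `C_G(z)` -/
theorem fu_cent [Finite G] (F : Frame p φ E) (hc : IsConf p φ confOplus) (h9 : Nat.card Q = 2 ^ 9)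
    (hcard : ¬ 2 ^ 14 ∣ Nat.card (Subgroup.centralizer ({z} : Set G)))
    (hcs3 : ∀ c ∈ Subgroup.centralizer ({z} : Set G), ∃ n ∈ C0 Q E, ∃ π, IsPerm E π (n * c))
    {t : G} (ht : t ∈ Subgroup.centralizer ({z} : Set G)) (htZ : IsConj z t) :
    ∃ m ∈ MM Q E, m * z * m⁻¹ = t := by
  have hva := hc.va
  have htt : t * t = 1 := by
    obtain ⟨g, hg⟩ := isConj_iff.1 htZ
    rw [← hg]
    calc g * z * g⁻¹ * (g * z * g⁻¹) = g * (z * z) * g⁻¹ := by group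
      _ = 1 := by rw [p.lz.z_sq]; group
  -- it is enough to find an `MM`-conjugate in `Q`
  have key : ∀ m ∈ MM Q E, m * t * m⁻¹ ∈ Q → ∃ m ∈ MM Q E, m * z * m⁻¹ = t := by
    intro m hm h1
    obtain ⟨m', hm', h2⟩ := fu1' F hc h1 (isConj_conj m htZ)
    refine ⟨m⁻¹ * m', Subgroup.mul_mem _ (Subgroup.inv_mem _ hm) hm', ?_⟩
    calc m⁻¹ * m' * z * (m⁻¹ * m')⁻¹ = m⁻¹ * (m' * z * m'⁻¹) * m := by group
      _ = m⁻¹ * (m * t * m⁻¹) * m := by rw [h2]
      _ = t := by group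
  obtain ⟨n, hn, π, hπ⟩ := hcs3 t ht
  rcases fu2 F hva htt hn hπ with ⟨g, q, hq, f, hf, h1⟩ | ⟨g, q, hq, k, ρ, τ, hρ, hτ, hττ, h1⟩
  · by_cases hf1 : f = 1
    · rw [hf1, map_one, mul_one] at h1
      exact key _ (C0_le_MM Q E (ka_mem F g)) (h1 ▸ hq)
    · have htC0 : t ∈ C0 Q E := by
        have : t = (ka F g)⁻¹ * (q * ka F f) * ka F g := by rw [← h1]; group
        rw [this]
        exact Subgroup.mul_mem _ (Subgroup.mul_mem _ (Subgroup.inv_mem _ (ka_mem F g))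
          (Subgroup.mul_mem _ (Q_le_C0 Q E hq) (ka_mem F f))) (ka_mem F g)
      by_cases htQ : t ∈ Q
      · exact key 1 (Subgroup.one_mem _) (by rw [one_mul, inv_one, mul_one]; exact htQ)
      · obtain ⟨c, hcC, f', hf', -, h2⟩ := fu3 F hva htt htC0 htQ
        apply key (E.s * c) (Subgroup.mul_mem _ (s_mem_MM Q E) (C0_le_MM Q E hcC))
        have e : E.s * c * t * (E.s * c)⁻¹ = E.s * (c * t * c⁻¹) * E.s⁻¹ := by group
        rw [e]
        rcases h2 with h2 | h2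
        · rw [h2]; exact (cd_s_ka F hf').mem
        · rw [h2]; exact (cd_s_zka F hva hf').mem
  · exfalso
    have h2 := isConj_conj (ka F g) htZ
    rw [h1] at h2
    exact fu4 F hva h9 hcard hτ hττ hq hρ h2

/-- (FU5) every conjugate of `z` in `MM` is `MM`-conjugate to `z` -/
theorem main [Finite G] (F : Frame p φ E) (hc : IsConf p φ confOplus) (h9 : Nat.card Q = 2 ^ 9)
    (hcard : ¬ 2 ^ 14 ∣ Nat.card (Subgroup.centralizer ({z} : Set G)))
    (hcs3 : ∀ c ∈ Subgroup.centralizer ({z} : Set G), ∃ n ∈ C0 Q E, ∃ π, IsPerm E π (n * c))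
    {t : G} (ht : t ∈ MM Q E) (htZ : IsConj z t) : ∃ m ∈ MM Q E, m * z * m⁻¹ = t := by
  have : Fact (Nat.Prime 2) := ⟨Nat.prime_two⟩
  have htt : t * t = 1 := by
    obtain ⟨g, hg⟩ := isConj_iff.1 htZ
    rw [← hg]
    calc g * z * g⁻¹ * (g * z * g⁻¹) = g * (z * z) * g⁻¹ := by group
      _ = 1 := by rw [p.lz.z_sq]; group
  set t' : MM Q E := ⟨t, ht⟩ with ht'
  set C' := (Subgroup.centralizer ({z} : Set G)).subgroupOf (MM Q E) with hC'
  have hodd : ¬ 2 ∣ Nat.card (MM Q E ⧸ C') := by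
    have h1 : Odd (Subgroup.centralizer ({z} : Set G)).index := odd_index p.lz
    have h2 : C'.index ∣ (Subgroup.centralizer ({z} : Set G)).index := by
      have := Subgroup.relIndex_dvd_index_of_le (cent_le_MM F)
      exact this
    have h3 : Odd C'.index := h1.of_dvd_nat h2
    rw [← Nat.not_even_iff_odd, even_iff_two_dvd] at h3
    exact h3
  have htt' : t' * t' = 1 := Subtype.ext htt
  have hP : IsPGroup 2 (Subgroup.zpowers t') := by
    rintro ⟨x, hx⟩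
    obtain ⟨k, rfl⟩ := Subgroup.mem_zpowers_iff.1 hx
    refine ⟨1, Subtype.ext ?_⟩
    show (t' ^ k) ^ 2 ^ 1 = 1
    rw [pow_one, ← zpow_natCast, ← zpow_mul, mul_comm, zpow_mul, zpow_natCast, pow_two, htt', one_zpow]
  obtain ⟨x, hx⟩ := hP.nonempty_fixed_point_of_prime_not_dvd_card (MM Q E ⧸ C') hodd
  obtain ⟨m, rfl⟩ := QuotientGroup.mk_surjective x
  have h1 := hx ⟨t', Subgroup.mem_zpowers _⟩
  have h2 : ((t' * m : MM Q E) : MM Q E ⧸ C') = (m : MM Q E ⧸ C') := h1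
  have h3 : m⁻¹ * (t' * m) ∈ C' := QuotientGroup.eq.1 h2.symm
  have h4 : (m : G)⁻¹ * (t * m) ∈ Subgroup.centralizer ({z} : Set G) := h3
  have h5 : IsConj z ((m : G)⁻¹ * (t * m)) := by
    have := isConj_conj (m : G)⁻¹ htZ
    have e : (m : G)⁻¹ * t * (m : G)⁻¹⁻¹ = (m : G)⁻¹ * (t * m) := by group
    rwa [e] at this
  obtain ⟨m', hm', h6⟩ := fu_cent F hc h9 hcard hcs3 h4 h5
  refine ⟨m * m', Subgroup.mul_mem _ m.2 hm', ?_⟩
  calc (m : G) * m' * z * (m * m')⁻¹ = m * (m' * z * m'⁻¹) * (m : G)⁻¹ := by group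
    _ = m * ((m : G)⁻¹ * (t * m)) * (m : G)⁻¹ := by rw [h6]
    _ = t := by group

end

end Cfsg.Agent.TypeO8Plus.Fusion
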