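import Cfsg.Agent.TypeO8Plus.Final
import Cfsg.Agent.TypeO8Plus.CStruct
import Cfsg.Agent.TypeO8Plus.CNorm
import Cfsg.Agent.TypeO8Plus.Fusion
import Cfsg.Agent.TypeO8Plus.EFam

/-!
# `Ω₈⁺(2)`: the recognition theorem (helper260; with helpers 43, 73, 360, 416, 951)
-/

set_option autoImplicit false

namespace Cfsg.Agent.TypeO8Plus.Main

open Cfsg.Agent.Co2Type.Quad Cfsg.Agent.LargeExtra.Base Cfsg.Agent.LargeExtra.Nine
open Cfsg.Agent.LargeExtra.KillNine Cfsg.Agent.LargeExtra.KillNine.Codes Cfsg.Agent.TypeO8Plus.Code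
open Cfsg.Agent.TypeO8Plus.Fusion Cfsg.Agent.TypeO8Plus.FuBase Cfsg.Agent.TypeO8Plus.FuKappa
open Cfsg.Agent.TypeO8Plus.FuInv

variable {G : Type*} [Group G] {Q A : Subgroup G} {z a : G} {p : Pair Q z A a} {φ : Coord p.lz} {E : El G}

/-- (out) -/
theorem out [Finite G] (F : Frame p φ E) (hc : IsConf p φ confOplus) (h9 : Nat.card Q = 2 ^ 9)
    (hcard : ¬ 2 ^ 14 ∣ Nat.card (Subgroup.centralizer ({z} : Set G)))
    (hcs3 : ∀ c ∈ Subgroup.centralizer ({z} : Set G), ∃ n ∈ C0 Q E, ∃ π, IsPerm E π (n * c))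
    {t : G} (htz : t * z = z * t) (htZ : IsConj z t) (htQ : t ∉ Q) :
    ∃ c ∈ C0 Q E, ∃ i, c * t * c⁻¹ = E.x i := by
  have hva := hc.va
  have ht : t ∈ Subgroup.centralizer ({z} : Set G) := Subgroup.mem_centralizer_singleton_iff.2 htz
  have htt : t * t = 1 := by
    obtain ⟨g, hg⟩ := isConj_iff.1 htZ
    rw [← hg]
    calc g * z * g⁻¹ * (g * z * g⁻¹) = g * (z * z) * g⁻¹ := by group
      _ = 1 := by rw [p.lz.z_sq]; group
  obtain ⟨n, hn, π, hπ⟩ := hcs3 t ht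
  rcases fu2 F hva htt hn hπ with ⟨g, q, hq, f, hf, h1⟩ | ⟨g, q, hq, k, ρ, τ, hρ, hτ, hττ, h1⟩
  · have htC0 : t ∈ C0 Q E := by
      have : t = (ka F g)⁻¹ * (q * ka F f) * ka F g := by rw [← h1]; group
      rw [this]
      exact Subgroup.mul_mem _ (Subgroup.mul_mem _ (Subgroup.inv_mem _ (ka_mem F g))
        (Subgroup.mul_mem _ (Q_le_C0 Q E hq) (ka_mem F f))) (ka_mem F g)
    exact fu3' F hc htC0 htQ htZ
  · exfalso
    have h2 := Fusion.isConj_conj (ka F g) htZ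
    rw [h1] at h2
    exact fu4 F hva h9 hcard hτ hττ hq hρ h2

/-- (zx) -/
theorem zx [Finite G] (F : Frame p φ E) (hc : IsConf p φ confOplus) (i : Fin 3) : ¬ IsConj z (z * E.x i) := by
  intro h
  have h1 : IsConj z (E.s * (z * E.x i) * E.s⁻¹) := Fusion.isConj_conj E.s h
  have e : E.s * (z * E.x i) * E.s⁻¹ = E.a * E.p i := by
    have h2 : E.s * z * E.s⁻¹ = E.a := by rw [← F.z]; exact F.S_rel.z
    have h3 := F.S_rel.x i
    calc E.s * (z * E.x i) * E.s⁻¹ = (E.s * z * E.s⁻¹) * (E.s * E.x i * E.s⁻¹) := by group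
      _ = _ := by rw [h2, h3]
  rw [e] at h1
  obtain ⟨hm, hn⟩ := (FuKappa.cd_a F hc.va).mul (FuKappa.cd_p F i)
  have hne : p.lz.pr ⟨E.a * E.p i, hm⟩ ≠ 0 := by
    intro h0
    rw [h0, map_zero, ← vec_zero] at hn
    have key : ∀ i : Fin 3, 1 ^^^ 2 ^ (i.1 + 5) < 256 ∧ 1 ^^^ 2 ^ (i.1 + 5) ≠ 0 := by decide
    exact (key i).2 (vec_inj _ (key i).1 0 (by norm_num) hn.symm)
  obtain ⟨m, hm', hmv⟩ := PtsOplus.pts p φ hc ⟨_, hm⟩ h1 hne
  rw [hn] at hmv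
  have key : ∀ i : Fin 3, 1 ^^^ 2 ^ (i.1 + 5) < 256 ∧ 1 ^^^ 2 ^ (i.1 + 5) ∉ PtsOplus.orb := by decide
  have key2 : ∀ n ∈ PtsOplus.orb, n < 256 := by decide
  have := vec_inj _ (key i).1 m (key2 m hm') hmv
  exact (key i).2 (this ▸ hm')

theorem facts [Finite G] (F : Frame p φ E) (hc : IsConf p φ confOplus) (h9 : Nat.card Q = 2 ^ 9) : EFam.Facts F := by
  have hcs3 := CStruct.hcs3 F hc
  have hcard := CNorm.hcard F hc.va h9 hcs3
  exact
    { norm := CNorm.norm F hcs3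
      fus := fun y hy hyZ => Fusion.main F hc h9 hcard hcs3 hy hyZ
      two_el := fun v hv hvv => CNorm.two_el F hv hvv
      out := fun t h1 h2 h3 => out F hc h9 hcard hcs3 h1 h2 h3
      zx := zx F hc
      cen := fun w h1 h2 h3 => CNorm.cen F hc.va h9 hcs3 (Ident.card_G0 F hc.va) h1 h2 h3 }

/-- The recognition of `Ω₈⁺(2)`. -/
theorem recognize [Finite G] [IsSimpleGroup G] (p : Pair Q z A a) (h9 : Nat.card Q = 2 ^ 9)
    (φ : Coord p.lz) (hc : IsConf p φ confOplus) :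
    Nonempty (G ≃* Cfsg.POmega (ZMod 2) (Cfsg.quadFormPlus 4 (ZMod 2))) := by
  obtain ⟨E, F⟩ := LocalE.exists_frame p φ hc
  have H := facts F hc h9
  exact Final.of_hyp F hc.va (EFam.hyp H hc.va) H.norm

/-- in the form of S1763 -/
theorem recognize' [Finite G] [IsSimpleGroup G] (p : Pair Q z A a) (h9 : Nat.card Q = 2 ^ 9)
    (φ : Coord p.lz) (hc : IsConf p φ confOplus) :
    ∃ (F : Type) (_ : Field F) (_ : Fintype F), Fintype.card F = 2 ∧
      Nonempty (G ≃* Cfsg.POmega F (Cfsg.quadFormPlus 4 F)) :=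
  Final.disjunct (recognize p h9 φ hc)

end Cfsg.Agent.TypeO8Plus.Main
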