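import Cfsg.Agent.TypeO8Plus.Code
import Cfsg.Agent.LargeExtra.KillNine.PtsOplus

/-!
# `Ω₈⁺(2)`: the action of `C₀` on `V` as matrices (helper951)
-/

set_option autoImplicit false

namespace Cfsg.Agent.TypeO8Plus.CAct

open Cfsg.Agent.Co2Type.Quad Cfsg.Agent.LargeExtra.Base Cfsg.Agent.LargeExtra.Nine
open Cfsg.Agent.LargeExtra.KillNine.Codes Cfsg.Agent.TypeO8Plus.Code

/-- matrix of `x i` -/
def MX (i : Fin 3) : List ℕ :=
  ![[1, 3, 4, 8, 48, 32, 72, 132], [1, 2, 5, 8, 80, 40, 64, 130], [1, 2, 4, 9, 144, 36, 66, 128]] i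

/-- matrix of `w i` -/
def MW (i : Fin 3) : List ℕ :=
  ![[2, 1, 128, 64, 32, 16, 8, 4], [4, 128, 1, 32, 64, 8, 16, 2], [8, 64, 32, 1, 128, 4, 2, 16]] i

/-- the group `⟨x i, w i⟩` -/
def SS (i : Fin 3) : List (List ℕ) :=
  [idL, MX i, MW i, mulL (MX i) (MW i), mulL (MW i) (MX i), mulL (mulL (MX i) (MW i)) (MX i)]

theorem ss_mul : ∀ i, ∀ s ∈ SS i, ∀ t ∈ SS i, mulL s t ∈ SS i := by decide +kernel

theorem ss_comm : ∀ i j, i ≠ j → ∀ s ∈ SS i, ∀ t ∈ SS j, mulL s t = mulL t s := by decide +kernel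

theorem ss_inv : ∀ i, ∀ s ∈ SS i, ∃ t ∈ SS i, mulL s t = idL ∧ mulL t s = idL := by decide +kernel

/-- products -/
def MM3 (s0 s1 s2 : List ℕ) : List ℕ := mulL (mulL s0 s1) s2

theorem invol_check : ∀ s0 ∈ SS 0, ∀ s1 ∈ SS 1, ∀ s2 ∈ SS 2,
    mulL (MM3 s0 s1 s2) (MM3 s0 s1 s2) = idL → MM3 s0 s1 s2 = idL ∨
      ∃ n ∈ List.range 256, ap (MM3 s0 s1 s2) n ^^^ n ∈ LargeExtra.KillNine.PtsOplus.orb := by
  decide +kernel

theorem orb_check : ∀ n ∈ LargeExtra.KillNine.PtsOplus.orb, ∃ s0 ∈ SS 0, ∃ s1 ∈ SS 1, ∃ s2 ∈ SS 2,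
    ap (MM3 s0 s1 s2) 1 = n := by
  decide +kernel

/-- the nine transvections -/
def T9 : List (List ℕ) := [MX 0, MW 0, mulL (mulL (MX 0) (MW 0)) (MX 0), MX 1, MW 1,
  mulL (mulL (MX 1) (MW 1)) (MX 1), MX 2, MW 2, mulL (mulL (MX 2) (MW 2)) (MX 2)]

theorem T9_conj : ∀ i, ∀ t ∈ T9, mulL (mulL (MX i) t) (MX i) ∈ T9 ∧ mulL (mulL (MW i) t) (MW i) ∈ T9 := by
  decide +kernel

theorem MX_mem : ∀ i, MX i ∈ T9 := by decide +kernel

theorem MX_sq : ∀ i, mulL (MX i) (MX i) = idL := by decide +kernel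

theorem MW_sq : ∀ i, mulL (MW i) (MW i) = idL := by decide +kernel

section

variable {G : Type*} [Group G] {Q : Subgroup G} {z : G} {h : Large Q z} {φ : Coord h}

theorem cdx {c g g' : G} {m n : ℕ} (hc : Cd φ g n) (e : c * g' * c⁻¹ = g) (hn : n = m) :
    Cd φ (c * g' * c⁻¹) m := by
  rw [e, ← hn]; exact hc

/-- a matrix from the images of eight elements -/
theorem acts_of {L : List ℕ} {c : Subgroup.centralizer ({z} : Set G)} (g : Fin 8 → G)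
    (hg : ∀ k, Cd φ (g k) (2 ^ (k : ℕ))) (hL : ∀ k : Fin 8, Cd φ ((c : G) * g k * (c : G)⁻¹) (L.getD k 0)) :
    Acts φ L (h.act c) := by
  let f : F8 →ₗ[ZMod 2] F8 := (φ.e : h.V →ₗ[ZMod 2] F8).comp
    (((h.act c : h.V ≃ₗ[ZMod 2] h.V) : h.V →ₗ[ZMod 2] h.V).comp (φ.e.symm : F8 →ₗ[ZMod 2] h.V))
  have hf : f = lin L := by
    apply (Pi.basisFun (ZMod 2) (Fin 8)).ext
    intro k
    rw [Pi.basisFun_apply, basis_vec]
    obtain ⟨h1, h2⟩ := hg k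
    obtain ⟨h3, h4⟩ := hL k
    have h5 : φ.e.symm (vec (2 ^ (k : ℕ))) = h.pr ⟨g k, h1⟩ := by
      rw [← h2, LinearEquiv.symm_apply_apply]
    show φ.e (h.act c (φ.e.symm (vec (2 ^ (k : ℕ))))) = _
    rw [h5, h.act_pr]
    have h6 : h.pr (h.conjQ c ⟨g k, h1⟩) = h.pr ⟨(c : G) * g k * (c : G)⁻¹, h3⟩ := rfl
    rw [h6, h4, ← basis_vec]
    show _ = ∑ i : Fin 8, (Pi.single k (1 : ZMod 2) : F8) i • vec (L.getD i 0)
    rw [Finset.sum_eq_single k]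
    · rw [Pi.single_eq_same, one_smul]
    · intro j _ hj
      rw [Pi.single_eq_of_ne hj, zero_smul]
    · intro hk
      exact absurd (Finset.mem_univ k) hk
  intro v
  have h1 := congrArg (fun F : F8 →ₗ[ZMod 2] F8 => F (φ.e v)) hf
  have h2 : f (φ.e v) = φ.e (h.act c v) := by
    show φ.e (h.act c (φ.e.symm (φ.e v))) = _
    rw [LinearEquiv.symm_apply_apply]
  rw [← h2]
  exact h1

theorem Acts.inv {L M : List ℕ} {f : h.V ≃ₗ[ZMod 2] h.V} (hf : Acts φ L f) (hM : mulL M L = idL) :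
    Acts φ M f⁻¹ := by
  intro v
  have h1 := hf (f⁻¹ v)
  have e : f (f⁻¹ v) = v := f.apply_symm_apply v
  rw [e] at h1
  -- `lin L (φ.e (f⁻¹ v)) = φ.e v`; apply `lin M`-inverse
  have h2 : ∀ u, lin L (lin M u) = u := fun u => by rw [← lin_mulL, hM, lin_id]
  have hinj : Function.Injective (lin L) := by
    have hs : Function.Surjective (lin L) := fun u => ⟨lin M u, h2 u⟩
    exact (Finite.injective_iff_surjective).2 hs
  apply hinj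
  rw [h2, ← h1]

/-- `f` is one of the nine transvections -/
def T9f (φ : Coord h) (f : h.V ≃ₗ[ZMod 2] h.V) : Prop := ∃ T ∈ T9, Acts φ T f

theorem acts_inv_of_sq {L : List ℕ} {f : h.V ≃ₗ[ZMod 2] h.V} (hf : Acts φ L f)
    (hL : mulL L L = idL) : f⁻¹ = f := by
  have h1 : f * f = 1 := Acts.ext (L := idL) (by have := Acts.mul hf hf; rwa [hL] at this) Acts.one
  exact inv_eq_of_mul_eq_one_left h1

/-- `f` is in the `i`-th factor -/
def Sf (φ : Coord h) (i : Fin 3) (f : h.V ≃ₗ[ZMod 2] h.V) : Prop := ∃ s ∈ SS i, Acts φ s f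

theorem Sf.mul {i : Fin 3} {f g : h.V ≃ₗ[ZMod 2] h.V} (hf : Sf φ i f) (hg : Sf φ i g) :
    Sf φ i (f * g) := by
  obtain ⟨s, hs, hsf⟩ := hf
  obtain ⟨t, ht, htg⟩ := hg
  exact ⟨_, ss_mul i t ht s hs, Acts.mul htg hsf⟩

theorem Sf.inv {i : Fin 3} {f : h.V ≃ₗ[ZMod 2] h.V} (hf : Sf φ i f) : Sf φ i f⁻¹ := by
  obtain ⟨s, hs, hsf⟩ := hf
  obtain ⟨t, ht, -, h2⟩ := ss_inv i s hs
  exact ⟨t, ht, Acts.inv hsf h2⟩

theorem Sf.comm {i j : Fin 3} (hij : i ≠ j) {f g : h.V ≃ₗ[ZMod 2] h.V} (hf : Sf φ i f)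
    (hg : Sf φ j g) : f * g = g * f := by
  obtain ⟨s, hs, hsf⟩ := hf
  obtain ⟨t, ht, htg⟩ := hg
  have h1 := Acts.mul hsf htg
  have h2 := Acts.mul htg hsf
  rw [ss_comm i j hij s hs t ht] at h1
  exact Acts.ext h2 h1

theorem Sf.one (i : Fin 3) : Sf φ i (1 : h.V ≃ₗ[ZMod 2] h.V) := ⟨idL, by simp [SS], Acts.one⟩

end

variable {G : Type*} [Group G] {Q A : Subgroup G} {z a : G} {p : Pair Q z A a} {φ : Coord p.lz} {E : El G}
variable (F : Frame p φ E)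

section codes

include F

theorem x_comm (i : Fin 3) : E.x i * z = z * E.x i := by
  have h1 := F.X_rel.z i
  rw [F.z] at h1
  exact mul_inv_eq_iff_eq_mul.1 h1

theorem w_comm (i : Fin 3) : E.w i * z = z * E.w i := by
  have h1 := F.W_rel.z i
  rw [F.z] at h1
  exact mul_inv_eq_iff_eq_mul.1 h1

/-- `x i` in `C(z)` -/
def cx (i : Fin 3) : Subgroup.centralizer ({z} : Set G) :=
  ⟨E.x i, Subgroup.mem_centralizer_singleton_iff.2 (x_comm F i)⟩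

/-- `w i` in `C(z)` -/
def cw (i : Fin 3) : Subgroup.centralizer ({z} : Set G) :=
  ⟨E.w i, Subgroup.mem_centralizer_singleton_iff.2 (w_comm F i)⟩

theorem cd_h (i : Fin 3) : Cd φ (E.h i) (2 ^ (i.1 + 1)) := ⟨F.h_mem i, F.h_code i⟩

theorem cd_p (i : Fin 3) : Cd φ (E.p i) (2 ^ (i.1 + 5)) := ⟨F.p_mem i, F.p_code i⟩

theorem cd_e : Cd φ E.e 16 := ⟨F.e_mem, F.e_code⟩

theorem cd_a (hva : φ.e p.va = vec 1) : Cd φ E.a 1 := by
  rw [F.a]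
  exact ⟨p.a_mem, hva⟩

end codes

/-- the eight elements -/
def gg (E : El G) : Fin 8 → G := ![E.a, E.h 0, E.h 1, E.h 2, E.e, E.p 0, E.p 1, E.p 2]

include F in
theorem cd_gg (hva : φ.e p.va = vec 1) (k : Fin 8) : Cd φ (gg E k) (2 ^ (k : ℕ)) := by
  fin_cases k
  · exact cd_a F hva
  · exact cd_h F 0
  · exact cd_h F 1
  · exact cd_h F 2
  · exact cd_e F
  · exact cd_p F 0
  · exact cd_p F 1
  · exact cd_p F 2

theorem acts_x (hva : φ.e p.va = vec 1) (i : Fin 3) : Acts φ (MX i) (p.lz.act (cx F i)) := by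
  apply acts_of (gg E) (cd_gg F hva)
  intro k
  have ha := cd_a F hva
  have X := F.X_rel
  fin_cases i
  · fin_cases k
    · exact cdx ha (X.a 0) rfl
    · exact cdx ((cd_h F 0).mul ha) (X.h 0) rfl
    · exact cdx (cd_h F 1) (X.h1 0) rfl
    · exact cdx (cd_h F 2) (X.h2 0) rfl
    · exact cdx ((cd_e F).mul (cd_p F 0)) (X.e 0) rfl
    · exact cdx (cd_p F 0) (X.p 0) rfl
    · exact cdx ((cd_p F 1).mul (cd_h F 2)) (X.p1 0) rfl
    · exact cdx ((cd_p F 2).mul (cd_h F 1)) (X.p2 0) rfl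
  · fin_cases k
    · exact cdx ha (X.a 1) rfl
    · exact cdx (cd_h F 0) (X.h2 1) rfl
    · exact cdx ((cd_h F 1).mul ha) (X.h 1) rfl
    · exact cdx (cd_h F 2) (X.h1 1) rfl
    · exact cdx ((cd_e F).mul (cd_p F 1)) (X.e 1) rfl
    · exact cdx ((cd_p F 0).mul (cd_h F 2)) (X.p2 1) rfl
    · exact cdx (cd_p F 1) (X.p 1) rfl
    · exact cdx ((cd_p F 2).mul (cd_h F 0)) (X.p1 1) rfl
  · fin_cases k
    · exact cdx ha (X.a 2) rfl
    · exact cdx (cd_h F 0) (X.h1 2) rfl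
    · exact cdx (cd_h F 1) (X.h2 2) rfl
    · exact cdx ((cd_h F 2).mul ha) (X.h 2) rfl
    · exact cdx ((cd_e F).mul (cd_p F 2)) (X.e 2) rfl
    · exact cdx ((cd_p F 0).mul (cd_h F 1)) (X.p1 2) rfl
    · exact cdx ((cd_p F 1).mul (cd_h F 0)) (X.p2 2) rfl
    · exact cdx (cd_p F 2) (X.p 2) rfl

theorem acts_w (hva : φ.e p.va = vec 1) (i : Fin 3) : Acts φ (MW i) (p.lz.act (cw F i)) := by
  apply acts_of (gg E) (cd_gg F hva)
  intro k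
  have ha := cd_a F hva
  have X := F.W_rel
  fin_cases i
  · fin_cases k
    · exact cdx (cd_h F 0) (X.a 0) rfl
    · exact cdx ha (X.h 0) rfl
    · exact cdx (cd_p F 2) (X.h1 0) rfl
    · exact cdx (cd_p F 1) (X.h2 0) rfl
    · exact cdx (cd_p F 0) (X.e 0) rfl
    · exact cdx (cd_e F) (X.p 0) rfl
    · exact cdx (cd_h F 2) (X.p1 0) rfl
    · exact cdx (cd_h F 1) (X.p2 0) rfl
  · fin_cases k
    · exact cdx (cd_h F 1) (X.a 1) rfl
    · exact cdx (cd_p F 2) (X.h2 1) rfl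
    · exact cdx ha (X.h 1) rfl
    · exact cdx (cd_p F 0) (X.h1 1) rfl
    · exact cdx (cd_p F 1) (X.e 1) rfl
    · exact cdx (cd_h F 2) (X.p2 1) rfl
    · exact cdx (cd_e F) (X.p 1) rfl
    · exact cdx (cd_h F 0) (X.p1 1) rfl
  · fin_cases k
    · exact cdx (cd_h F 2) (X.a 2) rfl
    · exact cdx (cd_p F 1) (X.h1 2) rfl
    · exact cdx (cd_p F 0) (X.h2 2) rfl
    · exact cdx ha (X.h 2) rfl
    · exact cdx (cd_p F 2) (X.e 2) rfl
    · exact cdx (cd_h F 1) (X.p1 2) rfl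
    · exact cdx (cd_h F 0) (X.p2 2) rfl
    · exact cdx (cd_e F) (X.p 2) rfl

/-! ### the subgroup `C₀` -/

theorem x_mem_C0 (i : Fin 3) : E.x i ∈ C0 Q E :=
  Subgroup.mem_sup_right (Subgroup.subset_closure (Or.inl ⟨i, rfl⟩))

theorem w_mem_C0 (i : Fin 3) : E.w i ∈ C0 Q E :=
  Subgroup.mem_sup_right (Subgroup.subset_closure (Or.inr ⟨i, rfl⟩))

theorem Q_le_C0 : Q ≤ C0 Q E := le_sup_left

/-- induction over `C₀` -/
theorem C0_induction {P : G → Prop} (hQ : ∀ q ∈ Q, P q) (hx : ∀ i, P (E.x i)) (hw : ∀ i, P (E.w i))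
    (hmul : ∀ c d, P c → P d → P (c * d)) (hinv : ∀ c, P c → P c⁻¹) {c : G} (hc : c ∈ C0 Q E) : P c := by
  have h1 : C0 Q E = Subgroup.closure ((Q : Set G) ∪ (Set.range E.x ∪ Set.range E.w)) := by
    rw [Subgroup.closure_union, Subgroup.closure_eq]
    rfl
  rw [h1] at hc
  induction hc using Subgroup.closure_induction with
  | one => exact hQ 1 Q.one_mem
  | mem y hy =>
    rcases hy with hy | ⟨i, rfl⟩ | ⟨i, rfl⟩
    · exact hQ y hy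
    · exact hx i
    · exact hw i
  | mul x y hx hy ihx ihy => exact hmul _ _ ihx ihy
  | inv x hx ihx => exact hinv _ ihx

include F in
theorem C0_comm {c : G} (hc : c ∈ C0 Q E) : c * z = z * c := by
  refine C0_induction (P := fun c => c * z = z * c) ?_ ?_ ?_ ?_ ?_ hc
  · intro q hq; exact p.lz.comm_z q hq
  · intro i; exact x_comm F i
  · intro i; exact w_comm F i
  · intro c d hc hd; exact (Commute.mul_left (show Commute c z from hc) (show Commute d z from hd)).eq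
  · intro c hc; exact (Commute.inv_left (show Commute c z from hc)).eq

include F in
theorem C0_le : C0 Q E ≤ Subgroup.centralizer ({z} : Set G) := fun _ hc =>
  Subgroup.mem_centralizer_singleton_iff.2 (C0_comm F hc)

include F in
/-- conjugation by `C₀` permutes the nine transvections -/
theorem T9_C0 (hva : φ.e p.va = vec 1) {c : G} (hc : c ∈ C0 Q E) :
    ∃ hz : c ∈ Subgroup.centralizer ({z} : Set G), ∀ f, T9f φ f →
      T9f φ (p.lz.act ⟨c, hz⟩ * f * (p.lz.act ⟨c, hz⟩)⁻¹) ∧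
      T9f φ ((p.lz.act ⟨c, hz⟩)⁻¹ * f * p.lz.act ⟨c, hz⟩) := by
  have key : ∀ (g : Subgroup.centralizer ({z} : Set G)) (M : List ℕ), Acts φ M (p.lz.act g) →
      mulL M M = idL → (∀ t ∈ T9, mulL (mulL M t) M ∈ T9) → ∀ f, T9f φ f →
      T9f φ (p.lz.act g * f * (p.lz.act g)⁻¹) ∧ T9f φ ((p.lz.act g)⁻¹ * f * p.lz.act g) := by
    intro g M hM hM2 ht f hf
    obtain ⟨T, hT, hTf⟩ := hf
    have h2 : T9f φ (p.lz.act g * f * p.lz.act g) := by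
      refine ⟨_, ht T hT, ?_⟩
      have := Acts.mul (Acts.mul hM hTf) hM
      rwa [← mul_assoc] at this
    rw [acts_inv_of_sq hM hM2]
    exact ⟨h2, h2⟩
  refine C0_induction (P := fun c => ∃ hz : c ∈ Subgroup.centralizer ({z} : Set G), ∀ f, T9f φ f →
      T9f φ (p.lz.act ⟨c, hz⟩ * f * (p.lz.act ⟨c, hz⟩)⁻¹) ∧
      T9f φ ((p.lz.act ⟨c, hz⟩)⁻¹ * f * p.lz.act ⟨c, hz⟩)) ?_ ?_ ?_ ?_ ?_ hc
  · intro q hq
    have hz : q ∈ Subgroup.centralizer ({z} : Set G) :=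
      Subgroup.mem_centralizer_singleton_iff.2 (p.lz.comm_z q hq)
    refine ⟨hz, fun f hf => ?_⟩
    rw [p.lz.act_mem ⟨q, hz⟩ hq, one_mul, inv_one, mul_one, one_mul, mul_one]
    exact ⟨hf, hf⟩
  · intro i; exact ⟨(cx F i).2, key (cx F i) _ (acts_x F hva i) (MX_sq i) fun t ht => (T9_conj i t ht).1⟩
  · intro i; exact ⟨(cw F i).2, key (cw F i) _ (acts_w F hva i) (MW_sq i) fun t ht => (T9_conj i t ht).2⟩
  · intro c d hc hd
    obtain ⟨h1, h2⟩ := hc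
    obtain ⟨h3, h4⟩ := hd
    refine ⟨mul_mem h1 h3, fun f hf => ?_⟩
    have e : (⟨c * d, mul_mem h1 h3⟩ : Subgroup.centralizer ({z} : Set G)) = ⟨c, h1⟩ * ⟨d, h3⟩ := rfl
    rw [e, map_mul]
    constructor
    · have := (h2 _ (h4 f hf).1).1
      have e2 : p.lz.act ⟨c, h1⟩ * p.lz.act ⟨d, h3⟩ * f * (p.lz.act ⟨c, h1⟩ * p.lz.act ⟨d, h3⟩)⁻¹ =
        p.lz.act ⟨c, h1⟩ * (p.lz.act ⟨d, h3⟩ * f * (p.lz.act ⟨d, h3⟩)⁻¹) * (p.lz.act ⟨c, h1⟩)⁻¹ := by group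
      rwa [e2]
    · have := (h4 _ (h2 f hf).2).2
      have e2 : (p.lz.act ⟨c, h1⟩ * p.lz.act ⟨d, h3⟩)⁻¹ * f * (p.lz.act ⟨c, h1⟩ * p.lz.act ⟨d, h3⟩) =
        (p.lz.act ⟨d, h3⟩)⁻¹ * ((p.lz.act ⟨c, h1⟩)⁻¹ * f * p.lz.act ⟨c, h1⟩) * p.lz.act ⟨d, h3⟩ := by group
      rwa [e2]
  · intro c hc
    obtain ⟨h1, h2⟩ := hc
    refine ⟨inv_mem h1, fun f hf => ?_⟩
    have e : (⟨c⁻¹, inv_mem h1⟩ : Subgroup.centralizer ({z} : Set G)) = ⟨c, h1⟩⁻¹ := rfl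
    rw [e, map_inv, inv_inv]
    exact (h2 f hf).symm

include F in
/-- elements of `C₀` as products -/
theorem C0_rep (hva : φ.e p.va = vec 1) {c : G} (hc : c ∈ C0 Q E) :
    ∃ hz : c ∈ Subgroup.centralizer ({z} : Set G), ∃ f0 f1 f2, Sf φ 0 f0 ∧ Sf φ 1 f1 ∧ Sf φ 2 f2 ∧
      p.lz.act ⟨c, hz⟩ = f0 * f1 * f2 := by
  have o0 : Sf φ 0 (1 : p.lz.V ≃ₗ[ZMod 2] p.lz.V) := Sf.one 0
  have o1 : Sf φ 1 (1 : p.lz.V ≃ₗ[ZMod 2] p.lz.V) := Sf.one 1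
  have o2 : Sf φ 2 (1 : p.lz.V ≃ₗ[ZMod 2] p.lz.V) := Sf.one 2
  have key : ∀ (g : Subgroup.centralizer ({z} : Set G)) (i : Fin 3), Sf φ i (p.lz.act g) →
      ∃ f0 f1 f2, Sf φ 0 f0 ∧ Sf φ 1 f1 ∧ Sf φ 2 f2 ∧ p.lz.act g = f0 * f1 * f2 := by
    intro g i hg
    fin_cases i
    · exact ⟨_, 1, 1, hg, o1, o2, by group⟩
    · exact ⟨1, _, 1, o0, hg, o2, by group⟩
    · exact ⟨1, 1, _, o0, o1, hg, by group⟩
  refine C0_induction (P := fun c => ∃ hz : c ∈ Subgroup.centralizer ({z} : Set G),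
      ∃ f0 f1 f2, Sf φ 0 f0 ∧ Sf φ 1 f1 ∧ Sf φ 2 f2 ∧
      p.lz.act ⟨c, hz⟩ = f0 * f1 * f2) ?_ ?_ ?_ ?_ ?_ hc
  · intro q hq
    have hz : q ∈ Subgroup.centralizer ({z} : Set G) :=
      Subgroup.mem_centralizer_singleton_iff.2 (p.lz.comm_z q hq)
    refine ⟨hz, 1, 1, 1, o0, o1, o2, ?_⟩
    rw [p.lz.act_mem ⟨q, hz⟩ hq]; group
  · intro i; exact ⟨(cx F i).2, key (cx F i) i ⟨_, by simp [SS], acts_x F hva i⟩⟩
  · intro i; exact ⟨(cw F i).2, key (cw F i) i ⟨_, by simp [SS], acts_w F hva i⟩⟩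
  · intro c d hc hd
    obtain ⟨h1, f0, f1, f2, a0, a1, a2, h2⟩ := hc
    obtain ⟨h3, g0, g1, g2, b0, b1, b2, h4⟩ := hd
    refine ⟨mul_mem h1 h3, f0 * g0, f1 * g1, f2 * g2, a0.mul b0, a1.mul b1, a2.mul b2, ?_⟩
    have e : (⟨c * d, mul_mem h1 h3⟩ : Subgroup.centralizer ({z} : Set G)) = ⟨c, h1⟩ * ⟨d, h3⟩ := rfl
    rw [e, map_mul, h2, h4]
    have c1 : f2 * g0 = g0 * f2 := (b0.comm (by decide) a2).symm
    have c2 : f1 * g0 = g0 * f1 := (b0.comm (by decide) a1).symm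
    have c3 : f2 * g1 = g1 * f2 := (b1.comm (by decide) a2).symm
    calc f0 * f1 * f2 * (g0 * g1 * g2) = f0 * f1 * (f2 * g0) * g1 * g2 := by group
      _ = f0 * (f1 * g0) * (f2 * g1) * g2 := by rw [c1]; group
      _ = _ := by rw [c2, c3]; group
  · intro c hc
    obtain ⟨h1, f0, f1, f2, a0, a1, a2, h2⟩ := hc
    refine ⟨inv_mem h1, f0⁻¹, f1⁻¹, f2⁻¹, a0.inv, a1.inv, a2.inv, ?_⟩
    have e : (⟨c⁻¹, inv_mem h1⟩ : Subgroup.centralizer ({z} : Set G)) = ⟨c, h1⟩⁻¹ := rfl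
    rw [e, map_inv, h2, mul_inv_rev, mul_inv_rev]
    have c1 : f2⁻¹ * f1⁻¹ = f1⁻¹ * f2⁻¹ := (a1.inv.comm (by decide) a2.inv).symm
    have c2 : f2⁻¹ * f0⁻¹ = f0⁻¹ * f2⁻¹ := (a0.inv.comm (by decide) a2.inv).symm
    have c3 : f1⁻¹ * f0⁻¹ = f0⁻¹ * f1⁻¹ := (a0.inv.comm (by decide) a1.inv).symm
    calc f2⁻¹ * (f1⁻¹ * f0⁻¹) = f2⁻¹ * f0⁻¹ * f1⁻¹ := by rw [c3]; group
      _ = f0⁻¹ * (f2⁻¹ * f1⁻¹) := by rw [c2]; group
      _ = _ := by rw [c1]; group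

include F in
/-- the matrix of an element of `C₀` -/
theorem C0_matrix (hva : φ.e p.va = vec 1) {c : G} (hc : c ∈ C0 Q E) :
    ∃ hz : c ∈ Subgroup.centralizer ({z} : Set G), ∃ s0 ∈ SS 0, ∃ s1 ∈ SS 1, ∃ s2 ∈ SS 2,
      Acts φ (MM3 s0 s1 s2) (p.lz.act ⟨c, hz⟩) := by
  obtain ⟨hz, f0, f1, f2, a0, a1, a2, h⟩ := C0_rep F hva hc
  have c1 : f1 * f2 = f2 * f1 := a1.comm (by decide) a2
  have c2 : f0 * f2 = f2 * f0 := a0.comm (by decide) a2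
  have c3 : f0 * f1 = f1 * f0 := a0.comm (by decide) a1
  obtain ⟨s0, h0, b0⟩ := a0
  obtain ⟨s1, h1, b1⟩ := a1
  obtain ⟨s2, h2, b2⟩ := a2
  refine ⟨hz, s0, h0, s1, h1, s2, h2, ?_⟩
  have e : p.lz.act ⟨c, hz⟩ = f2 * (f1 * f0) := by
    rw [h, mul_assoc, c1, ← mul_assoc, c2, mul_assoc, c3]
  rw [e]
  exact Acts.mul (Acts.mul b0 b1) b2

include F in
/-- every element of a factor is realised -/
theorem ss_real (hva : φ.e p.va = vec 1) (i : Fin 3) {s : List ℕ} (hs : s ∈ SS i) :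
    ∃ c : Subgroup.centralizer ({z} : Set G), (c : G) ∈ C0 Q E ∧ Acts φ s (p.lz.act c) := by
  have hx := acts_x F hva i
  have hw := acts_w F hva i
  have hxm : (cx F i : G) ∈ C0 Q E := x_mem_C0 i
  have hwm : (cw F i : G) ∈ C0 Q E := w_mem_C0 i
  simp only [SS, List.mem_cons, List.not_mem_nil, or_false] at hs
  rcases hs with rfl | rfl | rfl | rfl | rfl | rfl
  · exact ⟨1, one_mem _, by rw [map_one]; exact Acts.one⟩
  · exact ⟨_, hxm, hx⟩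
  · exact ⟨_, hwm, hw⟩
  · exact ⟨cw F i * cx F i, mul_mem hwm hxm, by rw [map_mul]; exact Acts.mul hx hw⟩
  · exact ⟨cx F i * cw F i, mul_mem hxm hwm, by rw [map_mul]; exact Acts.mul hw hx⟩
  · exact ⟨cx F i * (cw F i * cx F i), mul_mem hxm (mul_mem hwm hxm), by
      rw [map_mul, map_mul]; exact Acts.mul (Acts.mul hx hw) hx⟩

include F in
theorem MM3_real (hva : φ.e p.va = vec 1) {s0 s1 s2 : List ℕ} (h0 : s0 ∈ SS 0) (h1 : s1 ∈ SS 1)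
    (h2 : s2 ∈ SS 2) : ∃ c : Subgroup.centralizer ({z} : Set G), (c : G) ∈ C0 Q E ∧
      Acts φ (MM3 s0 s1 s2) (p.lz.act c) := by
  obtain ⟨c0, m0, a0⟩ := ss_real F hva 0 h0
  obtain ⟨c1, m1, a1⟩ := ss_real F hva 1 h1
  obtain ⟨c2, m2, a2⟩ := ss_real F hva 2 h2
  refine ⟨c2 * (c1 * c0), mul_mem m2 (mul_mem m1 m0), ?_⟩
  rw [map_mul, map_mul]
  exact Acts.mul (Acts.mul a0 a1) a2

include F in
/-- elements over the 27 points are conjugates of `z` -/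
theorem conj_orb (hva : φ.e p.va = vec 1) {y : G} {n : ℕ} (hn : n ∈ LargeExtra.KillNine.PtsOplus.orb)
    (hy : Cd φ y n) : IsConj z y := by
  obtain ⟨s0, h0, s1, h1, s2, h2, h3⟩ := orb_check n hn
  obtain ⟨c, -, hc⟩ := MM3_real F hva h0 h1 h2
  have ha : Cd φ a 1 := ⟨p.a_mem, hva⟩
  have h4 := Cd.conj hc ha
  rw [h3] at h4
  have hza : IsConj z a := by
    obtain ⟨g, hg, -⟩ := p.isConj
    exact isConj_iff.2 ⟨g, hg⟩
  have h5 : IsConj z ((c : G) * a * (c : G)⁻¹) := hza.trans (isConj_iff.2 ⟨c, rfl⟩)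
  rcases h4.eq_or hy with h6 | h6
  · rw [← h6]; exact h5
  · -- `c a c⁻¹ = y z`; conjugate by an element of `Q`
    rw [h6] at h5
    obtain ⟨hyQ, hye⟩ := hy
    have hy0 : p.lz.pr ⟨y, hyQ⟩ ≠ 0 := by
      intro h7
      rw [h7, map_zero] at hye
      have h8 : vec 0 = vec n := by rw [vec_zero]; exact hye
      have h9 : ∀ m ∈ LargeExtra.KillNine.PtsOplus.orb, m < 256 ∧ m ≠ 0 := by decide +kernel
      exact (h9 n hn).2 (vec_inj 0 (by norm_num) n (h9 n hn).1 h8).symm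
    have hy1 : y ≠ 1 := fun h7 => hy0 (p.lz.pr_eq_zero.2 (Or.inl h7))
    have hyz : y ≠ z := fun h7 => hy0 (p.lz.pr_eq_zero.2 (Or.inr h7))
    obtain ⟨r, hr, hry⟩ := exists_not_comm p.lz hyQ hy1 hyz
    refine h5.trans (isConj_iff.2 ⟨r, ?_⟩)
    have hrz : r * z = z * r := p.lz.comm_z r hr
    calc r * (y * z) * r⁻¹ = (r * y) * z * r⁻¹ := by group
      _ = y * r * (z * z) * r⁻¹ := by rw [hry]; group
      _ = y := by rw [p.lz.z_sq]; group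

end Cfsg.Agent.TypeO8Plus.CAct
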