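import Cfsg.Agent.LieRecognition.CTMain
import Cfsg.Agent.LieRecognition.CTRawD4
import Cfsg.Agent.S1077
import Cfsg.Agent.S1097

/-!
# The Curtis-Tits presentation over the field with two elements (helper260)

`exists_hom`: elements `y r` of a group `G`, for the roots `r` in the rank two subsystems spanned by two fundamental
roots, satisfying the Curtis-Tits relations over `F₂` define a homomorphism from the Chevalley group `D(2)` onto
the subgroup they generate.
-/

set_option autoImplicit false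

namespace Cfsg.Agent.TypeO8Plus.CTHom

open Cfsg.Lie Cfsg.Agent.LieRecognition.CTString Cfsg.Agent.LieRecognition.CTInduct
  Cfsg.Agent.LieRecognition.CTGood Cfsg.Agent.LieRecognition.CTMain

/-- The data for which Steinberg's theorem is proved. -/
abbrev types : List ChevalleyDatum := [chevG2, chevB2, chevD4, chevF4, chevE6, chevE7, chevE8]

/-- Over `F₂` the Steinberg group is the Chevalley group. -/
theorem exists_theta {D : ChevalleyDatum} (hD : D ∈ types) :
    ∃ θ : D.SteinbergGroup (ZMod 2) ≃* ↥(D.group (ZMod 2)),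
      ∀ (r : ℕ) (t : ZMod 2), r < D.nroots →
        ((θ (D.stGen (ZMod 2) r t) : GL D.Idx (ZMod 2)) : Matrix D.Idx D.Idx (ZMod 2)) = D.x (ZMod 2) r t := by
  obtain ⟨θ, h1, -, h3⟩ := Cfsg.Agent.S1077.result (K := ZMod 2) D hD
  have h4 := Cfsg.Agent.S1097.result (K := ZMod 2) D hD θ h3
  have h5 : θ.ker = ⊥ := by
    rw [eq_bot_iff]
    refine h4.trans ?_
    rw [Subgroup.closure_le]
    rintro _ ⟨i, t, hi, ht, rfl⟩
    have ht1 : t = 1 := by revert t; decide
    subst ht1
    show PresentedGroup.mk (D.steinbergRels (ZMod 2)) (D.stH (D.simple i) 1) = 1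
    by_cases hr : D.simple i < D.nroots
    · have h6 := xS_hh (K := ZMod 2) D hr ht ht
      rw [mul_one] at h6
      have h7 : hh D (xS D (ZMod 2)) (D.simple i) 1 = 1 := mul_eq_left.1 h6
      have e : PresentedGroup.mk (D.steinbergRels (ZMod 2)) (D.stH (D.simple i) 1) =
          hh D (xS D (ZMod 2)) (D.simple i) 1 := mk_stWord _
      rw [e, h7]
    · have e : PresentedGroup.mk (D.steinbergRels (ZMod 2)) (D.stH (D.simple i) 1) =
          hh D (xS D (ZMod 2)) (D.simple i) 1 := mk_stWord _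
      have hneg : D.neg (D.simple i) = D.neg (D.simple i) := rfl
      rw [e, hh_eq]
      have hx : ∀ t, xS D (ZMod 2) (D.simple i) t = 1 := by
        intro t
        show PresentedGroup.mk _ (D.stX _ t) = 1
        rw [stX_ge D hr, map_one]
      simp only [nt, hx, one_mul, mul_one]
      have e1 : (-(1 : ZMod 2)⁻¹) = 1 := by rw [inv_one]; decide
      have e2 : (-(-(1 : ZMod 2))⁻¹) = 1 := by
        rw [show (-(1 : ZMod 2)) = 1 by decide, inv_one]; decide
      rw [e1, e2]
      -- the square of a generator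
      by_cases hn : D.neg (D.simple i) < D.nroots
      · rw [(xS_sys D (ZMod 2)).add _ hn]
        have e3 : (1 : ZMod 2) + 1 = 0 := by decide
        rw [e3]
        have h8 := (xS_sys D (ZMod 2)).add _ hn (0 : ZMod 2) 0
        rw [add_zero] at h8
        exact mul_eq_left.1 h8
      · have : xS D (ZMod 2) (D.neg (D.simple i)) 1 = 1 := by
          show PresentedGroup.mk _ (D.stX _ _) = 1
          rw [stX_ge D hn, map_one]
        rw [this, one_mul]
  refine ⟨MulEquiv.ofBijective θ ⟨?_, h1⟩, h3⟩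
  exact (MonoidHom.ker_eq_bot_iff θ).1 h5

/-- The images of the generators. -/
noncomputable def yy {G : Type*} [Group G] (D : ChevalleyDatum) (y : ℕ → G) (r : ℕ) (t : ZMod 2) : G :=
  open Classical in if t = 1 ∧ ∃ i j, D.InRankTwoSub i j r then y r else 1

section

variable {G : Type*} [Group G] {D : ChevalleyDatum} {y : ℕ → G}

theorem yy_zero (r : ℕ) : yy D y r 0 = 1 := if_neg (fun h => absurd h.1 (by decide))

theorem yy_one {i j r : ℕ} (h : D.InRankTwoSub i j r) : yy D y r 1 = y r := if_pos ⟨rfl, i, j, h⟩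

theorem yy_neg {r : ℕ} (h : ∀ i j, ¬ D.InRankTwoSub i j r) (t : ZMod 2) : yy D y r t = 1 :=
  if_neg (fun ⟨_, i, j, h'⟩ => h i j h')

theorem zmod_two (t : ZMod 2) : t = 0 ∨ t = 1 := by revert t; decide

/-- The Curtis-Tits relations over `F₂`. -/
structure Rel (D : ChevalleyDatum) (y : ℕ → G) : Prop where
  sq : ∀ i j r, D.InRankTwoSub i j r → y r * y r = 1
  comm : ∀ i j r s, D.InRankTwoSub i j r → D.InRankTwoSub i j s → s ≠ r → s ≠ D.neg r →
    (y s)⁻¹ * (y r)⁻¹ * y s * y r = ((D.commTerms r s).map fun c => if (c.2.1 : ZMod 2) = 1 then y c.1 else 1).prod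
  nn : ∀ i j r, D.InRankTwoSub i j r →
    (y r * y (D.neg r) * y r) * (y r * y (D.neg r) * y r) = 1

variable {rf : ℕ → ℕ → ℕ} {eta : ℕ → ℕ → ℤ} {mu : ℕ → ℕ} {ds : ℕ → ℕ} {m : ℕ → ℕ → ℕ}

/-- The homomorphism from the Curtis-Tits group. -/
theorem exists_homCT (C : Good D rf eta mu ds m) (h : Rel D y) :
    ∃ φ : D.CurtisTitsGroup (ZMod 2) →* G, ∀ r t, φ (xC D (ZMod 2) r t) = yy D y r t := by
  have h0 : ∀ (r : ℕ) (t : ZMod 2), ¬ r < D.nroots → yy D y r t = 1 := fun r t hr =>
    yy_neg (fun _ _ h' => hr h'.1) t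
  have hX : ∀ (r : ℕ) (t : ZMod 2), FreeGroup.lift (fun p : Fin D.nroots × ZMod 2 => yy D y p.1 p.2) (D.stX r t) =
    yy D y r t := fl_stX (yy D y) h0
  have hW : ∀ (w : List (ℕ × ZMod 2)), FreeGroup.lift (fun p : Fin D.nroots × ZMod 2 => yy D y p.1 p.2)
    (D.stWord w) = wprod (yy D y) w := fl_stWord (yy D y) h0
  refine ⟨PresentedGroup.toGroup (f := fun p : Fin D.nroots × ZMod 2 => yy D y p.1 p.2)
    (rels := D.curtisTitsRels (ZMod 2)) ?_, fun r t => hX r t⟩
  rintro g (((⟨r, t, hr, h1, rfl⟩ | ⟨i, j, r, t, u, h1, rfl⟩) | ⟨i, j, r, s, t, u, hr, hs, h1, h2, rfl⟩) |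
      ⟨i, j, r, t, u, h1, ht, hu, rfl⟩)
  · rw [hX, yy_neg h1]
  · rw [map_mul, map_mul, map_inv, hX, hX, hX]
    rcases zmod_two t with rfl | rfl <;> rcases zmod_two u with rfl | rfl
    · rw [add_zero, yy_zero]; simp
    · rw [zero_add, yy_zero, one_mul, mul_inv_cancel]
    · rw [add_zero, yy_zero, mul_one, mul_inv_cancel]
    · have e3 : (1 : ZMod 2) + 1 = 0 := by decide
      rw [e3, yy_zero, yy_one h1, h.sq i j r h1]; simp
  · rw [map_mul, map_mul, map_mul, map_mul, map_inv, map_inv, map_inv, hX, hX, hW]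
    have hclos := fun c hc => C.st_clos i hr.2.1 j hr.2.2.1 r s hr hs ⟨h1, h2⟩ c hc
    have hw : wprod (yy D y) (D.commWord (ZMod 2) r s t u) =
        ((D.commTerms r s).map fun c =>
          yy D y c.1 ((c.2.1 : ZMod 2) * (-t) ^ c.2.2.1 * u ^ c.2.2.2)).prod := by
      show (List.map _ (List.map _ _)).prod = _
      rw [List.map_map]; rfl
    have hexp : ∀ c ∈ D.commTerms r s, c.2.2.1 ≠ 0 ∧ c.2.2.2 ≠ 0 := by
      intro c hc
      unfold ChevalleyDatum.commTerms at hc
      simp only [List.mem_filterMap, List.mem_cons, List.not_mem_nil, or_false] at hc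
      obtain ⟨a, ha, hac⟩ := hc
      rcases ha with rfl | rfl | rfl | rfl | rfl | rfl | rfl <;>
      · simp only [Option.map_eq_some_iff] at hac
        obtain ⟨k, -, rfl⟩ := hac
        simp
    rw [hw]
    rcases zmod_two t with rfl | rfl
    · have : (D.commTerms r s).map (fun c =>
          yy D y c.1 ((c.2.1 : ZMod 2) * (-0) ^ c.2.2.1 * u ^ c.2.2.2)) =
          (D.commTerms r s).map fun _ => (1 : G) := by
        refine List.map_congr_left fun c hc => ?_
        rw [neg_zero, zero_pow (hexp c hc).1, mul_zero, zero_mul, yy_zero]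
      rw [this, yy_zero]
      simp
    · rcases zmod_two u with rfl | rfl
      · have : (D.commTerms r s).map (fun c =>
            yy D y c.1 ((c.2.1 : ZMod 2) * (-1) ^ c.2.2.1 * 0 ^ c.2.2.2)) =
            (D.commTerms r s).map fun _ => (1 : G) := by
          refine List.map_congr_left fun c hc => ?_
          rw [zero_pow (hexp c hc).2, mul_zero, yy_zero]
        rw [this, yy_zero]
        simp
      · have : (D.commTerms r s).map (fun c =>
            yy D y c.1 ((c.2.1 : ZMod 2) * (-1) ^ c.2.2.1 * 1 ^ c.2.2.2)) =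
            (D.commTerms r s).map fun c => if (c.2.1 : ZMod 2) = 1 then y c.1 else 1 := by
          refine List.map_congr_left fun c hc => ?_
          have e1 : (-1 : ZMod 2) = 1 := by decide
          rw [e1, one_pow, one_pow, mul_one, mul_one]
          rcases zmod_two (c.2.1 : ZMod 2) with h3 | h3
          · rw [h3, yy_zero, if_neg (by decide)]
          · rw [h3, yy_one (hclos c hc), if_pos rfl]
        rw [this, yy_one hs, yy_one hr, h.comm i j r s hr hs h1 h2, mul_inv_cancel]
  · have ht1 : t = 1 := by revert t; decide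
    have hu1 : u = 1 := by revert u; decide
    subst ht1; subst hu1
    have e : FreeGroup.lift (fun p : Fin D.nroots × ZMod 2 => yy D y p.1 p.2) (D.stH r 1) = 1 := by
      show FreeGroup.lift (fun p : Fin D.nroots × ZMod 2 => yy D y p.1 p.2) (D.stWord (D.hWord r 1)) = _
      rw [hW]
      show hh D (yy D y) r 1 = 1
      rw [hh_eq]
      have e0 : (-(1 : ZMod 2)) = 1 := by decide
      have e1 : (-(1 : ZMod 2)⁻¹) = 1 := by rw [inv_one]; decide
      simp only [nt]
      rw [e0, e1, yy_one h1, yy_one (C.st_neg _ _ _ h1)]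
      exact h.nn i j r h1
    rw [map_mul, map_mul, map_inv, mul_one, e, mul_one, inv_one, mul_one]

/-- The homomorphism from the Chevalley group. -/
theorem exists_hom (C : Good D rf eta mu ds m) (hD : D ∈ types) (h : Rel D y) :
    ∃ φ : ↥(D.group (ZMod 2)) →* G,
      (∀ (r : ℕ), (∃ i j, D.InRankTwoSub i j r) → ∀ g : ↥(D.group (ZMod 2)),
        ((g : GL D.Idx (ZMod 2)) : Matrix D.Idx D.Idx (ZMod 2)) = D.x (ZMod 2) r 1 → φ g = y r) ∧
      φ.range = Subgroup.closure {g | ∃ i j r, D.InRankTwoSub i j r ∧ g = y r} := by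
  obtain ⟨θ, hθ⟩ := exists_theta hD
  obtain ⟨e, he⟩ := exists_iso C (ZMod 2)
  obtain ⟨φ, hφ⟩ := exists_homCT C h
  refine ⟨φ.comp (e.symm.toMonoidHom.comp θ.symm.toMonoidHom), ?_, ?_⟩
  · rintro r ⟨i, j, hr⟩ g hg
    have h1 : θ.symm g = D.stGen (ZMod 2) r 1 := by
      rw [MulEquiv.symm_apply_eq]
      apply Subtype.ext
      apply Units.ext
      rw [hθ r 1 hr.1]
      exact hg
    have h2 : e.symm (D.stGen (ZMod 2) r 1) = xC D (ZMod 2) r 1 := by
      rw [MulEquiv.symm_apply_eq]
      exact (he i j r 1 hr).symm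
    show φ (e.symm (θ.symm g)) = y r
    rw [h1, h2, hφ, yy_one hr]
  · have h1 : (φ.comp (e.symm.toMonoidHom.comp θ.symm.toMonoidHom)).range = φ.range := by
      have : (e.symm.toMonoidHom.comp θ.symm.toMonoidHom).range = ⊤ := by
        rw [MonoidHom.range_eq_top]
        exact e.symm.surjective.comp θ.symm.surjective
      rw [MonoidHom.range_comp, this, ← MonoidHom.range_eq_map]
    rw [h1]
    apply le_antisymm
    · rw [MonoidHom.range_eq_map, ← PresentedGroup.closure_range_of, MonoidHom.map_closure, Subgroup.closure_le]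
      rintro _ ⟨_, ⟨⟨⟨r, hr⟩, t⟩, rfl⟩, rfl⟩
      have e1 : (PresentedGroup.of (⟨r, hr⟩, t) : D.CurtisTitsGroup (ZMod 2)) = xC D (ZMod 2) r t := by
        show _ = PresentedGroup.mk _ (D.stX r t)
        rw [stX_lt D hr]; rfl
      rw [e1, hφ]
      by_cases h2 : ∃ i j, D.InRankTwoSub i j r
      · obtain ⟨i, j, h2⟩ := h2
        rcases zmod_two t with rfl | rfl
        · rw [yy_zero]; exact Subgroup.one_mem _
        · rw [yy_one h2]; exact Subgroup.subset_closure ⟨i, j, r, h2, rfl⟩
      · rw [yy_neg (fun i j h3 => h2 ⟨i, j, h3⟩)]; exact Subgroup.one_mem _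
    · rw [Subgroup.closure_le]
      rintro _ ⟨i, j, r, hr, rfl⟩
      exact ⟨xC D (ZMod 2) r 1, by rw [hφ, yy_one hr]⟩

end

end Cfsg.Agent.TypeO8Plus.CTHom
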