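import Cfsg.Agent.LargeExtra.Nine.Iface

/-!
# `Ω₈⁺(2)`: the frame (helper260)

`V = Q / ⟨z⟩ = V₁ ⊗ V₂ ⊗ V₃`, `Vᵢ = {0, ∞, 0+∞} ∪ {0}`.  The eight generators of `Q` (codes in the coordinates of
`confOplus`): `a = ∞∞∞` (1), `h 0 = 0∞∞` (2), `h 1 = ∞0∞` (4), `h 2 = ∞∞0` (8), `e = 000` (16),
`p 0 = ∞00` (32), `p 1 = 0∞0` (64), `p 2 = 00∞` (128).  `x i` is the transvection `0 ↦ 0 + ∞` and `w i` the swap
`0 ↔ ∞` in the `i`-th coordinate, `s` swaps `z` and `a`.  In the language of `D₄`: `z` = highest root,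
`e, x 0, x 1, x 2` = fundamental roots (`e` the central node), `p i = e + x i`, `h i = e + x (i+1) + x (i+2)`,
`a = e + x 0 + x 1 + x 2`; `s, w 0, w 1, w 2` = fundamental reflections.

For `i : Fin 3` the other two indices are `i + 1`, `i + 2`.
-/

set_option autoImplicit false

namespace Cfsg.Agent.TypeO8Plus

open Cfsg.Agent.Co2Type.Quad Cfsg.Agent.LargeExtra.Base Cfsg.Agent.LargeExtra.Nine

/-- The elements of a frame. -/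
structure El (G : Type*) where
  z : G
  a : G
  h : Fin 3 → G
  e : G
  p : Fin 3 → G
  x : Fin 3 → G
  w : Fin 3 → G
  s : G

variable {G : Type*} [Group G]

/-- The relations between the generators of `Q`. -/
structure QRel (E : El G) : Prop where
  z_ne : E.z ≠ 1
  zz : E.z * E.z = 1
  aa : E.a * E.a = 1
  hh : ∀ i, E.h i * E.h i = 1
  ee : E.e * E.e = 1
  pp : ∀ i, E.p i * E.p i = 1
  za : E.z * E.a = E.a * E.z
  zh : ∀ i, E.z * E.h i = E.h i * E.z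
  ze : E.z * E.e = E.e * E.z
  zp : ∀ i, E.z * E.p i = E.p i * E.z
  ah : ∀ i, E.a * E.h i = E.h i * E.a
  ap : ∀ i, E.a * E.p i = E.p i * E.a
  hh' : ∀ i j, E.h i * E.h j = E.h j * E.h i
  eh : ∀ i, E.e * E.h i = E.h i * E.e
  ep : ∀ i, E.e * E.p i = E.p i * E.e
  pp' : ∀ i j, E.p i * E.p j = E.p j * E.p i
  hp : ∀ i j, i ≠ j → E.h i * E.p j = E.p j * E.h i
  /-- the non-commuting pairs -/
  ea : E.e * E.a = E.a * E.e * E.z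
  ph : ∀ i, E.p i * E.h i = E.h i * E.p i * E.z

/-- The action of `x i`. -/
structure XRel (E : El G) : Prop where
  z : ∀ i, E.x i * E.z * (E.x i)⁻¹ = E.z
  a : ∀ i, E.x i * E.a * (E.x i)⁻¹ = E.a
  h : ∀ i, E.x i * E.h i * (E.x i)⁻¹ = E.h i * E.a
  h1 : ∀ i, E.x i * E.h (i + 1) * (E.x i)⁻¹ = E.h (i + 1)
  h2 : ∀ i, E.x i * E.h (i + 2) * (E.x i)⁻¹ = E.h (i + 2)
  e : ∀ i, E.x i * E.e * (E.x i)⁻¹ = E.e * E.p i
  p : ∀ i, E.x i * E.p i * (E.x i)⁻¹ = E.p i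
  p1 : ∀ i, E.x i * E.p (i + 1) * (E.x i)⁻¹ = E.p (i + 1) * E.h (i + 2)
  p2 : ∀ i, E.x i * E.p (i + 2) * (E.x i)⁻¹ = E.p (i + 2) * E.h (i + 1)

/-- The action of `w i`. -/
structure WRel (E : El G) : Prop where
  z : ∀ i, E.w i * E.z * (E.w i)⁻¹ = E.z
  a : ∀ i, E.w i * E.a * (E.w i)⁻¹ = E.h i
  h : ∀ i, E.w i * E.h i * (E.w i)⁻¹ = E.a
  h1 : ∀ i, E.w i * E.h (i + 1) * (E.w i)⁻¹ = E.p (i + 2)
  h2 : ∀ i, E.w i * E.h (i + 2) * (E.w i)⁻¹ = E.p (i + 1)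
  e : ∀ i, E.w i * E.e * (E.w i)⁻¹ = E.p i
  p : ∀ i, E.w i * E.p i * (E.w i)⁻¹ = E.e
  p1 : ∀ i, E.w i * E.p (i + 1) * (E.w i)⁻¹ = E.h (i + 2)
  p2 : ∀ i, E.w i * E.p (i + 2) * (E.w i)⁻¹ = E.h (i + 1)

/-- The action of `s`. -/
structure SRel (E : El G) : Prop where
  z : E.s * E.z * E.s⁻¹ = E.a
  a : E.s * E.a * E.s⁻¹ = E.z
  h : ∀ i, E.s * E.h i * E.s⁻¹ = E.h i
  p : ∀ i, E.s * E.p i * E.s⁻¹ = E.x i
  x : ∀ i, E.s * E.x i * E.s⁻¹ = E.p i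

/-- The Coxeter-type relations. -/
structure WeylRel (E : El G) : Prop where
  ss : E.s * E.s = 1
  xx : ∀ i, E.x i * E.x i = 1
  ww : ∀ i, E.w i * E.w i = 1
  se : E.s * E.e * E.s = E.e * E.s * E.e
  xw : ∀ i, E.x i * E.w i * E.x i = E.w i * E.x i * E.w i
  sw : ∀ i, E.s * E.w i * E.s = E.w i * E.s * E.w i
  xx' : ∀ i j, E.x i * E.x j = E.x j * E.x i
  xw' : ∀ i j, i ≠ j → E.x i * E.w j = E.w j * E.x i
  ww' : ∀ i j, E.w i * E.w j = E.w j * E.w i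

/-- The frame: everything exact. -/
structure Frame {Q A : Subgroup G} {z a : G} (p : Pair Q z A a) (φ : Coord p.lz) (E : El G) : Prop where
  z : E.z = z
  a : E.a = a
  h_mem : ∀ i, E.h i ∈ Q
  e_mem : E.e ∈ Q
  p_mem : ∀ i, E.p i ∈ Q
  h_code : ∀ i : Fin 3, φ.e (p.lz.pr ⟨E.h i, h_mem i⟩) = vec (2 ^ (i.1 + 1))
  e_code : φ.e (p.lz.pr ⟨E.e, e_mem⟩) = vec 16
  p_code : ∀ i : Fin 3, φ.e (p.lz.pr ⟨E.p i, p_mem i⟩) = vec (2 ^ (i.1 + 5))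
  x_mem : ∀ i, E.x i ∈ A
  Q_rel : QRel E
  X_rel : XRel E
  W_rel : WRel E
  S_rel : SRel E
  weyl : WeylRel E

/-- `C₀ = Q (L₁ × L₂ × L₃)` -/
def C0 (Q : Subgroup G) (E : El G) : Subgroup G := Q ⊔ Subgroup.closure (Set.range E.x ∪ Set.range E.w)

/-- `G₀ = ⟨C₀, s⟩` -/
def G0 (Q : Subgroup G) (E : El G) : Subgroup G := C0 Q E ⊔ Subgroup.zpowers E.s

/-- `M = G₀ C_G(z)` -/
def MM (Q : Subgroup G) (E : El G) : Subgroup G := G0 Q E ⊔ Subgroup.centralizer {E.z}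

/-- `t` acts as the permutation `π` of the three coordinates. -/
structure IsPerm (E : El G) (π : Equiv.Perm (Fin 3)) (t : G) : Prop where
  z : t * E.z * t⁻¹ = E.z
  a : t * E.a * t⁻¹ = E.a
  e : t * E.e * t⁻¹ = E.e
  s : t * E.s * t⁻¹ = E.s
  h : ∀ i, t * E.h i * t⁻¹ = E.h (π i)
  p : ∀ i, t * E.p i * t⁻¹ = E.p (π i)
  x : ∀ i, t * E.x i * t⁻¹ = E.x (π i)
  w : ∀ i, t * E.w i * t⁻¹ = E.w (π i)

end Cfsg.Agent.TypeO8Plus
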