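import Cfsg.Agent.TypeO8Plus.CTHom
import Cfsg.Agent.TypeO8Plus.Frame
import Cfsg.Agent.S1082
import Cfsg.Agent.S0293
import Cfsg.Agent.S0296

/-!
# `Ω₈⁺(2)` from the rank two relations (helper260)

`Gens G e s x w p`: the relations between the fundamental root elements `e`, `x i` and the fundamental reflections `s`,
`w i`. `exists_mulEquiv`: the group generated by them is `POmega (ZMod 2) (quadFormPlus 4 (ZMod 2))`.
-/

set_option autoImplicit false

namespace Cfsg.Agent.TypeO8Plus.Chev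

open Cfsg.Lie Cfsg.Agent.TypeO8Plus.CTHom

variable {G : Type*} [Group G]

theorem comm_rel {a b : G} (h : a * b = b * a) : a⁻¹ * b⁻¹ * a * b = 1 := by
  have : a⁻¹ * b⁻¹ = (b * a)⁻¹ := by rw [mul_inv_rev]
  rw [this, ← h, mul_assoc]; exact inv_mul_cancel _

theorem inv_of_sq {a : G} (h : a * a = 1) : a⁻¹ = a := inv_eq_of_mul_eq_one_left h

/-- Relations of type `A₂`. -/
structure ATwo (e x s w p : G) : Prop where
  ee : e * e = 1
  xx : x * x = 1
  ss : s * s = 1
  ww : w * w = 1
  pp : p * p = 1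
  ses : s * e * s = e * s * e
  wxw : w * x * w = x * w * x
  sws : s * w * s = w * s * w
  sps : s * p * s = x
  wpw : w * p * w = e
  exe : e * x * e * x = p
  ep : e * p = p * e
  px : p * x = x * p

/-- The six root elements. -/
def R (e x s w p : G) : Fin 6 → G := ![e, p, x, s * e * s, w * (s * e * s) * w, w * x * w]

section

variable {e x s w p : G}

theorem flip {s a b : G} (hs : s * s = 1) (h : s * a * s = b) : s * b * s = a := by
  rw [← h]
  calc s * (s * a * s) * s = (s * s) * a * (s * s) := by group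
    _ = a := by rw [hs]; group

theorem conj_mul {s a b a' b' : G} (hs : s * s = 1) (ha : s * a * s = a') (hb : s * b * s = b') :
    s * (a * b) * s = a' * b' := by
  rw [← ha, ← hb]
  calc s * (a * b) * s = s * a * 1 * b * s := by group
    _ = s * a * (s * s) * b * s := by rw [hs]
    _ = _ := by group

theorem conj_comm {s a b a' b' : G} (hs : s * s = 1) (ha : s * a * s = a') (hb : s * b * s = b')
    (h : a * b = b * a) : a' * b' = b' * a' := by
  rw [← conj_mul hs ha hb, ← conj_mul hs hb ha, h]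

theorem conj_four {s a b c a' b' c' : G} (hs : s * s = 1) (ha : s * a * s = a') (hb : s * b * s = b')
    (hc : s * c * s = c') (h : a * b * a * b = c) : a' * b' * a' * b' = c' := by
  rw [← hc, ← h, conj_mul hs (conj_mul hs (conj_mul hs ha hb) ha) hb]

namespace ATwo

theorem s_R (h : ATwo e x s w p) : ∀ k : Fin 6, s * R e x s w p k * s = R e x s w p (3 - k) := by
  have h45 : s * (w * (s * e * s) * w) * s = w * x * w := by
    calc s * (w * (s * e * s) * w) * s = (s * w * s) * e * (s * w * s) := by group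
      _ = (w * s * w) * e * (w * s * w) := by rw [h.sws]
      _ = w * (s * (w * e * w) * s) * w := by group
      _ = w * (s * p * s) * w := by rw [flip h.ww h.wpw]
      _ = w * x * w := by rw [h.sps]
  intro k
  fin_cases k
  · rfl
  · exact h.sps
  · exact flip h.ss h.sps
  · exact flip h.ss rfl
  · exact h45
  · exact flip h.ss h45

theorem w_R (h : ATwo e x s w p) : ∀ k : Fin 6, w * R e x s w p k * w = R e x s w p (1 - k) := by
  intro k
  fin_cases k
  · exact flip h.ww h.wpw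
  · exact h.wpw
  · rfl
  · rfl
  · exact flip h.ww rfl
  · exact flip h.ww rfl

theorem sq (h : ATwo e x s w p) : ∀ k : Fin 6, R e x s w p k * R e x s w p k = 1 := by
  have key : ∀ {t a : G}, t * t = 1 → a * a = 1 → (t * a * t) * (t * a * t) = 1 := by
    intro t a ht ha
    have := conj_mul ht (rfl : t * a * t = _) (rfl : t * a * t = _)
    rw [← this, ha, mul_one, ht]
  intro k
  fin_cases k
  · exact h.ee
  · exact h.pp
  · exact h.xx
  · exact key h.ss h.ee
  · exact key h.ww (key h.ss h.ee)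
  · exact key h.ww h.xx

theorem c1 (h : ATwo e x s w p) : ∀ k : Fin 6,
    R e x s w p k * R e x s w p (k + 1) = R e x s w p (k + 1) * R e x s w p k := by
  have c0 : R e x s w p 0 * R e x s w p 1 = R e x s w p 1 * R e x s w p 0 := h.ep
  have c1 : R e x s w p 1 * R e x s w p 2 = R e x s w p 2 * R e x s w p 1 := h.px
  have c2 : R e x s w p 3 * R e x s w p 2 = R e x s w p 2 * R e x s w p 3 :=
    conj_comm h.ss (h.s_R 0) (h.s_R 1) c0
  have c5 : R e x s w p 0 * R e x s w p 5 = R e x s w p 5 * R e x s w p 0 :=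
    conj_comm h.ww (h.w_R 1) (h.w_R 2) c1
  have c3 : R e x s w p 3 * R e x s w p 4 = R e x s w p 4 * R e x s w p 3 :=
    conj_comm h.ss (h.s_R 0) (h.s_R 5) c5
  have c4 : R e x s w p 4 * R e x s w p 5 = R e x s w p 5 * R e x s w p 4 :=
    conj_comm h.ww (h.w_R 3) (h.w_R 2) c2
  intro k
  fin_cases k
  · exact c0
  · exact c1
  · exact c2.symm
  · exact c3
  · exact c4
  · exact c5.symm

theorem c2 (h : ATwo e x s w p) : ∀ k : Fin 6,
    R e x s w p (k + 2) * R e x s w p k * R e x s w p (k + 2) * R e x s w p k = R e x s w p (k + 1) ∧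
    R e x s w p k * R e x s w p (k + 2) * R e x s w p k * R e x s w p (k + 2) = R e x s w p (k + 1) := by
  have swap : ∀ {a b c : G}, a * a = 1 → b * b = 1 → c * c = 1 → a * b * a * b = c → b * a * b * a = c := by
    intro a b c ha hb hc h
    have h1 : (a * b * a * b) * (b * a * b * a) = 1 := by
      calc (a * b * a * b) * (b * a * b * a) = a * b * a * (b * b) * a * b * a := by group
        _ = a * b * (a * a) * b * a := by rw [hb]; group
        _ = a * (b * b) * a := by rw [ha]; group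
        _ = 1 := by rw [hb, mul_one, ha]
    rw [h] at h1
    have := inv_eq_of_mul_eq_one_right h1
    rw [← this, inv_of_sq hc]
  have A : ∀ j k l : Fin 6, R e x s w p j * R e x s w p k * R e x s w p j * R e x s w p k = R e x s w p l →
      R e x s w p k * R e x s w p j * R e x s w p k * R e x s w p j = R e x s w p l := fun j k l =>
    swap (h.sq j) (h.sq k) (h.sq l)
  have d0 : R e x s w p 0 * R e x s w p 2 * R e x s w p 0 * R e x s w p 2 = R e x s w p 1 := h.exe
  have d5 : R e x s w p 1 * R e x s w p 5 * R e x s w p 1 * R e x s w p 5 = R e x s w p 0 :=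
    conj_four h.ww (h.w_R 0) (h.w_R 2) (h.w_R 1) d0
  have d1 : R e x s w p 3 * R e x s w p 1 * R e x s w p 3 * R e x s w p 1 = R e x s w p 2 :=
    conj_four h.ss (h.s_R 0) (h.s_R 2) (h.s_R 1) d0
  have d2 : R e x s w p 2 * R e x s w p 4 * R e x s w p 2 * R e x s w p 4 = R e x s w p 3 :=
    conj_four h.ss (h.s_R 1) (h.s_R 5) (h.s_R 0) d5
  have d4 : R e x s w p 4 * R e x s w p 0 * R e x s w p 4 * R e x s w p 0 = R e x s w p 5 :=
    conj_four h.ww (h.w_R 3) (h.w_R 1) (h.w_R 2) d1
  have d3 : R e x s w p 5 * R e x s w p 3 * R e x s w p 5 * R e x s w p 3 = R e x s w p 4 :=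
    conj_four h.ss (h.s_R 4) (h.s_R 0) (h.s_R 5) d4
  intro k
  fin_cases k
  · exact ⟨A _ _ _ d0, d0⟩
  · exact ⟨d1, A _ _ _ d1⟩
  · exact ⟨A _ _ _ d2, d2⟩
  · exact ⟨d3, A _ _ _ d3⟩
  · exact ⟨A _ _ _ d4, d4⟩
  · exact ⟨d5, A _ _ _ d5⟩

theorem r1 (h : ATwo e x s w p) (k : Fin 6) :
    (R e x s w p (k + 1))⁻¹ * (R e x s w p k)⁻¹ * R e x s w p (k + 1) * R e x s w p k = 1 :=
  comm_rel (h.c1 k).symm

theorem r5 (h : ATwo e x s w p) (k : Fin 6) :
    (R e x s w p (k + 5))⁻¹ * (R e x s w p k)⁻¹ * R e x s w p (k + 5) * R e x s w p k = 1 := by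
  have e0 : ∀ k : Fin 6, k + 5 + 1 = k := by decide
  have := h.c1 (k + 5)
  rw [e0 k] at this
  exact comm_rel this

theorem r2 (h : ATwo e x s w p) (k : Fin 6) :
    (R e x s w p (k + 2))⁻¹ * (R e x s w p k)⁻¹ * R e x s w p (k + 2) * R e x s w p k =
      R e x s w p (k + 1) := by
  rw [inv_of_sq (h.sq k), inv_of_sq (h.sq (k + 2))]
  exact (h.c2 k).1

theorem r4 (h : ATwo e x s w p) (k : Fin 6) :
    (R e x s w p (k + 4))⁻¹ * (R e x s w p k)⁻¹ * R e x s w p (k + 4) * R e x s w p k =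
      R e x s w p (k + 5) := by
  rw [inv_of_sq (h.sq k), inv_of_sq (h.sq (k + 4))]
  have e1 : ∀ k : Fin 6, k + 4 + 2 = k := by decide
  have e2 : ∀ k : Fin 6, k + 4 + 1 = k + 5 := by decide
  have := (h.c2 (k + 4)).2
  rw [e1 k, e2 k] at this
  exact this

/-- the relation `(x_r x_{-r} x_r)² = 1` -/
theorem nn (h : ATwo e x s w p) (k : Fin 6) :
    (R e x s w p k * R e x s w p (k + 3) * R e x s w p k) *
      (R e x s w p k * R e x s w p (k + 3) * R e x s w p k) = 1 := by
  have h1 := h.sq k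
  have h2 := h.sq (k + 3)
  calc _ = R e x s w p k * R e x s w p (k + 3) * (R e x s w p k * R e x s w p k) *
        (R e x s w p (k + 3) * R e x s w p k) := by group
    _ = R e x s w p k * (R e x s w p (k + 3) * R e x s w p (k + 3)) * R e x s w p k := by rw [h1]; group
    _ = 1 := by rw [h2, mul_one, h1]

end ATwo

end

/-- The relations of type `D₄`. -/
structure Gens (e s : G) (x w p : Fin 3 → G) : Prop where
  a : ∀ i, ATwo e (x i) s (w i) (p i)
  xx : ∀ i j, x i * x j = x j * x i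
  xw : ∀ i j, i ≠ j → x i * w j = w j * x i
  ww : ∀ i j, w i * w j = w j * w i

namespace Gens

variable {e s : G} {x w p : Fin 3 → G}

theorem cxx (h : Gens e s x w p) (i j : Fin 3) (_ : i ≠ j) : x i * x j = x j * x i := h.xx i j

theorem cxy (h : Gens e s x w p) (i j : Fin 3) (hij : i ≠ j) :
    x i * (w j * x j * w j) = (w j * x j * w j) * x i := by
  have h1 := h.xw i j hij
  have h2 := h.xx i j
  calc x i * (w j * x j * w j) = (x i * w j) * x j * w j := by group
    _ = w j * (x i * x j) * w j := by rw [h1]; group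
    _ = w j * x j * (x i * w j) := by rw [h2]; group
    _ = _ := by rw [h1]; group

theorem cyx (h : Gens e s x w p) (i j : Fin 3) (hij : i ≠ j) :
    (w i * x i * w i) * x j = x j * (w i * x i * w i) := (h.cxy j i hij.symm).symm

theorem cyy (h : Gens e s x w p) (i j : Fin 3) (hij : i ≠ j) :
    (w i * x i * w i) * (w j * x j * w j) = (w j * x j * w j) * (w i * x i * w i) := by
  have h1 := h.cxy i j hij
  have h2 := h.ww i j
  have h3 : w i * (w j * x j * w j) = (w j * x j * w j) * w i := by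
    have h4 := h.xw j i hij.symm
    calc w i * (w j * x j * w j) = (w i * w j) * x j * w j := by group
      _ = w j * (w i * x j) * w j := by rw [h2]; group
      _ = w j * x j * (w i * w j) := by rw [← h4]; group
      _ = _ := by rw [h2]; group
  calc (w i * x i * w i) * (w j * x j * w j) = w i * x i * (w i * (w j * x j * w j)) := by group
    _ = w i * (x i * (w j * x j * w j)) * w i := by rw [h3]; group
    _ = (w i * (w j * x j * w j)) * x i * w i := by rw [h1]; group
    _ = _ := by rw [h3]; group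

end Gens

/-- The root elements, numbered as in `chevD4`. -/
def y (e s : G) (x w p : Fin 3 → G) : ℕ → G
  | 4 => R e (x 0) s (w 0) (p 0) 4
  | 5 => R e (x 0) s (w 0) (p 0) 5
  | 7 => R e (x 1) s (w 1) (p 1) 4
  | 8 => R e (x 2) s (w 2) (p 2) 4
  | 9 => s * e * s
  | 10 => R e (x 1) s (w 1) (p 1) 5
  | 11 => R e (x 2) s (w 2) (p 2) 5
  | 12 => x 2
  | 13 => x 1
  | 14 => e
  | 15 => p 2
  | 16 => p 1
  | 18 => x 0
  | 19 => p 0
  | _ => 1

/-- all pairs in rank two subsystems, with the index of the sum (24: no root) -/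
def pairs : List (ℕ × ℕ × ℕ) :=
  [(4, 5, 24), (4, 9, 24), (4, 14, 5), (4, 18, 9), (5, 4, 24), (5, 9, 4), (5, 10, 24), (5, 11, 24),
   (5, 12, 24), (5, 13, 24), (5, 14, 24), (5, 19, 14), (7, 9, 24), (7, 10, 24), (7, 13, 9), (7, 14, 10),
   (8, 9, 24), (8, 11, 24), (8, 12, 9), (8, 14, 11), (9, 4, 24), (9, 5, 4), (9, 7, 24), (9, 8, 24),
   (9, 10, 7), (9, 11, 8), (9, 12, 24), (9, 13, 24), (9, 15, 12), (9, 16, 13), (9, 18, 24), (9, 19, 18),
   (10, 5, 24), (10, 7, 24), (10, 9, 7), (10, 11, 24), (10, 12, 24), (10, 14, 24), (10, 16, 14), (10, 18, 24),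
   (11, 5, 24), (11, 8, 24), (11, 9, 8), (11, 10, 24), (11, 13, 24), (11, 14, 24), (11, 15, 14), (11, 18, 24),
   (12, 5, 24), (12, 8, 9), (12, 9, 24), (12, 10, 24), (12, 13, 24), (12, 14, 15), (12, 15, 24), (12, 18, 24),
   (13, 5, 24), (13, 7, 9), (13, 9, 24), (13, 11, 24), (13, 12, 24), (13, 14, 16), (13, 16, 24), (13, 18, 24),
   (14, 4, 5), (14, 5, 24), (14, 7, 10), (14, 8, 11), (14, 10, 24), (14, 11, 24), (14, 12, 15), (14, 13, 16),
   (14, 15, 24), (14, 16, 24), (14, 18, 19), (14, 19, 24), (15, 9, 12), (15, 11, 14), (15, 12, 24), (15, 14, 24),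
   (16, 9, 13), (16, 10, 14), (16, 13, 24), (16, 14, 24), (18, 4, 9), (18, 9, 24), (18, 10, 24), (18, 11, 24),
   (18, 12, 24), (18, 13, 24), (18, 14, 19), (18, 19, 24), (19, 5, 14), (19, 9, 18), (19, 14, 24), (19, 18, 24)]

theorem y_pairs {e s : G} {x w p : Fin 3 → G} (h : Gens e s x w p) : ∀ q ∈ pairs,
    (y e s x w p q.2.1)⁻¹ * (y e s x w p q.1)⁻¹ * y e s x w p q.2.1 * y e s x w p q.1 =
      y e s x w p q.2.2 := by
  have hA := h.a
  unfold pairs
  simp only [List.forall_mem_cons, List.forall_mem_nil]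
  refine ⟨?_, ?_, ?_, ?_, ?_, ?_, ?_, ?_, ?_, ?_, ?_, ?_, ?_, ?_, ?_, ?_, ?_, ?_, ?_, ?_, ?_, ?_, ?_, ?_, ?_, ?_, ?_, ?_, ?_, ?_, ?_, ?_, ?_, ?_, ?_, ?_, ?_, ?_, ?_, ?_, ?_, ?_, ?_, ?_, ?_, ?_, ?_, ?_, ?_, ?_, ?_, ?_, ?_, ?_, ?_, ?_, ?_, ?_, ?_, ?_, ?_, ?_, ?_, ?_, ?_, ?_, ?_, ?_, ?_, ?_, ?_, ?_, ?_, ?_, ?_, ?_, ?_, ?_, ?_, ?_, ?_, ?_, ?_, ?_, ?_, ?_, ?_, ?_, ?_, ?_, ?_, ?_, ?_, ?_, ?_, ?_, fun _ h => absurd h (by simp)⟩
  · exact (hA 0).r1 4
  · exact (hA 0).r5 4
  · exact (hA 0).r2 4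
  · exact (hA 0).r4 4
  · exact (hA 0).r5 5
  · exact (hA 0).r4 5
  · exact comm_rel (h.cyy 1 0 (by decide))
  · exact comm_rel (h.cyy 2 0 (by decide))
  · exact comm_rel (h.cxy 2 0 (by decide))
  · exact comm_rel (h.cxy 1 0 (by decide))
  · exact (hA 0).r1 5
  · exact (hA 0).r2 5
  · exact (hA 1).r5 4
  · exact (hA 1).r1 4
  · exact (hA 1).r4 4
  · exact (hA 1).r2 4
  · exact (hA 2).r5 4
  · exact (hA 2).r1 4
  · exact (hA 2).r4 4
  · exact (hA 2).r2 4
  · exact (hA 0).r1 3
  · exact (hA 0).r2 3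
  · exact (hA 1).r1 3
  · exact (hA 2).r1 3
  · exact (hA 1).r2 3
  · exact (hA 2).r2 3
  · exact (hA 2).r5 3
  · exact (hA 1).r5 3
  · exact (hA 2).r4 3
  · exact (hA 1).r4 3
  · exact (hA 0).r5 3
  · exact (hA 0).r4 3
  · exact comm_rel (h.cyy 0 1 (by decide))
  · exact (hA 1).r5 5
  · exact (hA 1).r4 5
  · exact comm_rel (h.cyy 2 1 (by decide))
  · exact comm_rel (h.cxy 2 1 (by decide))
  · exact (hA 1).r1 5
  · exact (hA 1).r2 5
  · exact comm_rel (h.cxy 0 1 (by decide))
  · exact comm_rel (h.cyy 0 2 (by decide))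
  · exact (hA 2).r5 5
  · exact (hA 2).r4 5
  · exact comm_rel (h.cyy 1 2 (by decide))
  · exact comm_rel (h.cxy 1 2 (by decide))
  · exact (hA 2).r1 5
  · exact (hA 2).r2 5
  · exact comm_rel (h.cxy 0 2 (by decide))
  · exact comm_rel (h.cyx 0 2 (by decide))
  · exact (hA 2).r2 2
  · exact (hA 2).r1 2
  · exact comm_rel (h.cyx 1 2 (by decide))
  · exact comm_rel (h.cxx 1 2 (by decide))
  · exact (hA 2).r4 2
  · exact (hA 2).r5 2
  · exact comm_rel (h.cxx 0 2 (by decide))
  · exact comm_rel (h.cyx 0 1 (by decide))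
  · exact (hA 1).r2 2
  · exact (hA 1).r1 2
  · exact comm_rel (h.cyx 2 1 (by decide))
  · exact comm_rel (h.cxx 2 1 (by decide))
  · exact (hA 1).r4 2
  · exact (hA 1).r5 2
  · exact comm_rel (h.cxx 0 1 (by decide))
  · exact (hA 0).r4 0
  · exact (hA 0).r5 0
  · exact (hA 1).r4 0
  · exact (hA 2).r4 0
  · exact (hA 1).r5 0
  · exact (hA 2).r5 0
  · exact (hA 2).r2 0
  · exact (hA 1).r2 0
  · exact (hA 2).r1 0
  · exact (hA 1).r1 0
  · exact (hA 0).r2 0
  · exact (hA 0).r1 0
  · exact (hA 2).r2 1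
  · exact (hA 2).r4 1
  · exact (hA 2).r1 1
  · exact (hA 2).r5 1
  · exact (hA 1).r2 1
  · exact (hA 1).r4 1
  · exact (hA 1).r1 1
  · exact (hA 1).r5 1
  · exact (hA 0).r2 2
  · exact (hA 0).r1 2
  · exact comm_rel (h.cyx 1 0 (by decide))
  · exact comm_rel (h.cyx 2 0 (by decide))
  · exact comm_rel (h.cxx 2 0 (by decide))
  · exact comm_rel (h.cxx 1 0 (by decide))
  · exact (hA 0).r4 2
  · exact (hA 0).r5 2
  · exact (hA 0).r4 1
  · exact (hA 0).r2 1
  · exact (hA 0).r5 1
  · exact (hA 0).r1 1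

/-- the roots of the rank two subsystems -/
def roots : List ℕ := [4, 5, 7, 8, 9, 10, 11, 12, 13, 14, 15, 16, 18, 19]

instance (i j r : ℕ) : Decidable (chevD4.InRankTwoSub i j r) := by
  unfold ChevalleyDatum.InRankTwoSub; infer_instance

theorem mem_roots {i j r : ℕ} (h : chevD4.InRankTwoSub i j r) : r ∈ roots := by
  have h1 : ((List.range 4).all fun i => (List.range 4).all fun j => (List.range 24).all fun r =>
      !decide (chevD4.InRankTwoSub i j r) || decide (r ∈ roots)) = true := by decide +kernel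
  simp only [List.all_eq_true, List.mem_range, Bool.or_eq_true, Bool.not_eq_true', decide_eq_false_iff_not,
    decide_eq_true_eq] at h1
  rcases h1 i h.2.1 j h.2.2.1 r h.1 with h2 | h2
  · exact absurd h h2
  · exact h2

/-- the commutator terms of a pair -/
def okTerm (r s t : ℕ) : Bool :=
  (decide (chevD4.commTerms r s = []) && decide (t = 24)) || decide (chevD4.commTerms r s = [(t, 1, 1, 1)]) ||
        decide (chevD4.commTerms r s = [(t, -1, 1, 1)])

theorem tab {i j r s : ℕ} (hr : chevD4.InRankTwoSub i j r) (hs : chevD4.InRankTwoSub i j s)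
    (h1 : s ≠ r) (h2 : s ≠ chevD4.neg r) : ∃ q ∈ pairs, q.1 = r ∧ q.2.1 = s ∧
      ((chevD4.commTerms r s = [] ∧ q.2.2 = 24) ∨ chevD4.commTerms r s = [(q.2.2, 1, 1, 1)] ∨
        chevD4.commTerms r s = [(q.2.2, -1, 1, 1)]) := by
  have key : ((List.range 4).all fun i => (List.range 4).all fun j => (List.range 24).all fun r =>
      (List.range 24).all fun s => !decide (chevD4.InRankTwoSub i j r) || !decide (chevD4.InRankTwoSub i j s) ||
      decide (s = r) || decide (s = chevD4.neg r) ||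
      pairs.any fun q => decide (q.1 = r) && decide (q.2.1 = s) && okTerm r s q.2.2) = true := by decide +kernel
  simp only [List.all_eq_true, List.mem_range, Bool.or_eq_true, Bool.not_eq_true', decide_eq_false_iff_not,
    decide_eq_true_eq, List.any_eq_true, Bool.and_eq_true, okTerm] at key
  rcases key i hr.2.1 j hr.2.2.1 r hr.1 s hs.1 with (((h | h) | h) | h) | ⟨q, hq, ⟨hq1, hq2⟩, h⟩
  · exact absurd hr h
  · exact absurd hs h
  · exact absurd h h1
  · exact absurd h h2
  · refine ⟨q, hq, hq1, hq2, ?_⟩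
    rcases h with (h | h) | h
    · exact Or.inl h
    · exact Or.inr (Or.inl h)
    · exact Or.inr (Or.inr h)

theorem rel {e s : G} {x w p : Fin 3 → G} (h : Gens e s x w p) : Rel chevD4 (y e s x w p) where
  sq := by
    intro i j r hr
    have hr' := mem_roots hr
    simp only [roots, List.mem_cons, List.not_mem_nil, or_false] at hr'
    rcases hr' with rfl | rfl | rfl | rfl | rfl | rfl | rfl | rfl | rfl | rfl | rfl | rfl | rfl | rfl
    · exact (h.a 0).sq 4
    · exact (h.a 0).sq 5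
    · exact (h.a 1).sq 4
    · exact (h.a 2).sq 4
    · exact (h.a 0).sq 3
    · exact (h.a 1).sq 5
    · exact (h.a 2).sq 5
    · exact (h.a 2).sq 2
    · exact (h.a 1).sq 2
    · exact (h.a 0).sq 0
    · exact (h.a 2).sq 1
    · exact (h.a 1).sq 1
    · exact (h.a 0).sq 2
    · exact (h.a 0).sq 1
  comm := by
    intro i j r s' hr hs h1 h2
    obtain ⟨q, hq, rfl, rfl, h3⟩ := tab hr hs h1 h2
    rw [y_pairs h q hq]
    rcases h3 with ⟨h3, h4⟩ | h3 | h3
    · rw [h3, h4]; rfl
    · rw [h3]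
      show _ = (if ((1 : ℤ) : ZMod 2) = 1 then y e s x w p q.2.2 else 1) * 1
      rw [if_pos (by decide), mul_one]
    · rw [h3]
      show _ = (if ((-1 : ℤ) : ZMod 2) = 1 then y e s x w p q.2.2 else 1) * 1
      rw [if_pos (by decide), mul_one]
  nn := by
    intro i j r hr
    have hr' := mem_roots hr
    simp only [roots, List.mem_cons, List.not_mem_nil, or_false] at hr'
    rcases hr' with rfl | rfl | rfl | rfl | rfl | rfl | rfl | rfl | rfl | rfl | rfl | rfl | rfl | rfl
    · exact (h.a 0).nn 4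
    · exact (h.a 0).nn 5
    · exact (h.a 1).nn 4
    · exact (h.a 2).nn 4
    · exact (h.a 0).nn 3
    · exact (h.a 1).nn 5
    · exact (h.a 2).nn 5
    · exact (h.a 2).nn 2
    · exact (h.a 1).nn 2
    · exact (h.a 0).nn 0
    · exact (h.a 2).nn 1
    · exact (h.a 1).nn 1
    · exact (h.a 0).nn 2
    · exact (h.a 0).nn 1

theorem D4_mem : chevD4 ∈ types := by simp [types]

/-- The subgroup generated by the relations. -/
def grp (e s : G) (x w : Fin 3 → G) : Subgroup G := Subgroup.closure ({e, s} ∪ Set.range x ∪ Set.range w)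

theorem closure_eq {e s : G} {x w p : Fin 3 → G} (h : Gens e s x w p) :
    Subgroup.closure {g | ∃ i j r, chevD4.InRankTwoSub i j r ∧ g = y e s x w p r} = grp e s x w := by
  have he : e ∈ grp e s x w := Subgroup.subset_closure (by simp)
  have hs : s ∈ grp e s x w := Subgroup.subset_closure (by simp)
  have hx : ∀ i, x i ∈ grp e s x w := fun i => Subgroup.subset_closure (by simp)
  have hw : ∀ i, w i ∈ grp e s x w := fun i => Subgroup.subset_closure (by simp)
  have hp : ∀ i, p i ∈ grp e s x w := by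
    intro i
    rw [← flip (h.a i).ww (h.a i).wpw]
    exact mul_mem (mul_mem (hw i) he) (hw i)
  have hR : ∀ i k, R e (x i) s (w i) (p i) k ∈ grp e s x w := by
    intro i k
    have h3 : s * e * s ∈ grp e s x w := mul_mem (mul_mem hs he) hs
    fin_cases k
    · exact he
    · exact hp i
    · exact hx i
    · exact h3
    · exact mul_mem (mul_mem (hw i) h3) (hw i)
    · exact mul_mem (mul_mem (hw i) (hx i)) (hw i)
  apply le_antisymm
  · rw [Subgroup.closure_le]
    rintro _ ⟨i, j, r, hr, rfl⟩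
    have hr' := mem_roots hr
    simp only [roots, List.mem_cons, List.not_mem_nil, or_false] at hr'
    rcases hr' with rfl | rfl | rfl | rfl | rfl | rfl | rfl | rfl | rfl | rfl | rfl | rfl | rfl | rfl
    · exact hR 0 4
    · exact hR 0 5
    · exact hR 1 4
    · exact hR 2 4
    · exact hR 0 3
    · exact hR 1 5
    · exact hR 2 5
    · exact hR 2 2
    · exact hR 1 2
    · exact hR 0 0
    · exact hR 2 1
    · exact hR 1 1
    · exact hR 0 2
    · exact hR 0 1
  · set H := Subgroup.closure {g | ∃ i j r, chevD4.InRankTwoSub i j r ∧ g = y e s x w p r} with hH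
    have m : ∀ i j r, chevD4.InRankTwoSub i j r → y e s x w p r ∈ H := fun i j r hr =>
      Subgroup.subset_closure ⟨i, j, r, hr, rfl⟩
    have m14 : e ∈ H := m 1 1 14 (by decide +kernel)
    have m9 : s * e * s ∈ H := m 1 1 9 (by decide +kernel)
    have m18 : x 0 ∈ H := m 0 0 18 (by decide +kernel)
    have m5 : w 0 * x 0 * w 0 ∈ H := m 0 0 5 (by decide +kernel)
    have m13 : x 1 ∈ H := m 2 2 13 (by decide +kernel)
    have m10 : w 1 * x 1 * w 1 ∈ H := m 2 2 10 (by decide +kernel)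
    have m12 : x 2 ∈ H := m 3 3 12 (by decide +kernel)
    have m11 : w 2 * x 2 * w 2 ∈ H := m 3 3 11 (by decide +kernel)
    have hbr : ∀ {a b : G}, a * a = 1 → b * a * b = a * b * a → a * (b * a * b) * a = b := by
      intro a b ha hab
      rw [hab]
      calc a * (a * b * a) * a = (a * a) * b * (a * a) := by group
        _ = b := by rw [ha, one_mul, mul_one]
    have ms : s ∈ H := by
      rw [← hbr (h.a 0).ee (h.a 0).ses]
      exact mul_mem (mul_mem m14 m9) m14
    have mw : ∀ i, x i ∈ H → w i * x i * w i ∈ H → w i ∈ H := by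
      intro i h1 h2
      rw [← hbr (h.a i).xx (h.a i).wxw]
      exact mul_mem (mul_mem h1 h2) h1
    unfold grp
    rw [Subgroup.closure_le]
    rintro g ((hg | ⟨i, rfl⟩) | ⟨i, rfl⟩)
    · rcases hg with rfl | hg
      · exact m14
      · rw [Set.mem_singleton_iff] at hg; rw [hg]; exact ms
    · fin_cases i
      · exact m18
      · exact m13
      · exact m12
    · fin_cases i
      · exact mw 0 m18 m5
      · exact mw 1 m13 m10
      · exact mw 2 m12 m11

/-- `Ω₈⁺(2)` from the relations. -/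
theorem exists_mulEquiv {e s : G} {x w p : Fin 3 → G} (h : Gens e s x w p) (he : e ≠ 1) :
    Nonempty (↥(grp e s x w) ≃* Cfsg.POmega (ZMod 2) (Cfsg.quadFormPlus 4 (ZMod 2))) := by
  obtain ⟨φ, h1, h2⟩ := exists_hom Cfsg.Agent.LieRecognition.CTRawD4.good D4_mem (rel h)
  obtain ⟨ι⟩ := Cfsg.Agent.S1082.result (F := ZMod 2)
  haveI hs : IsSimpleGroup (Cfsg.POmega (ZMod 2) (Cfsg.quadFormPlus 4 (ZMod 2))) :=
    Cfsg.Agent.S0296.result (F := ZMod 2) 4 le_rfl
  haveI : Nontrivial (Cfsg.POmega (ZMod 2) (Cfsg.quadFormPlus 4 (ZMod 2))) := hs.toNontrivial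
  haveI : Nontrivial ↥(chevD4.group (ZMod 2)) := ι.toEquiv.nontrivial
  haveI : IsSimpleGroup ↥(chevD4.group (ZMod 2)) :=
    IsSimpleGroup.isSimpleGroup_of_surjective ι.symm.toMonoidHom ι.symm.surjective
  rw [closure_eq h] at h2
  have hker : φ.ker = ⊥ := by
    rcases (inferInstance : φ.ker.Normal).eq_bot_or_eq_top with h3 | h3
    · exact h3
    · exfalso
      apply he
      have h4 : e ∈ φ.range := by rw [h2]; exact Subgroup.subset_closure (by simp)
      obtain ⟨g, hg⟩ := h4
      have : g ∈ φ.ker := by rw [h3]; trivial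
      rw [MonoidHom.mem_ker, hg] at this
      exact this
  have hinj : Function.Injective φ := (MonoidHom.ker_eq_bot_iff φ).1 hker
  exact ⟨(MulEquiv.subgroupCongr h2).symm.trans ((MonoidHom.ofInjective hinj).symm.trans ι)⟩

/-- `|Ω₈⁺(2)| = 174182400 = 2 ^ 12 * 42525` -/
theorem card_POmega : Nat.card (Cfsg.POmega (ZMod 2) (Cfsg.quadFormPlus 4 (ZMod 2))) = 174182400 := by
  have h := Cfsg.Agent.S0293.result (F := ZMod 2) (q := 2) (ZMod.card 2) 4 le_rfl
  have h1 : Nat.gcd 4 (2 ^ 4 - 1) = 1 := by decide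
  rw [h1, one_mul] at h
  rw [h]
  decide

end Cfsg.Agent.TypeO8Plus.Chev
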