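import Cfsg.Agent.TypeO8Plus.Frame
import Cfsg.Agent.LargeExtra.KillNine.Codes

/-!
# Codes of the elements of `Q` (helper260)

`Cd φ g n`: the element `g` of `G` is in `Q` and its image in `V` has code `n`.
-/

set_option autoImplicit false

namespace Cfsg.Agent.TypeO8Plus.Code

open Cfsg.Agent.Co2Type.Quad Cfsg.Agent.LargeExtra.Base Cfsg.Agent.LargeExtra.Nine
open Cfsg.Agent.LargeExtra.KillNine.Codes

variable {G : Type*} [Group G] {Q : Subgroup G} {z : G}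

/-- `g ∈ Q` with code `n` -/
def Cd {h : Large Q z} (φ : Coord h) (g : G) (n : ℕ) : Prop := ∃ hg : g ∈ Q, φ.e (h.pr ⟨g, hg⟩) = vec n

section

variable {h : Large Q z} {φ : Coord h}

theorem Cd.mem {g : G} {n : ℕ} (hg : Cd φ g n) : g ∈ Q := hg.1

theorem Cd.mul {g g' : G} {m n : ℕ} (hg : Cd φ g m) (hg' : Cd φ g' n) : Cd φ (g * g') (m ^^^ n) := by
  obtain ⟨h1, h2⟩ := hg
  obtain ⟨h3, h4⟩ := hg'
  refine ⟨Q.mul_mem h1 h3, ?_⟩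
  have : (⟨g * g', Q.mul_mem h1 h3⟩ : Q) = ⟨g, h1⟩ * ⟨g', h3⟩ := rfl
  rw [this, h.pr_mul, map_add, h2, h4, vec_xor]

theorem Cd.inv {g : G} {m : ℕ} (hg : Cd φ g m) : Cd φ g⁻¹ m := by
  obtain ⟨h1, h2⟩ := hg
  refine ⟨Q.inv_mem h1, ?_⟩
  have : (⟨g⁻¹, Q.inv_mem h1⟩ : Q) = (⟨g, h1⟩ : Q)⁻¹ := rfl
  rw [this, h.pr_inv, h.neg_eq, h2]

theorem cd_one : Cd φ (1 : G) 0 := ⟨Q.one_mem, by
  have : (⟨1, Q.one_mem⟩ : Q) = 1 := rfl
  rw [this, h.pr_one, map_zero, vec_zero]⟩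

theorem cd_z : Cd φ z 0 := ⟨h.z_mem, by
  rw [h.pr_eq_zero.2 (Or.inr rfl), map_zero, vec_zero]⟩

theorem Cd.mul_z {g : G} {m : ℕ} (hg : Cd φ g m) : Cd φ (g * z) m := by
  have := hg.mul (cd_z (h := h) (φ := φ))
  rwa [Nat.xor_zero] at this

theorem Cd.congr {g : G} {m n : ℕ} (hg : Cd φ g m) (hmn : m = n) : Cd φ g n := hmn ▸ hg

theorem Cd.eq_or {g g' : G} {n : ℕ} (hg : Cd φ g n) (hg' : Cd φ g' n) : g = g' ∨ g = g' * z := by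
  obtain ⟨h1, h2⟩ := hg
  obtain ⟨h3, h4⟩ := hg'
  have := φ.e.injective (h2.trans h4.symm)
  exact h.pr_eq_pr.1 this

theorem Cd.eq_or_zero {g : G} (hg : Cd φ g 0) : g = 1 ∨ g = z := by
  rcases hg.eq_or (cd_one (h := h) (φ := φ)) with h1 | h1
  · exact Or.inl h1
  · right; rw [h1, one_mul]

theorem Cd.sq {g : G} {n : ℕ} (hg : Cd φ g n) (hn : qs (vec n) = 0) : g * g = 1 := by
  obtain ⟨h1, h2⟩ := hg
  apply (h.q_eq_zero (x := ⟨g, h1⟩)).1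
  rw [φ.q, h2, hn]

theorem Cd.q_of_sq {g : G} {n : ℕ} (hg : Cd φ g n) (hn : g * g = 1) : qs (vec n) = 0 := by
  obtain ⟨h1, h2⟩ := hg
  rw [← h2, ← φ.q]
  exact (h.q_eq_zero (x := ⟨g, h1⟩)).2 hn

theorem b_eq (v w : h.V) : h.b v w = bs (φ.e v) (φ.e w) := by
  have h1 := h.q_add' v w
  rw [φ.q, φ.q, φ.q, map_add] at h1
  have h2 : ∀ x y : F8, qs (x + y) = qs x + qs y + bs x y := by
    intro x y
    simp only [qs, bs, Pi.add_apply]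
    ring
  rw [h2] at h1
  exact (add_left_cancel h1).symm

theorem Cd.comm {g g' : G} {m n : ℕ} (hg : Cd φ g m) (hg' : Cd φ g' n) (hb : bs (vec m) (vec n) = 0) :
    g * g' = g' * g := by
  obtain ⟨h1, h2⟩ := hg
  obtain ⟨h3, h4⟩ := hg'
  apply (h.b_pr ⟨g, h1⟩ ⟨g', h3⟩).1
  rw [b_eq (φ := φ), h2, h4, hb]

theorem Cd.ncomm {g g' : G} {m n : ℕ} (hg : Cd φ g m) (hg' : Cd φ g' n) (hb : bs (vec m) (vec n) = 1) :
    g * g' = g' * g * z := by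
  obtain ⟨h1, h2⟩ := hg
  obtain ⟨h3, h4⟩ := hg'
  apply (h.b_pr_one ⟨g, h1⟩ ⟨g', h3⟩).1
  rw [b_eq (φ := φ), h2, h4, hb]

theorem Cd.b_of_comm {g g' : G} {m n : ℕ} (hg : Cd φ g m) (hg' : Cd φ g' n) (hc : g * g' = g' * g) :
    bs (vec m) (vec n) = 0 := by
  obtain ⟨h1, h2⟩ := hg
  obtain ⟨h3, h4⟩ := hg'
  have := (h.b_pr ⟨g, h1⟩ ⟨g', h3⟩).2 hc
  rwa [b_eq (φ := φ), h2, h4] at this

theorem Cd.b_of_ncomm {g g' : G} {m n : ℕ} (hg : Cd φ g m) (hg' : Cd φ g' n) (hc : g * g' = g' * g * z) :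
    bs (vec m) (vec n) = 1 := by
  obtain ⟨h1, h2⟩ := hg
  obtain ⟨h3, h4⟩ := hg'
  have := (h.b_pr_one ⟨g, h1⟩ ⟨g', h3⟩).2 hc
  rwa [b_eq (φ := φ), h2, h4] at this

variable (φ) in
theorem exists_cd (n : ℕ) : ∃ g, Cd φ g n := by
  obtain ⟨g, hg⟩ := h.pr_surjective (φ.e.symm (vec n))
  exact ⟨g, g.2, by
    have : (⟨(g : G), g.2⟩ : Q) = g := rfl
    rw [this, hg, LinearEquiv.apply_symm_apply]⟩

variable (φ) in
theorem exists_cd_of_mem {g : G} (hg : g ∈ Q) : ∃ n < 256, Cd φ g n := by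
  obtain ⟨n, hn, h1⟩ := exists_code (φ.e (h.pr ⟨g, hg⟩))
  exact ⟨n, hn, hg, h1⟩

theorem Cd.inj {g : G} {m n : ℕ} (hm : m < 256) (hn : n < 256) (h1 : Cd φ g m) (h2 : Cd φ g n) : m = n := by
  obtain ⟨_, h3⟩ := h1
  obtain ⟨_, h4⟩ := h2
  exact vec_inj m hm n hn (h3.symm.trans h4)

/-- conjugation by `c ∈ C(z)` acting as the matrix `L` -/
theorem Cd.conj {L : List ℕ} {c : Subgroup.centralizer ({z} : Set G)} (hc : Acts φ L (h.act c)) {g : G} {n : ℕ}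
    (hg : Cd φ g n) : Cd φ ((c : G) * g * (c : G)⁻¹) (ap L n) := by
  obtain ⟨h1, h2⟩ := hg
  refine ⟨h.conj_mem_cent c ⟨g, h1⟩, ?_⟩
  have : (⟨(c : G) * g * (c : G)⁻¹, h.conj_mem_cent c ⟨g, h1⟩⟩ : Q) = h.conjQ c ⟨g, h1⟩ := rfl
  rw [this, ← h.act_pr, hc, h2, lin_vec]

/-- conjugation by an element of `Q` -/
theorem Cd.conj_Q {r g : G} (hr : r ∈ Q) {n : ℕ} (hg : Cd φ g n) : Cd φ (r * g * r⁻¹) n := by
  rcases h.comm r hr g hg.1 with h1 | h1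
  · rw [h1, mul_inv_cancel_right]; exact hg
  · have : r * g * r⁻¹ = g * z := by
      rw [h1, mul_assoc (g * r), ← (h.commz (Q.inv_mem hr)).eq]; group
    rw [this]; exact hg.mul_z

/-- An element of `C(z)` commuting with `Q` is `1` or `z`. -/
theorem eq_of_comm (h : Large Q z) {c : G} (hc : c * z = z * c) (h1 : ∀ x ∈ Q, c * x = x * c) : c = 1 ∨ c = z := by
  have hcQ : c ∈ Q := h.self c hc h1
  exact h.cent c hcQ h1

end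

end Cfsg.Agent.TypeO8Plus.Code
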