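import Cfsg.Agent.TypeO8Plus.CAct

/-!
# `Ω₈⁺(2)`: the elementary abelian subgroups `A_i` of order `2⁶` (helper951)

`A_i = ⟨z, a, h (i+1), h (i+2), p i, x i⟩`.  Elements are `ev i m`, `m < 64`.
-/

set_option autoImplicit false

namespace Cfsg.Agent.TypeO8Plus.EFOne

open Cfsg.Agent.Co2Type.Quad Cfsg.Agent.LargeExtra.Base Cfsg.Agent.LargeExtra.Nine
open Cfsg.Agent.LargeExtra.KillNine.Codes Cfsg.Agent.TypeO8Plus.Code Cfsg.Agent.TypeO8Plus.CAct

/-! ### products given by bits -/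

section

variable {G : Type*} [Group G]

/-- product of the generators given by the bits of `m` -/
def ev (b : ℕ → G) : ℕ → ℕ → G
  | 0, _ => 1
  | k + 1, m => ev b k m * (if m.testBit k then b k else 1)

/-- xor of the rows given by the bits of `m` -/
def ax (R : ℕ → ℕ) : ℕ → ℕ → ℕ
  | 0, _ => 0
  | k + 1, m => ax R k m ^^^ (if m.testBit k then R k else 0)

theorem ev_zero (b : ℕ → G) (k : ℕ) : ev b k 0 = 1 := by
  induction k with
  | zero => rfl
  | succ k ih => simp [ev, ih]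

theorem ev_comm {b : ℕ → G} {c : G} (hc : ∀ i, c * b i = b i * c) (k m : ℕ) : c * ev b k m = ev b k m * c := by
  induction k with
  | zero => simp [ev]
  | succ k ih =>
    rw [ev, ← mul_assoc, ih, mul_assoc, mul_assoc]
    congr 1
    by_cases h : m.testBit k
    · rw [if_pos h, hc]
    · rw [if_neg h, one_mul, mul_one]

theorem ev_comm_ev {b : ℕ → G} (hc : ∀ i j, b i * b j = b j * b i) (k l m n : ℕ) :
    ev b k m * ev b l n = ev b l n * ev b k m :=
  ev_comm (fun i => (ev_comm (fun j => hc i j) k m).symm) l n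

theorem ev_xor {b : ℕ → G} (hc : ∀ i j, b i * b j = b j * b i) (hs : ∀ i, b i * b i = 1) (k m n : ℕ) :
    ev b k (m ^^^ n) = ev b k m * ev b k n := by
  induction k with
  | zero => simp [ev]
  | succ k ih =>
    rw [ev, ev, ev, ih, Nat.testBit_xor]
    have h1 : (if m.testBit k then b k else 1) * ev b k n = ev b k n * (if m.testBit k then b k else 1) := by
      by_cases h : m.testBit k
      · rw [if_pos h, ev_comm (hc k) k n]
      · rw [if_neg h, one_mul, mul_one]
    have h2 : (if (m.testBit k ^^ n.testBit k) then b k else 1) =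
        (if m.testBit k then b k else 1) * (if n.testBit k then b k else 1) := by
      cases m.testBit k <;> cases n.testBit k <;> simp [hs]
    rw [h2]
    calc ev b k m * ev b k n * ((if m.testBit k then b k else 1) * (if n.testBit k then b k else 1)) =
        ev b k m * (ev b k n * (if m.testBit k then b k else 1)) * (if n.testBit k then b k else 1) := by group
      _ = _ := by rw [← h1]; group

theorem ev_conj (b : ℕ → G) (g : G) (k m : ℕ) : g * ev b k m * g⁻¹ = ev (fun j => g * b j * g⁻¹) k m := by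
  induction k with
  | zero => simp [ev]
  | succ k ih =>
    rw [ev, ev, ← ih]
    by_cases h : m.testBit k
    · rw [if_pos h, if_pos h]; group
    · rw [if_neg h, if_neg h]; group

theorem ev_ax {b c : ℕ → G} (hc : ∀ i j, b i * b j = b j * b i) (hs : ∀ i, b i * b i = 1) (R : ℕ → ℕ)
    (k l m : ℕ) (h : ∀ j < k, c j = ev b l (R j)) : ev c k m = ev b l (ax R k m) := by
  induction k with
  | zero => rw [ev, ax, ev_zero]
  | succ k ih =>
    rw [ev, ax, ev_xor hc hs, ih fun j hj => h j (by omega)]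
    congr 1
    by_cases h' : m.testBit k
    · rw [if_pos h', if_pos h', h k (by omega)]
    · rw [if_neg h', if_neg h', ev_zero]

end

/-! ### the tables -/

/-- rows of the nine generators -/
def rw9 : Fin 9 → List ℕ := ![[1,3,4,8,16,48], [1,2,4,8,17,34], [1,2,5,8,16,40], [1,2,4,9,16,36],
  [1,2,6,8,24,32], [1,4,2,16,8,32], [1,2,4,10,20,32], [1,8,16,2,4,32], [2,1,4,8,32,16]]

/-- the action of a generator on `m < 64` -/
def st (k : Fin 9) (m : ℕ) : ℕ := ax (fun j => (rw9 k).getD j 0) 6 m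

/-- the word moving `1` (`q m = 0`) or `33` (`q m = 1`) to `m` -/
def wd : List (List (Fin 9)) := [[], [], [8], [8, 0], [8, 5], [8, 0, 5], [8, 5, 4], [8, 0, 5, 4], [8, 7], [8, 0, 7],
  [8, 7, 6], [8, 0, 7, 6], [8, 5], [1, 8, 5], [2, 8, 7], [1, 2, 8, 7], [8, 5, 7], [8, 0, 5, 7], [8], [1, 8],
  [8, 5, 7, 6], [8, 0, 5, 7, 6], [3, 8], [1, 3, 8], [8, 5, 4, 7], [8, 0, 5, 4, 7], [2, 8], [1, 2, 8], [2, 3, 8],
  [1, 2, 3, 8], [8, 5, 4, 7, 6], [8, 0, 5, 4, 7, 6], [8, 5, 7, 8], [], [8, 0, 5, 7, 8], [1], [8, 5, 7, 6, 8], [3],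
  [8, 0, 5, 7, 6, 8], [1, 3], [8, 5, 4, 7, 8], [2], [8, 0, 5, 4, 7, 8], [1, 2], [2, 3], [8, 5, 4, 7, 6, 8],
  [1, 2, 3], [8, 0, 5, 4, 7, 6, 8], [8, 5, 7, 8, 0], [0], [0, 1], [8, 0, 5, 7, 8, 0], [8, 5, 7, 6, 8, 0], [0, 3],
  [0, 1, 3], [8, 0, 5, 7, 6, 8, 0], [8, 5, 4, 7, 8, 0], [0, 2], [0, 1, 2], [8, 0, 5, 4, 7, 8, 0], [0, 2, 3],
  [8, 5, 4, 7, 6, 8, 0], [8, 5, 4, 7, 8, 0, 6], [0, 2, 6]]

/-- the quadratic form -/
def qf (m : ℕ) : Bool := (m.testBit 0 && m.testBit 5) ^^ (m.testBit 1 && m.testBit 4) ^^ (m.testBit 2 && m.testBit 3)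

theorem wd_sing : ∀ m < 64, m ≠ 0 → qf m = false → (wd.getD m []).foldl (fun n k => st k n) 1 = m := by
  decide +kernel

theorem wd_nons : ∀ m < 64, qf m = true → (wd.getD m []).foldl (fun n k => st k n) 33 = m := by
  decide +kernel

theorem st_lt : ∀ k, ∀ m < 64, st k m < 64 := by decide +kernel

theorem st_st : ∀ k, ∀ m < 64, st k (st k m) = m := by decide +kernel

/-- codes of the first five basis elements -/
def cdl (i : Fin 3) : ℕ → ℕ
  | 0 => 0
  | 1 => 1
  | 2 => 2 ^ ((i + 1 : Fin 3).1 + 1)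
  | 3 => 2 ^ ((i + 2 : Fin 3).1 + 1)
  | 4 => 2 ^ (i.1 + 5)
  | _ => 0

/-- codes of the elements of `A_i ∩ Q` -/
def code (i : Fin 3) (m : ℕ) : ℕ := ax (cdl i) 5 m

/-- codes of the nonsingular elements of `A_i ∩ Q` -/
def rk2 (i : Fin 3) : List ℕ := ((List.range 32).filter qf).map (code i)

theorem rk2_lt : ∀ i, ∀ n ∈ rk2 i, n < 256 := by decide +kernel

theorem near_check1 : ∀ m < 64, qf m = true → qf (1 ^^^ m) = true → m < 32 := by decide +kernel

theorem near_check2 : ∀ i, ∀ T ∈ T9, ∀ n ∈ rk2 i, ap T n = n → T = MX i := by decide +kernel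

theorem code_check : ∀ i, ∀ n < 256, ap (MX i) n = n → ∃ m < 32, code i m = n := by decide +kernel

/-- the 28 nonsingular vectors -/
def NS : List ℕ := (List.range 64).filter qf

theorem mem_NS {m : ℕ} (h : m < 64) (hq : qf m = true) : m ∈ NS :=
  List.mem_filter.2 ⟨List.mem_range.2 h, hq⟩

theorem free_check1 : ∀ f1 ∈ NS, ∀ f2 ∈ NS, f1 ≠ f2 → qf (f1 ^^^ f2) = true →
    ∀ f3 ∈ NS, f3 = f1 ∨ f3 = f2 ∨ f3 = f1 ^^^ f2 ∨ qf (f1 ^^^ f3) = false ∨
      qf (f2 ^^^ f3) = false ∨ qf ((f1 ^^^ f2) ^^^ f3) = false := by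
  decide +kernel

theorem free_check2 : ∀ f1 ∈ NS, ∀ f2 ∈ NS, f1 ≠ f2 → qf (f1 ^^^ f2) = true →
    ∃ y ∈ List.range 64, y ≠ 0 ∧ qf y = false ∧ qf (y ^^^ f1) = true ∧ qf (y ^^^ f2) = true ∧
      qf (y ^^^ (f1 ^^^ f2)) = true := by
  decide +kernel

theorem free_check3 : ∀ f1 ∈ NS, ∃ y ∈ List.range 64, y ≠ 0 ∧ qf y = false ∧ qf (y ^^^ f1) = true := by
  decide +kernel

/-! ### the subgroup `A_i` -/

section

variable {G : Type*} [Group G]

/-- the basis of `A_i` -/
def bas (E : El G) (i : Fin 3) : ℕ → G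
  | 0 => E.z
  | 1 => E.a
  | 2 => E.h (i + 1)
  | 3 => E.h (i + 2)
  | 4 => E.p i
  | 5 => E.x i
  | _ => 1

/-- the elements of `A_i` -/
def el (E : El G) (i : Fin 3) (m : ℕ) : G := ev (bas E i) 6 m

/-- the subgroup `A_i` -/
def AA (E : El G) (i : Fin 3) : Subgroup G := Subgroup.closure (Set.range (bas E i))

/-- the nine elements -/
def gn (E : El G) (i : Fin 3) : Fin 9 → G :=
  ![E.e, E.h i, E.p (i + 1), E.p (i + 2), E.x (i + 1), E.w (i + 1), E.x (i + 2), E.w (i + 2), E.s]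

variable (E : El G) (i : Fin 3)

theorem el0 : el E i 0 = 1 := ev_zero _ _
theorem el1 : el E i 1 = E.z := by simp [el, ev, bas, Nat.testBit]
theorem el2 : el E i 2 = E.a := by simp [el, ev, bas, Nat.testBit]
theorem el3 : el E i 3 = E.z * E.a := by simp [el, ev, bas, Nat.testBit]
theorem el4 : el E i 4 = E.h (i + 1) := by simp [el, ev, bas, Nat.testBit]
theorem el5 : el E i 5 = E.z * E.h (i + 1) := by simp [el, ev, bas, Nat.testBit]
theorem el6 : el E i 6 = E.a * E.h (i + 1) := by simp [el, ev, bas, Nat.testBit]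
theorem el8 : el E i 8 = E.h (i + 2) := by simp [el, ev, bas, Nat.testBit]
theorem el9 : el E i 9 = E.z * E.h (i + 2) := by simp [el, ev, bas, Nat.testBit]
theorem el10 : el E i 10 = E.a * E.h (i + 2) := by simp [el, ev, bas, Nat.testBit]
theorem el16 : el E i 16 = E.p i := by simp [el, ev, bas, Nat.testBit]
theorem el17 : el E i 17 = E.z * E.p i := by simp [el, ev, bas, Nat.testBit]
theorem el20 : el E i 20 = E.h (i + 1) * E.p i := by simp [el, ev, bas, Nat.testBit]
theorem el24 : el E i 24 = E.h (i + 2) * E.p i := by simp [el, ev, bas, Nat.testBit]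
theorem el32 : el E i 32 = E.x i := by simp [el, ev, bas, Nat.testBit]
theorem el33 : el E i 33 = E.z * E.x i := by simp [el, ev, bas, Nat.testBit]
theorem el34 : el E i 34 = E.a * E.x i := by simp [el, ev, bas, Nat.testBit]
theorem el36 : el E i 36 = E.h (i + 1) * E.x i := by simp [el, ev, bas, Nat.testBit]
theorem el40 : el E i 40 = E.h (i + 2) * E.x i := by simp [el, ev, bas, Nat.testBit]
theorem el48 : el E i 48 = E.p i * E.x i := by simp [el, ev, bas, Nat.testBit]

end

variable {G : Type*} [Group G] {Q A : Subgroup G} {z a : G} {p : Pair Q z A a} {φ : Coord p.lz} {E : El G}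
variable (F : Frame p φ E)

theorem n1 : ∀ i : Fin 3, i + 1 ≠ i := by decide
theorem n2 : ∀ i : Fin 3, i + 2 ≠ i := by decide
theorem n12 : ∀ i : Fin 3, i + 1 ≠ i + 2 := by decide
theorem e11 : ∀ i : Fin 3, i + 1 + 1 = i + 2 := by decide
theorem e12 : ∀ i : Fin 3, i + 1 + 2 = i := by decide
theorem e21 : ∀ i : Fin 3, i + 2 + 1 = i := by decide
theorem e22 : ∀ i : Fin 3, i + 2 + 2 = i + 1 := by decide

include F

theorem cd_ev (hva : φ.e p.va = vec 1) (i : Fin 3) (m : ℕ) : ∀ k ≤ 5, Cd φ (ev (bas E i) k m) (ax (cdl i) k m) := by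
  intro k
  induction k with
  | zero => intro _; exact cd_one
  | succ k ih =>
    intro hk
    refine (ih (by omega)).mul ?_
    split_ifs
    · have hk4 : k ≤ 4 := by omega
      interval_cases k
      · show Cd φ E.z 0
        rw [F.z]; exact cd_z
      · exact cd_a F hva
      · exact cd_h F (i + 1)
      · exact cd_h F (i + 2)
      · exact cd_p F i
    · exact cd_one

theorem cd_el (hva : φ.e p.va = vec 1) (i : Fin 3) {m : ℕ} (hm : m < 32) : Cd φ (el E i m) (code i m) := by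
  have h1 : el E i m = ev (bas E i) 5 m := by
    show ev (bas E i) 5 m * (if m.testBit 5 then bas E i 5 else 1) = _
    rw [Nat.testBit_lt_two_pow (show m < 2 ^ 5 from hm), if_neg (by decide), mul_one]
  rw [h1]
  exact cd_ev F hva i m 5 le_rfl

theorem bas_comm (i : Fin 3) (j k : ℕ) : bas E i j * bas E i k = bas E i k * bas E i j := by
  have R := F.Q_rel
  have X := F.X_rel
  have xz := mul_inv_eq_iff_eq_mul.1 (X.z i)
  have xa := mul_inv_eq_iff_eq_mul.1 (X.a i)
  have xh1 := mul_inv_eq_iff_eq_mul.1 (X.h1 i)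
  have xh2 := mul_inv_eq_iff_eq_mul.1 (X.h2 i)
  have xp := mul_inv_eq_iff_eq_mul.1 (X.p i)
  have n1 := n1 i
  have n2 := n2 i
  rcases j with _ | _ | _ | _ | _ | _ | j <;> rcases k with _ | _ | _ | _ | _ | _ | k <;>
    first
    | rfl
    | exact (mul_one _).trans (one_mul _).symm
    | exact (one_mul _).trans (mul_one _).symm
    | exact R.za
    | exact R.za.symm
    | exact R.zh _
    | exact (R.zh _).symm
    | exact R.zp _
    | exact (R.zp _).symm
    | exact R.ah _
    | exact (R.ah _).symm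
    | exact R.ap _
    | exact (R.ap _).symm
    | exact R.hh' _ _
    | exact R.hp _ _ n1
    | exact (R.hp _ _ n1).symm
    | exact R.hp _ _ n2
    | exact (R.hp _ _ n2).symm
    | exact xz
    | exact xz.symm
    | exact xa
    | exact xa.symm
    | exact xh1
    | exact xh1.symm
    | exact xh2
    | exact xh2.symm
    | exact xp
    | exact xp.symm

theorem bas_sq (i : Fin 3) (j : ℕ) : bas E i j * bas E i j = 1 := by
  have R := F.Q_rel
  rcases j with _ | _ | _ | _ | _ | _ | j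
  · exact R.zz
  · exact R.aa
  · exact R.hh _
  · exact R.hh _
  · exact R.pp _
  · exact F.weyl.xx _
  · exact mul_one _

theorem el_xor (i : Fin 3) (m n : ℕ) : el E i (m ^^^ n) = el E i m * el E i n :=
  ev_xor (bas_comm F i) (bas_sq F i) 6 m n

theorem el_comm (i : Fin 3) (m n : ℕ) : el E i m * el E i n = el E i n * el E i m := by
  rw [← el_xor F, Nat.xor_comm, el_xor F]

theorem el_sq (i : Fin 3) (m : ℕ) : el E i m * el E i m = 1 := by
  rw [← el_xor F, Nat.xor_self, el0]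

theorem mem_AA (i : Fin 3) {g : G} : g ∈ AA E i ↔ ∃ m < 64, g = el E i m := by
  constructor
  · intro hg
    induction hg using Subgroup.closure_induction with
    | mem x hx =>
      obtain ⟨j, rfl⟩ := hx
      rcases j with _ | _ | _ | _ | _ | _ | j
      · exact ⟨1, by norm_num, (el1 E i).symm⟩
      · exact ⟨2, by norm_num, (el2 E i).symm⟩
      · exact ⟨4, by norm_num, (el4 E i).symm⟩
      · exact ⟨8, by norm_num, (el8 E i).symm⟩
      · exact ⟨16, by norm_num, (el16 E i).symm⟩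
      · exact ⟨32, by norm_num, (el32 E i).symm⟩
      · exact ⟨0, by norm_num, (el0 E i).symm⟩
    | one => exact ⟨0, by norm_num, (el0 E i).symm⟩
    | mul x y hx hy ihx ihy =>
      obtain ⟨m, hm, rfl⟩ := ihx
      obtain ⟨n, hn, rfl⟩ := ihy
      exact ⟨m ^^^ n, Nat.xor_lt_two_pow (n := 6) hm hn, (el_xor F i m n).symm⟩
    | inv x hx ihx =>
      obtain ⟨m, hm, rfl⟩ := ihx
      exact ⟨m, hm, inv_eq_of_mul_eq_one_left (el_sq F i m)⟩
  · rintro ⟨m, -, rfl⟩
    have h1 : ∀ k, ev (bas E i) k m ∈ AA E i := by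
      intro k
      induction k with
      | zero => exact one_mem _
      | succ k ih =>
        refine mul_mem ih ?_
        split_ifs
        · exact Subgroup.subset_closure ⟨k, rfl⟩
        · exact one_mem _
    exact h1 6

theorem el_mem (i : Fin 3) (m : ℕ) (hm : m < 64) : el E i m ∈ AA E i := (mem_AA F i).2 ⟨m, hm, rfl⟩

omit F in
theorem cj {g b : G} (h : g * b = b * g) : g * b * g⁻¹ = b := mul_inv_eq_iff_eq_mul.2 h

omit F in
/-- `x b x⁻¹ = b c` gives `b x b⁻¹ = c x` for involutions -/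
theorem flip_x {x b c : G} (hb : b * b = 1) (hx : x * b * x⁻¹ = b * c) : b * x * b⁻¹ = c * x := by
  have h1 := mul_inv_eq_iff_eq_mul.1 hx
  have h2 : b⁻¹ = b := inv_eq_of_mul_eq_one_left hb
  rw [h2, mul_assoc, h1, mul_assoc, ← mul_assoc, hb, one_mul]

omit F in
theorem flip_z {g b y : G} (h : g * b = b * g * y) (hg : y * g = g * y) (hb : y * b = b * y) :
    g * b * g⁻¹ = y * b := by
  rw [h, mul_assoc b g, ← hg, hb]; group

theorem gn_bas (i : Fin 3) (k : Fin 9) : ∀ j < 6, gn E i k * bas E i j * (gn E i k)⁻¹ =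
    el E i ((rw9 k).getD j 0) := by
  have R := F.Q_rel
  have X := F.X_rel
  have W := F.W_rel
  have S := F.S_rel
  have n1 := n1 i
  have n2 := n2 i
  have n12 := n12 i
  intro j hj
  fin_cases k
  · interval_cases j
    · exact (cj R.ze.symm).trans (el1 E i).symm
    · exact (flip_z R.ea R.ze R.za).trans (el3 E i).symm
    · exact (cj (R.eh _)).trans (el4 E i).symm
    · exact (cj (R.eh _)).trans (el8 E i).symm
    · exact (cj (R.ep _)).trans (el16 E i).symm
    · exact (flip_x R.ee (X.e i)).trans (el48 E i).symm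
  · interval_cases j
    · exact (cj (R.zh _).symm).trans (el1 E i).symm
    · exact (cj (R.ah _).symm).trans (el2 E i).symm
    · exact (cj (R.hh' _ _)).trans (el4 E i).symm
    · exact (cj (R.hh' _ _)).trans (el8 E i).symm
    · refine (flip_z (g := E.h i) (b := E.p i) (y := E.z) ?_ (R.zh _) (R.zp _)).trans (el17 E i).symm
      rw [R.ph i, mul_assoc, R.zz, mul_one]
    · exact (flip_x (R.hh i) (X.h i)).trans (el34 E i).symm
  · interval_cases j
    · exact (cj (R.zp _).symm).trans (el1 E i).symm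
    · exact (cj (R.ap _).symm).trans (el2 E i).symm
    · exact (flip_z (R.ph (i + 1)) (R.zp _) (R.zh _)).trans (el5 E i).symm
    · exact (cj (R.hp _ _ n12.symm).symm).trans (el8 E i).symm
    · exact (cj (R.pp' _ _)).trans (el16 E i).symm
    · exact (flip_x (R.pp _) (X.p1 i)).trans (el40 E i).symm
  · interval_cases j
    · exact (cj (R.zp _).symm).trans (el1 E i).symm
    · exact (cj (R.ap _).symm).trans (el2 E i).symm
    · exact (cj (R.hp _ _ n12).symm).trans (el4 E i).symm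
    · exact (flip_z (R.ph (i + 2)) (R.zp _) (R.zh _)).trans (el9 E i).symm
    · exact (cj (R.pp' _ _)).trans (el16 E i).symm
    · exact (flip_x (R.pp _) (X.p2 i)).trans (el36 E i).symm
  · interval_cases j
    · exact (X.z (i + 1)).trans (el1 E i).symm
    · exact (X.a (i + 1)).trans (el2 E i).symm
    · exact ((X.h (i + 1)).trans (R.ah _).symm).trans (el6 E i).symm
    · have := X.h1 (i + 1)
      rw [e11] at this
      exact this.trans (el8 E i).symm
    · have := X.p2 (i + 1)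
      rw [e12, e11, ← R.hp _ _ n2] at this
      exact this.trans (el24 E i).symm
    · exact (cj (F.weyl.xx' _ _)).trans (el32 E i).symm
  · interval_cases j
    · exact (W.z (i + 1)).trans (el1 E i).symm
    · exact (W.a (i + 1)).trans (el4 E i).symm
    · exact (W.h (i + 1)).trans (el2 E i).symm
    · have := W.h1 (i + 1)
      rw [e12, e11] at this
      exact this.trans (el16 E i).symm
    · have := W.p2 (i + 1)
      rw [e12, e11] at this
      exact this.trans (el8 E i).symm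
    · exact (cj (F.weyl.xw' _ _ n1.symm).symm).trans (el32 E i).symm
  · interval_cases j
    · exact (X.z (i + 2)).trans (el1 E i).symm
    · exact (X.a (i + 2)).trans (el2 E i).symm
    · have := X.h2 (i + 2)
      rw [e22] at this
      exact this.trans (el4 E i).symm
    · exact ((X.h (i + 2)).trans (R.ah _).symm).trans (el10 E i).symm
    · have := X.p1 (i + 2)
      rw [e21, e22, ← R.hp _ _ n1] at this
      exact this.trans (el20 E i).symm
    · exact (cj (F.weyl.xx' _ _)).trans (el32 E i).symm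
  · interval_cases j
    · exact (W.z (i + 2)).trans (el1 E i).symm
    · exact (W.a (i + 2)).trans (el8 E i).symm
    · have := W.h2 (i + 2)
      rw [e21, e22] at this
      exact this.trans (el16 E i).symm
    · exact (W.h (i + 2)).trans (el2 E i).symm
    · have := W.p1 (i + 2)
      rw [e21, e22] at this
      exact this.trans (el4 E i).symm
    · exact (cj (F.weyl.xw' _ _ n2.symm).symm).trans (el32 E i).symm
  · interval_cases j
    · exact S.z.trans (el2 E i).symm
    · exact S.a.trans (el1 E i).symm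
    · exact (S.h _).trans (el4 E i).symm
    · exact (S.h _).trans (el8 E i).symm
    · exact (S.p _).trans (el32 E i).symm
    · exact (S.x _).trans (el16 E i).symm

theorem gn_el (i : Fin 3) (k : Fin 9) (m : ℕ) : gn E i k * el E i m * (gn E i k)⁻¹ = el E i (st k m) := by
  rw [el, ev_conj]
  exact ev_ax (bas_comm F i) (bas_sq F i) _ 6 6 m (gn_bas F i k)

theorem gn_mem (i : Fin 3) (k : Fin 9) : gn E i k ∈ MM Q E := by
  have h0 : G0 Q E ≤ MM Q E := le_sup_left
  have h1 : C0 Q E ≤ G0 Q E := le_sup_left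
  apply h0
  fin_cases k
  · exact h1 (Q_le_C0 F.e_mem)
  · exact h1 (Q_le_C0 (F.h_mem _))
  · exact h1 (Q_le_C0 (F.p_mem _))
  · exact h1 (Q_le_C0 (F.p_mem _))
  · exact h1 (x_mem_C0 _)
  · exact h1 (w_mem_C0 _)
  · exact h1 (x_mem_C0 _)
  · exact h1 (w_mem_C0 _)
  · exact Subgroup.mem_sup_right (Subgroup.mem_zpowers _)

theorem gn_iff (i : Fin 3) (k : Fin 9) (u : G) : u ∈ AA E i ↔ gn E i k * u * (gn E i k)⁻¹ ∈ AA E i := by
  constructor
  · intro hu
    obtain ⟨m, hm, rfl⟩ := (mem_AA F i).1 hu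
    rw [gn_el F]
    exact el_mem F i _ (st_lt k m hm)
  · intro hu
    obtain ⟨m, hm, hu⟩ := (mem_AA F i).1 hu
    have h1 : u = el E i (st k m) := by
      have h2 := gn_el F i k (st k m)
      rw [st_st k m hm, ← hu] at h2
      exact (mul_left_cancel (mul_right_cancel h2)).symm
    rw [h1]
    exact el_mem F i _ (st_lt k m hm)

/-- words -/
theorem word (i : Fin 3) (w : List (Fin 9)) : ∃ g ∈ MM Q E, (∀ m < 64, w.foldl (fun n k => st k n) m < 64 ∧
    g * el E i m * g⁻¹ = el E i (w.foldl (fun n k => st k n) m)) ∧ ∀ u, u ∈ AA E i ↔ g * u * g⁻¹ ∈ AA E i := by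
  induction w with
  | nil => exact ⟨1, one_mem _, fun m hm => ⟨hm, by simp⟩, fun u => by simp⟩
  | cons k w ih =>
    obtain ⟨g, hg, h, h'⟩ := ih
    refine ⟨g * gn E i k, mul_mem hg (gn_mem F i k), fun m hm => ?_, fun u => ?_⟩
    · obtain ⟨h1, h2⟩ := h (st k m) (st_lt k m hm)
      refine ⟨h1, ?_⟩
      rw [List.foldl_cons, ← h2, ← gn_el F i k m]
      group
    · rw [gn_iff F i k, h']
      have : g * (gn E i k * u * (gn E i k)⁻¹) * g⁻¹ = g * gn E i k * u * (g * gn E i k)⁻¹ := by group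
      rw [this]

theorem el_sing (i : Fin 3) {m : ℕ} (hm : m < 64) (h0 : m ≠ 0) (hq : qf m = false) :
    ∃ g ∈ MM Q E, g * z * g⁻¹ = el E i m ∧ ∀ u, u ∈ AA E i ↔ g * u * g⁻¹ ∈ AA E i := by
  obtain ⟨g, hg, h1, h2⟩ := word F i (wd.getD m [])
  obtain ⟨-, h3⟩ := h1 1 (by norm_num)
  rw [wd_sing m hm h0 hq, el1, F.z] at h3
  exact ⟨g, hg, h3, h2⟩

theorem el_nons (i : Fin 3) {m : ℕ} (hm : m < 64) (hq : qf m = true) :
    ∃ g, g * (z * E.x i) * g⁻¹ = el E i m := by
  obtain ⟨g, hg, h1, h2⟩ := word F i (wd.getD m [])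
  obtain ⟨-, h3⟩ := h1 33 (by norm_num)
  rw [wd_nons m hm hq, el33, F.z] at h3
  exact ⟨g, h3⟩

/-- the elements of `A_i` conjugate to `z` -/
theorem conj_iff (hzx : ∀ i, ¬ IsConj z (z * E.x i)) (i : Fin 3) {m : ℕ} (hm : m < 64) :
    IsConj z (el E i m) ↔ m ≠ 0 ∧ qf m = false := by
  constructor
  · intro h
    constructor
    · rintro rfl
      rw [el0] at h
      exact p.lz.z_ne (isConj_one_left.1 h)
    · by_contra hq
      rw [Bool.not_eq_false] at hq
      obtain ⟨g, hg⟩ := el_nons F i hm hq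
      exact hzx i (h.trans (isConj_iff.2 ⟨g⁻¹, by rw [← hg]; group⟩))
  · rintro ⟨h0, hq⟩
    obtain ⟨g, -, hg, -⟩ := el_sing F i hm h0 hq
    exact isConj_iff.2 ⟨g, hg⟩

theorem AA_comm (i : Fin 3) {x y : G} (hx : x ∈ AA E i) (hy : y ∈ AA E i) : x * y = y * x := by
  obtain ⟨m, hm, rfl⟩ := (mem_AA F i).1 hx
  obtain ⟨n, hn, rfl⟩ := (mem_AA F i).1 hy
  exact el_comm F i m n

theorem z_mem_AA (i : Fin 3) : z ∈ AA E i := by
  rw [← F.z, ← el1 E i]
  exact el_mem F i 1 (by norm_num)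

theorem x_mem_AA (i : Fin 3) : E.x i ∈ AA E i := by
  rw [← el32 E i]
  exact el_mem F i 32 (by norm_num)

theorem AA_le (i : Fin 3) : AA E i ≤ MM Q E := by
  have h0 : G0 Q E ≤ MM Q E := le_sup_left
  have h1 : C0 Q E ≤ G0 Q E := le_sup_left
  rw [AA, Subgroup.closure_le]
  rintro _ ⟨j, rfl⟩
  apply h0
  apply h1
  rcases j with _ | _ | _ | _ | _ | _ | j
  · exact Q_le_C0 (by show E.z ∈ Q; rw [F.z]; exact p.lz.z_mem)
  · exact Q_le_C0 (by show E.a ∈ Q; rw [F.a]; exact p.a_mem)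
  · exact Q_le_C0 (F.h_mem _)
  · exact Q_le_C0 (F.h_mem _)
  · exact Q_le_C0 (F.p_mem _)
  · exact x_mem_C0 _
  · exact one_mem _

theorem AA_trans (hzx : ∀ i, ¬ IsConj z (z * E.x i)) (i : Fin 3) {y : G} (hy : y ∈ AA E i) (hc : IsConj z y) :
    ∃ g ∈ MM Q E, g * z * g⁻¹ = y ∧ ∀ u, u ∈ AA E i ↔ g * u * g⁻¹ ∈ AA E i := by
  obtain ⟨m, hm, rfl⟩ := (mem_AA F i).1 hy
  obtain ⟨h0, hq⟩ := (conj_iff F hzx i hm).1 hc
  exact el_sing F i hm h0 hq

theorem x_conj (hzx : ∀ i, ¬ IsConj z (z * E.x i)) (i : Fin 3) : IsConj z (E.x i) := by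
  rw [← el32 E i]
  exact (conj_iff F hzx i (by norm_num)).2 (by decide)

theorem not_ax (hzx : ∀ i, ¬ IsConj z (z * E.x i)) (i : Fin 3) : ¬ IsConj z (E.a * (z * E.x i)) := by
  have h1 : E.a * (z * E.x i) = el E i 35 := by
    have : (35 : ℕ) = 2 ^^^ 33 := by decide
    rw [this, el_xor F, el2, el33, F.z]
  rw [h1, conj_iff F hzx i (by norm_num)]
  decide

/-- `free` -/
theorem AA_free (hzx : ∀ i, ¬ IsConj z (z * E.x i)) (i : Fin 3) {S : Subgroup G} (hS : S ≤ AA E i)
    (hf : ∀ f ∈ S, ¬ IsConj z f) : ∃ y ∈ AA E i, IsConj z y ∧ ∀ f ∈ S, f ≠ 1 → ¬ IsConj z (y * f) := by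
  classical
  -- the elements of `S`
  have key : ∀ m < 64, el E i m ∈ S → m ≠ 0 → qf m = true := by
    intro m hm hmS h0
    by_contra hq
    rw [Bool.not_eq_true] at hq
    exact hf _ hmS ((conj_iff F hzx i hm).2 ⟨h0, hq⟩)
  have out : ∀ y < 64, y ≠ 0 → qf y = false → (∀ m < 64, el E i m ∈ S → m ≠ 0 → qf (y ^^^ m) = true) →
      ∃ y ∈ AA E i, IsConj z y ∧ ∀ f ∈ S, f ≠ 1 → ¬ IsConj z (y * f) := by
    intro y hy h0 hq h
    refine ⟨el E i y, el_mem F i y hy, (conj_iff F hzx i hy).2 ⟨h0, hq⟩, ?_⟩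
    intro f hfS hf1 hc
    obtain ⟨m, hm, rfl⟩ := (mem_AA F i).1 (hS hfS)
    have hm0 : m ≠ 0 := by rintro rfl; exact hf1 (el0 E i)
    rw [← el_xor F, conj_iff F hzx i (Nat.xor_lt_two_pow (n := 6) hy hm), h m hm hfS hm0] at hc
    exact absurd hc.2 (by decide)
  by_cases h1 : ∃ f1 < 64, el E i f1 ∈ S ∧ f1 ≠ 0
  · obtain ⟨f1, hf1, hS1, h01⟩ := h1
    have hq1 := key f1 hf1 hS1 h01
    by_cases h2 : ∃ f2 < 64, el E i f2 ∈ S ∧ f2 ≠ 0 ∧ f2 ≠ f1
    · obtain ⟨f2, hf2, hS2, h02, h12⟩ := h2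
      have hq2 := key f2 hf2 hS2 h02
      have hS12 : el E i (f1 ^^^ f2) ∈ S := by rw [el_xor F]; exact mul_mem hS1 hS2
      have h012 : f1 ^^^ f2 ≠ 0 := fun h => h12 (Nat.xor_eq_zero_iff.1 h).symm
      have hl12 : f1 ^^^ f2 < 64 := Nat.xor_lt_two_pow (n := 6) hf1 hf2
      have hq12 := key _ hl12 hS12 h012
      obtain ⟨y, hy, hy0, hyq, hy1, hy2, hy3⟩ := free_check2 f1 (mem_NS hf1 hq1) f2 (mem_NS hf2 hq2) h12.symm hq12
      refine out y (List.mem_range.1 hy) hy0 hyq ?_
      intro m hm hmS hm0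
      have hqm := key m hm hmS hm0
      rcases free_check1 f1 (mem_NS hf1 hq1) f2 (mem_NS hf2 hq2) h12.symm hq12 m (mem_NS hm hqm) with
        h | h | h | h | h | h
      · rw [h]; exact hy1
      · rw [h]; exact hy2
      · rw [h]; exact hy3
      · by_cases hmf : m = f1
        · rw [hmf]; exact hy1
        · have := key (f1 ^^^ m) (Nat.xor_lt_two_pow (n := 6) hf1 hm) (by rw [el_xor F]; exact mul_mem hS1 hmS)
            (fun h' => hmf (Nat.xor_eq_zero_iff.1 h').symm)
          rw [this] at h; exact absurd h (by decide)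
      · by_cases hmf : m = f2
        · rw [hmf]; exact hy2
        · have := key (f2 ^^^ m) (Nat.xor_lt_two_pow (n := 6) hf2 hm) (by rw [el_xor F]; exact mul_mem hS2 hmS)
            (fun h' => hmf (Nat.xor_eq_zero_iff.1 h').symm)
          rw [this] at h; exact absurd h (by decide)
      · by_cases hmf : m = f1 ^^^ f2
        · rw [hmf]; exact hy3
        · have := key (f1 ^^^ f2 ^^^ m) (Nat.xor_lt_two_pow (n := 6) hl12 hm)
            (by rw [el_xor F]; exact mul_mem hS12 hmS)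
            (fun h' => hmf (Nat.xor_eq_zero_iff.1 h').symm)
          rw [this] at h; exact absurd h (by decide)
    · obtain ⟨y, hy, hy0, hyq, hy1⟩ := free_check3 f1 (mem_NS hf1 hq1)
      refine out y (List.mem_range.1 hy) hy0 hyq ?_
      intro m hm hmS hm0
      have : m = f1 := by
        by_contra h
        exact h2 ⟨m, hm, hmS, hm0, h⟩
      rw [this]; exact hy1
  · refine out 1 (by norm_num) (by norm_num) (by decide) ?_
    intro m hm hmS hm0
    exact absurd ⟨m, hm, hmS, hm0⟩ h1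

/-- the elements of `A_i` which are interesting for `near` have codes in `rk2 i` -/
theorem near_code (hva : φ.e p.va = vec 1) (hzx : ∀ i, ¬ IsConj z (z * E.x i)) (i : Fin 3) {u : G}
    (hu : u ∈ AA E i) (hu1 : u ≠ 1) (huc : ¬ IsConj z u) (huz : ¬ IsConj z (z * u)) : ∃ n ∈ rk2 i, Cd φ u n := by
  obtain ⟨m, hm, rfl⟩ := (mem_AA F i).1 hu
  have hm0 : m ≠ 0 := by rintro rfl; exact hu1 (el0 E i)
  rw [conj_iff F hzx i hm] at huc
  have hq : qf m = true := by
    by_contra h
    exact huc ⟨hm0, by simpa using h⟩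
  have hz : z * el E i m = el E i (1 ^^^ m) := by rw [el_xor F, el1, F.z]
  rw [hz, conj_iff F hzx i (Nat.xor_lt_two_pow (n := 6) (by norm_num) hm)] at huz
  have hm1 : 1 ^^^ m ≠ 0 := by
    intro h
    have : m = 1 := (Nat.xor_eq_zero_iff.1 h).symm
    rw [this] at hq
    exact absurd hq (by decide)
  have hq1 : qf (1 ^^^ m) = true := by
    by_contra h
    exact huz ⟨hm1, by simpa using h⟩
  have h32 := near_check1 m hm hq hq1
  exact ⟨code i m, List.mem_map.2 ⟨m, List.mem_filter.2 ⟨List.mem_range.2 h32, hq⟩, rfl⟩, cd_el F hva i h32⟩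

theorem of_code (hva : φ.e p.va = vec 1) (i : Fin 3) {q : G} {n : ℕ} (hn : n < 256) (hq : Cd φ q n)
    (h : ap (MX i) n = n) : q ∈ AA E i := by
  obtain ⟨m, hm, hmn⟩ := code_check i n hn h
  have h1 := cd_el F hva i hm
  rw [hmn] at h1
  rcases hq.eq_or h1 with h2 | h2
  · rw [h2]; exact el_mem F i m (by omega)
  · rw [h2]; exact mul_mem (el_mem F i m (by omega)) (z_mem_AA F i)

end Cfsg.Agent.TypeO8Plus.EFOne
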