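import Cfsg.Agent.TypeO8Plus.PreFrame
import Cfsg.Agent.TypeO8Plus.Code
import Cfsg.Agent.LargeExtra.KillNine.PtsOplus

/-!
# `Ω₈⁺(2)`: the relation `(s wᵢ)³ = 1` (helper360)

Proof by helper260.
-/

set_option autoImplicit false

namespace Cfsg.Agent.TypeO8Plus.SWBraid

open Cfsg.Agent.Co2Type.Quad Cfsg.Agent.LargeExtra.Base Cfsg.Agent.LargeExtra.Nine
open Cfsg.Agent.LargeExtra.KillNine.Codes Cfsg.Agent.TypeO8Plus.Code
open Cfsg.Agent.LargeExtra.KillNine

section Abstract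

variable {G : Type*} [Group G]

theorem inv_of_sq {x : G} (h : x * x = 1) : x⁻¹ = x := inv_eq_of_mul_eq_one_left h

/-- conjugation by a product -/
theorem conj_mul (c d x : G) : c * d * x * (c * d)⁻¹ = c * (d * x * d⁻¹) * c⁻¹ := by group

/-- a 3-cycle of `c` is fixed by `c³` -/
theorem cube {c x y v : G} (h1 : c * x * c⁻¹ = y) (h2 : c * y * c⁻¹ = v) (h3 : c * v * c⁻¹ = x) :
    c * c * c * x * (c * c * c)⁻¹ = x ∧ c * c * c * y * (c * c * c)⁻¹ = y ∧
      c * c * c * v * (c * c * c)⁻¹ = v := by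
  have key : ∀ u : G, c * c * c * u * (c * c * c)⁻¹ = c * (c * (c * u * c⁻¹) * c⁻¹) * c⁻¹ := by
    intro u; group
  refine ⟨?_, ?_, ?_⟩
  · rw [key, h1, h2, h3]
  · rw [key, h2, h3, h1]
  · rw [key, h3, h1, h2]

/-- the end of the argument -/
theorem endgame {z a h p x e s w : G} (hss : s * s = 1) (hww : w * w = 1) (hpp : p * p = 1) (hzz : z * z = 1)
    (haa : a * a = 1) (hza : z * a = a * z) (hzh : z * h = h * z) (hah : a * h = h * a)
    (hzp : z * p = p * z) (hap : a * p = p * a) (hph : p * h = h * p * z) (hxx : x * x = 1)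
    (sz : s * z * s⁻¹ = a) (sh : s * h * s⁻¹ = h) (sp : s * p * s⁻¹ = x) (sx : s * x * s⁻¹ = p)
    (wz : w * z * w⁻¹ = z) (wa : w * a * w⁻¹ = h) (wh : w * h * w⁻¹ = a) (we : w * e * w⁻¹ = p)
    (wp : w * p * w⁻¹ = e) (se : s * e * s = e * s * e) (xw : x * w * x = w * x * w)
    (ht : s * w * (s * w) * (s * w) = z * a * h) : a = 1 := by
  have hsi := inv_of_sq hss
  have hwi := inv_of_sq hww
  have hpi := inv_of_sq hpp
  rw [hsi] at sz sh sp sx
  rw [hwi] at wz wa wh we wp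
  obtain ⟨t, htt⟩ : ∃ t, t = s * w * (s * w) * (s * w) := ⟨_, rfl⟩
  obtain ⟨r, hr⟩ : ∃ r, r = w * s * w := ⟨_, rfl⟩
  have hrr : r * r = 1 := by
    rw [hr]
    calc w * s * w * (w * s * w) = w * (s * (w * w) * s) * w := by group
      _ = 1 := by rw [hww, mul_one, hss, mul_one, hww]
  -- `r' = t r`
  have h1 : s * w * s = t * r := by
    rw [htt, hr]
    calc s * w * s = s * w * s * (w * (s * (w * w) * s) * w) := by
          rw [hww, mul_one, hss, mul_one, hww, mul_one]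
      _ = _ := by group
  -- `r p r = p r p`
  have h2 : r * p * r = p * r * p := by
    calc r * p * r = w * (s * (w * p * w) * s) * w := by rw [hr]; group
      _ = w * (e * s * e) * w := by rw [wp, se]
      _ = (w * e * w) * (w * s * w) * (w * e * w) := by
          calc w * (e * s * e) * w = w * e * 1 * s * 1 * e * w := by group
            _ = w * e * (w * w) * s * (w * w) * e * w := by rw [hww]
            _ = _ := by group
      _ = p * r * p := by rw [we, ← hr]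
  -- `w = x (w x w) x`
  have h3 : w = x * (w * x * w) * x := by
    rw [← xw]
    calc w = (x * x) * w * (x * x) := by rw [hxx]; group
      _ = _ := by group
  have h4 : s * w * s = p * (s * w * s * p * (s * w * s)) * p := by
    have e1 : s * w * s * p * (s * w * s) = s * (w * x * w) * s := by
      calc s * w * s * p * (s * w * s) = s * w * (s * p * s) * w * s := by group
        _ = _ := by rw [sp]; group
    rw [e1]
    calc s * w * s = s * (x * (w * x * w) * x) * s := by rw [← h3]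
      _ = s * x * 1 * (w * x * w) * 1 * x * s := by group
      _ = s * x * (s * s) * (w * x * w) * (s * s) * x * s := by rw [hss]
      _ = (s * x * s) * (s * (w * x * w) * s) * (s * x * s) := by group
      _ = _ := by rw [sx]
  have h5 : (t * r) * (t * r) = 1 := by
    rw [← h1]
    calc s * w * s * (s * w * s) = s * (w * (s * s) * w) * s := by group
      _ = 1 := by rw [hss, mul_one, hww, mul_one, hss]
  have h6 : t * r = r * t⁻¹ := by
    have h7 : (t * r)⁻¹ = t * r := inv_of_sq h5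
    rw [mul_inv_rev, inv_of_sq hrr] at h7
    exact h7.symm
  -- `r' = (p t p) r (p t p)⁻¹`
  have h7 : t * r = p * t * p * r * (p * t * p)⁻¹ := by
    have e1 : t * r * p * (t * r) = t * (r * p * r) * t⁻¹ := by
      calc t * r * p * (t * r) = t * r * p * (r * t⁻¹) := by rw [← h6]
        _ = _ := by group
    rw [h1] at h4
    rw [e1, h2] at h4
    rw [h4, mul_inv_rev, mul_inv_rev, hpi]
    group
  rw [← htt] at ht
  have h8 : p * t * p = a * h := by
    rw [ht]
    calc p * (z * a * h) * p = (p * z) * a * h * p := by group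
      _ = z * (p * a) * h * p := by rw [← hzp]; group
      _ = z * a * (p * h) * p := by rw [← hap]; group
      _ = z * a * h * (p * z) * p := by rw [hph]; group
      _ = z * a * h * z * (p * p) := by rw [← hzp]; group
      _ = z * (a * h * z) := by rw [hpp]; group
      _ = z * (z * (a * h)) := by
          rw [show a * h * z = z * (a * h) by
            rw [mul_assoc, ← hzh, ← mul_assoc, ← hza, mul_assoc]]
      _ = a * h := by rw [← mul_assoc, hzz, one_mul]
  have rz : r * z * r⁻¹ = h := by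
    rw [inv_of_sq hrr, hr]
    calc w * s * w * z * (w * s * w) = w * (s * (w * z * w) * s) * w := by group
      _ = h := by rw [wz, sz, wa]
  have ra : r * a * r⁻¹ = a := by
    rw [inv_of_sq hrr, hr]
    calc w * s * w * a * (w * s * w) = w * (s * (w * a * w) * s) * w := by group
      _ = a := by rw [wa, sh, wh]
  have rh : r * h * r⁻¹ = z := by
    rw [← rz]
    calc r * (r * z * r⁻¹) * r⁻¹ = (r * r) * z * (r * r)⁻¹ := by group
      _ = z := by rw [hrr]; group
  rw [h8, ht] at h7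
  -- `z a h r = a h r (a h)⁻¹ = a h (a z)⁻¹ r`
  have h9 : a * h * r * (a * h)⁻¹ = a * h * (a * z)⁻¹ * r := by
    have : r * (a * h)⁻¹ * r⁻¹ = (a * z)⁻¹ := by
      calc r * (a * h)⁻¹ * r⁻¹ = ((r * a * r⁻¹) * (r * h * r⁻¹))⁻¹ := by group
        _ = _ := by rw [ra, rh]
    rw [← this]; group
  rw [h9] at h7
  have h10 : z * a * h = a * h * (a * z)⁻¹ := mul_right_cancel h7
  have h11 : (a * z)⁻¹ = z * a := by rw [mul_inv_rev, inv_of_sq haa, inv_of_sq hzz]
  rw [h11] at h10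
  -- `z a h = a h z a = z a h a`
  have h12 : a * h * (z * a) = z * a * h * a := by
    calc a * h * (z * a) = a * (h * z) * a := by group
      _ = (a * z) * h * a := by rw [← hzh]; group
      _ = z * a * h * a := by rw [← hza]
  rw [h12] at h10
  exact mul_eq_left.1 h10.symm

end Abstract

variable {G : Type*} [Group G] {Q A : Subgroup G} {z a : G}

theorem orb_stable : ∀ L ∈ confOplus.X ++ confOplus.N ++ confOplus.M, ∀ n ∈ PtsOplus.orb,
    ap L n ∈ PtsOplus.orb := by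
  decide +kernel

theorem uniq_e : ∀ i : Fin 3, ∀ m ∈ PtsOplus.orb, m ^^^ 2 ^ ((i + 1 : Fin 3).1 + 5) ∈ PtsOplus.orb →
    m ^^^ 2 ^ ((i + 2 : Fin 3).1 + 5) ∈ PtsOplus.orb → m ≠ 2 ^ (i.1 + 1) → m = 16 := by
  decide +kernel

theorem uniq_p : ∀ i : Fin 3, ∀ m ∈ PtsOplus.orb, m ^^^ 16 ∈ PtsOplus.orb →
    m ^^^ 2 ^ ((i + 1 : Fin 3).1 + 1) ∈ PtsOplus.orb →
    m ^^^ 2 ^ ((i + 2 : Fin 3).1 + 1) ∈ PtsOplus.orb → m ≠ 1 → m = 2 ^ (i.1 + 5) := by
  decide +kernel

theorem comm_code : ∀ i : Fin 3, ∀ n ∈ List.range 256, bs (vec n) (vec 1) = 0 →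
    bs (vec n) (vec 2) = 0 → bs (vec n) (vec 4) = 0 → bs (vec n) (vec 8) = 0 →
    bs (vec n) (vec (2 ^ ((i + 1 : Fin 3).1 + 5))) = 0 → bs (vec n) (vec (2 ^ ((i + 2 : Fin 3).1 + 5))) = 0 →
    n = 0 ∨ n = 1 ∨ n = 2 ^ (i.1 + 1) ∨ n = 1 ^^^ 2 ^ (i.1 + 1) := by
  decide +kernel

/-- `H` permutes the 27 points -/
theorem orb_H [Finite G] {p : Pair Q z A a} {φ : Coord p.lz} (hc : IsConf p φ confOplus)
    {f : p.lz.V ≃ₗ[ZMod 2] p.lz.V} (hf : f ∈ p.H) {v : p.lz.V} {n : ℕ} (hn : n ∈ PtsOplus.orb)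
    (hv : φ.e v = vec n) : ∃ m ∈ PtsOplus.orb, φ.e (f v) = vec m := by
  have := Pts.finite_aut p.lz
  have hf' := hc.le hf
  rw [← Subgroup.mem_toSubmonoid, Subgroup.closure_toSubmonoid_of_finite] at hf'
  clear hf
  induction hf' using Submonoid.closure_induction_left with
  | one => exact ⟨n, hn, hv⟩
  | mul_left x hx y hy ih =>
    obtain ⟨m, hm, hmv⟩ := ih
    obtain ⟨L, hL, hLx⟩ := hx
    refine ⟨ap L m, orb_stable L hL m hm, ?_⟩
    change φ.e (x (y v)) = _
    rw [hLx, hmv, lin_vec]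

section Main

variable {p : Pair Q z A a} {φ : Coord p.lz} {E : El G}

theorem cd_h (F : PreFrame p φ E) (i : Fin 3) : Cd φ (E.h i) (2 ^ (i.1 + 1)) := ⟨F.h_mem i, F.h_code i⟩

theorem cd_e (F : PreFrame p φ E) : Cd φ E.e 16 := ⟨F.e_mem, F.e_code⟩

theorem cd_p (F : PreFrame p φ E) (i : Fin 3) : Cd φ (E.p i) (2 ^ (i.1 + 5)) := ⟨F.p_mem i, F.p_code i⟩

/-- the action of `t ∈ C(z)` on a fixed vector -/
theorem act_fix {h : Large Q z} {φ : Coord h} {t : G} (ht : t ∈ Subgroup.centralizer ({z} : Set G)) {y : G}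
    {n : ℕ} (hy : Cd φ y n) (h1 : t * y * t⁻¹ = y) {v : h.V} (hv : φ.e v = vec n) :
    h.act ⟨t, ht⟩ v = v := by
  obtain ⟨hyQ, hyc⟩ := hy
  have h2 : v = h.pr ⟨y, hyQ⟩ := φ.e.injective (hv.trans hyc.symm)
  rw [h2, h.act_pr]
  congr 1
  exact Subtype.ext h1

theorem eq_one_of_basis {h : Large Q z} {φ : Coord h} {f : h.V ≃ₗ[ZMod 2] h.V} {u : ℕ → h.V}
    (hu : ∀ n, φ.e (u n) = vec n) (hall : ∀ j : Fin 8, f (u (2 ^ j.1)) = u (2 ^ j.1)) : f = 1 := by
  have h1 : φ.e.toLinearMap ∘ₗ f.toLinearMap ∘ₗ φ.e.symm.toLinearMap = LinearMap.id := by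
    refine (Pi.basisFun (ZMod 2) (Fin 8)).ext fun j => ?_
    rw [Pi.basisFun_apply, basis_vec]
    change φ.e (f (φ.e.symm (vec (2 ^ j.1)))) = vec (2 ^ j.1)
    have h2 : φ.e.symm (vec (2 ^ j.1)) = u (2 ^ j.1) := by
      rw [← hu, LinearEquiv.symm_apply_apply]
    rw [h2, hall, hu]
  ext v
  apply φ.e.injective
  have h2 := LinearMap.congr_fun h1 (φ.e v)
  change φ.e (f (φ.e.symm (φ.e v))) = φ.e v at h2
  rw [LinearEquiv.symm_apply_apply] at h2
  exact h2

/-- an element of `C(z)` commuting with all generators but `e`, `pᵢ` acts trivially -/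
theorem act_eq_one [Finite G] (F : PreFrame p φ E) (hc : IsConf p φ confOplus) (i : Fin 3) {t : G}
    (ht : t ∈ Subgroup.centralizer ({z} : Set G)) (ha : t * a * t⁻¹ = a)
    (hh : ∀ k, t * E.h k * t⁻¹ = E.h k) (hp1 : t * E.p (i + 1) * t⁻¹ = E.p (i + 1))
    (hp2 : t * E.p (i + 2) * t⁻¹ = E.p (i + 2)) : t ∈ Q := by
  obtain ⟨f, hf⟩ : ∃ f, f = p.lz.act ⟨t, ht⟩ := ⟨_, rfl⟩
  have hfH : f ∈ p.H := by rw [hf]; exact ⟨_, rfl⟩
  obtain ⟨u, hu⟩ : ∃ u : ℕ → p.lz.V, ∀ n, φ.e (u n) = vec n :=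
    ⟨fun n => φ.e.symm (vec n), fun n => φ.e.apply_symm_apply _⟩
  have hux : ∀ m n, u (m ^^^ n) = u m + u n := by
    intro m n
    apply φ.e.injective
    rw [map_add, hu, hu, hu, vec_xor]
  have fa : f (u 1) = u 1 := by rw [hf]; exact act_fix ht ⟨p.a_mem, hc.va⟩ ha (hu 1)
  have fh : ∀ k : Fin 3, f (u (2 ^ (k.1 + 1))) = u (2 ^ (k.1 + 1)) := by
    intro k; rw [hf]; exact act_fix ht (cd_h F k) (hh k) (hu _)
  have fp1 : f (u (2 ^ ((i + 1 : Fin 3).1 + 5))) = u (2 ^ ((i + 1 : Fin 3).1 + 5)) := by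
    rw [hf]; exact act_fix ht (cd_p F _) hp1 (hu _)
  have fp2 : f (u (2 ^ ((i + 2 : Fin 3).1 + 5))) = u (2 ^ ((i + 2 : Fin 3).1 + 5)) := by
    rw [hf]; exact act_fix ht (cd_p F _) hp2 (hu _)
  have huinj : ∀ m n, m < 256 → n < 256 → u m = u n → m = n := by
    intro m n hm hn h
    exact vec_inj m hm n hn (by rw [← hu, ← hu, h])
  have hlt : ∀ n ∈ PtsOplus.orb, n < 256 := by decide +kernel
  -- `f` fixes `e`
  have fe : f (u 16) = u 16 := by
    obtain ⟨m, hm, hmv⟩ := orb_H hc hfH (n := 16) (by decide) (hu 16)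
    have hmu : f (u 16) = u m := φ.e.injective (hmv.trans (hu m).symm)
    have hadd : ∀ n, f (u n) = u n → 16 ^^^ n ∈ PtsOplus.orb → m ^^^ n < 256 →
        m ^^^ n ∈ PtsOplus.orb := by
      intro n hn h16 hlt'
      obtain ⟨m', hm', hmv'⟩ := orb_H hc hfH h16 (hu _)
      rw [hux, map_add, hn, hmu, ← hux, hu] at hmv'
      rw [vec_inj _ hlt' _ (hlt _ hm') hmv']
      exact hm'
    have hlt2 : ∀ i : Fin 3, ∀ m ∈ PtsOplus.orb, m ^^^ 2 ^ (i.1 + 5) < 256 := by decide +kernel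
    have h16 : ∀ i : Fin 3, 16 ^^^ 2 ^ (i.1 + 5) ∈ PtsOplus.orb := by decide +kernel
    have h1 := hadd _ fp1 (h16 _) (hlt2 _ m hm)
    have h2 := hadd _ fp2 (h16 _) (hlt2 _ m hm)
    have h3 : m ≠ 2 ^ (i.1 + 1) := by
      intro h
      have h4 : f (u 16) = f (u (2 ^ (i.1 + 1))) := by rw [hmu, fh i, h]
      have h5 := huinj _ _ (by norm_num) (by
        have : ∀ i : Fin 3, 2 ^ (i.1 + 1) < 256 := by decide
        exact this i) (f.injective h4)
      have : ∀ i : Fin 3, 16 ≠ 2 ^ (i.1 + 1) := by decide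
      exact this i h5
    rw [hmu, uniq_e i m hm h1 h2 h3]
  -- `f` fixes `pᵢ`
  have fp : f (u (2 ^ (i.1 + 5))) = u (2 ^ (i.1 + 5)) := by
    have hpi : ∀ i : Fin 3, 2 ^ (i.1 + 5) ∈ PtsOplus.orb := by decide +kernel
    obtain ⟨m, hm, hmv⟩ := orb_H hc hfH (hpi i) (hu _)
    have hmu : f (u (2 ^ (i.1 + 5))) = u m := φ.e.injective (hmv.trans (hu m).symm)
    have hadd : ∀ n, f (u n) = u n → 2 ^ (i.1 + 5) ^^^ n ∈ PtsOplus.orb → m ^^^ n < 256 →
        m ^^^ n ∈ PtsOplus.orb := by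
      intro n hn h16 hlt'
      obtain ⟨m', hm', hmv'⟩ := orb_H hc hfH h16 (hu _)
      rw [hux, map_add, hn, hmu, ← hux, hu] at hmv'
      rw [vec_inj _ hlt' _ (hlt _ hm') hmv']
      exact hm'
    have hlt2 : ∀ i : Fin 3, ∀ m ∈ PtsOplus.orb, m ^^^ 2 ^ (i.1 + 1) < 256 := by decide +kernel
    have hlt3 : ∀ m ∈ PtsOplus.orb, m ^^^ 16 < 256 := by decide +kernel
    have h16 : ∀ i : Fin 3, 2 ^ (i.1 + 5) ^^^ 16 ∈ PtsOplus.orb ∧
        2 ^ (i.1 + 5) ^^^ 2 ^ ((i + 1 : Fin 3).1 + 1) ∈ PtsOplus.orb ∧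
        2 ^ (i.1 + 5) ^^^ 2 ^ ((i + 2 : Fin 3).1 + 1) ∈ PtsOplus.orb := by decide +kernel
    have h1 := hadd _ fe (h16 i).1 (hlt3 m hm)
    have h2 := hadd _ (fh _) (h16 i).2.1 (hlt2 _ m hm)
    have h3 := hadd _ (fh _) (h16 i).2.2 (hlt2 _ m hm)
    have h4 : m ≠ 1 := by
      intro h
      have h4 : f (u (2 ^ (i.1 + 5))) = f (u 1) := by rw [hmu, fa, h]
      have h5 := huinj _ _ (by
        have : ∀ i : Fin 3, 2 ^ (i.1 + 5) < 256 := by decide
        exact this i) (by norm_num) (f.injective h4)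
      have : ∀ i : Fin 3, 2 ^ (i.1 + 5) ≠ 1 := by decide
      exact this i h5
    rw [hmu, uniq_p i m hm h1 h2 h3 h4]
  have hf1 : f = 1 := by
    have hall : ∀ j : Fin 8, f (u (2 ^ j.1)) = u (2 ^ j.1) := by
      have hpall : ∀ k : Fin 3, f (u (2 ^ (k.1 + 5))) = u (2 ^ (k.1 + 5)) := by
        intro k
        have : ∀ i k : Fin 3, k = i ∨ k = i + 1 ∨ k = i + 2 := by decide
        rcases this i k with h | h | h
        · rw [h]; exact fp
        · rw [h]; exact fp1
        · rw [h]; exact fp2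
      intro j
      match j with
      | 0 => exact fa
      | 1 => exact fh 0
      | 2 => exact fh 1
      | 3 => exact fh 2
      | 4 => exact fe
      | 5 => exact hpall 0
      | 6 => exact hpall 1
      | 7 => exact hpall 2
    exact eq_one_of_basis hu hall
  rw [hf] at hf1
  exact p.lz.mem_of_act ⟨t, ht⟩ hf1

/-- **`(s wᵢ)³ = 1`** -/
theorem sw [Finite G] (F : PreFrame p φ E) (hc : IsConf p φ confOplus) (i : Fin 3) :
    E.s * E.w i * E.s = E.w i * E.s * E.w i := by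
  have hss := F.weyl.ss
  have hww := F.weyl.ww i
  have hsi := inv_of_sq hss
  have hwi := inv_of_sq hww
  have hza := F.Q_rel.za
  have hzz := F.Q_rel.zz
  have haa := F.Q_rel.aa
  have hhh := F.Q_rel.hh i
  have hzh := F.Q_rel.zh i
  have hah := F.Q_rel.ah i
  -- the action of `c = s w`
  obtain ⟨c, hcc⟩ : ∃ c, c = E.s * E.w i := ⟨_, rfl⟩
  have hcj : ∀ x, c * x * c⁻¹ = E.s * (E.w i * x * (E.w i)⁻¹) * E.s⁻¹ := by
    intro x; rw [hcc]; exact conj_mul _ _ _
  have c1 : c * E.z * c⁻¹ = E.a := by rw [hcj, F.W_rel.z, F.S_rel.z]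
  have c2 : c * E.a * c⁻¹ = E.h i := by rw [hcj, F.W_rel.a, F.S_rel.h]
  have c3 : c * E.h i * c⁻¹ = E.z := by rw [hcj, F.W_rel.h, F.S_rel.a]
  have hwx : ∀ k, k ≠ i → E.w i * E.x k * (E.w i)⁻¹ = E.x k := by
    intro k hk
    rw [← F.weyl.xw' k i hk, mul_inv_cancel_right]
  have hne1 : ∀ i : Fin 3, i + 1 ≠ i := by decide
  have hne2 : ∀ i : Fin 3, i + 2 ≠ i := by decide
  have d1 : c * E.h (i + 1) * c⁻¹ = E.x (i + 2) := by rw [hcj, F.W_rel.h1, F.S_rel.p]
  have d2 : c * E.x (i + 2) * c⁻¹ = E.p (i + 2) := by rw [hcj, hwx _ (hne2 i), F.S_rel.x]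
  have d3 : c * E.p (i + 2) * c⁻¹ = E.h (i + 1) := by rw [hcj, F.W_rel.p2, F.S_rel.h]
  have e1 : c * E.h (i + 2) * c⁻¹ = E.x (i + 1) := by rw [hcj, F.W_rel.h2, F.S_rel.p]
  have e2 : c * E.x (i + 1) * c⁻¹ = E.p (i + 1) := by rw [hcj, hwx _ (hne1 i), F.S_rel.x]
  have e3 : c * E.p (i + 1) * c⁻¹ = E.h (i + 2) := by rw [hcj, F.W_rel.p1, F.S_rel.h]
  obtain ⟨t, htt⟩ : ∃ t, t = c * c * c := ⟨_, rfl⟩
  obtain ⟨tz, ta, th⟩ := cube c1 c2 c3
  obtain ⟨th1, -, tp2⟩ := cube d1 d2 d3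
  obtain ⟨th2, -, tp1⟩ := cube e1 e2 e3
  rw [← htt] at tz ta th th1 tp2 th2 tp1
  have hall : ∀ k, t * E.h k * t⁻¹ = E.h k := by
    intro k
    have : ∀ i k : Fin 3, k = i ∨ k = i + 1 ∨ k = i + 2 := by decide
    rcases this i k with h | h | h
    · rw [h]; exact th
    · rw [h]; exact th1
    · rw [h]; exact th2
  have hcomm : ∀ {x}, t * x * t⁻¹ = x → t * x = x * t := fun h => mul_inv_eq_iff_eq_mul.1 h
  have htC : t ∈ Subgroup.centralizer ({z} : Set G) := by
    rw [Subgroup.mem_centralizer_singleton_iff]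
    have := hcomm tz
    rwa [F.z] at this
  have htQ : t ∈ Q := act_eq_one F hc i htC (by rw [← F.a]; exact ta) hall tp1 tp2
  -- the code of `t`
  obtain ⟨n, hn, hcd⟩ := exists_cd_of_mem φ htQ
  have hca : Cd φ E.a 1 := by rw [F.a]; exact ⟨p.a_mem, hc.va⟩
  have b1 := hcd.b_of_comm hca (hcomm ta)
  have b2 := hcd.b_of_comm (cd_h F 0) (hcomm (hall 0))
  have b3 := hcd.b_of_comm (cd_h F 1) (hcomm (hall 1))
  have b4 := hcd.b_of_comm (cd_h F 2) (hcomm (hall 2))
  have b5 := hcd.b_of_comm (cd_p F _) (hcomm tp1)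
  have b6 := hcd.b_of_comm (cd_p F _) (hcomm tp2)
  have hn' := comm_code i n (List.mem_range.2 hn) b1 b2 b3 b4 b5 b6
  -- `t = a ^ β h ^ γ z ^ α`
  have hform : ∃ x : G, (x = 1 ∨ x = E.a ∨ x = E.h i ∨ x = E.a * E.h i) ∧ (t = x ∨ t = x * E.z) := by
    rw [F.z]
    rcases hn' with h | h | h | h
    · refine ⟨1, Or.inl rfl, ?_⟩
      exact hcd.eq_or (cd_one.congr h.symm)
    · exact ⟨E.a, Or.inr (Or.inl rfl), hcd.eq_or (hca.congr h.symm)⟩
    · exact ⟨E.h i, Or.inr (Or.inr (Or.inl rfl)), hcd.eq_or ((cd_h F i).congr h.symm)⟩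
    · exact ⟨E.a * E.h i, Or.inr (Or.inr (Or.inr rfl)),
        hcd.eq_or ((hca.mul (cd_h F i)).congr h.symm)⟩
  -- squares and inverses
  have htt2 : t * t = 1 := by
    obtain ⟨x, hx, hx'⟩ := hform
    have hxx : x * x = 1 := by
      rcases hx with rfl | rfl | rfl | rfl
      · rw [mul_one]
      · exact haa
      · exact hhh
      · calc E.a * E.h i * (E.a * E.h i) = E.a * (E.h i * E.a) * E.h i := by group
          _ = (E.a * E.a) * (E.h i * E.h i) := by rw [← hah]; group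
          _ = 1 := by rw [haa, hhh, mul_one]
    have hxz : x * E.z = E.z * x := by
      rcases hx with rfl | rfl | rfl | rfl
      · rw [mul_one, one_mul]
      · exact hza.symm
      · exact hzh.symm
      · rw [mul_assoc, ← hzh, ← mul_assoc, ← hza, mul_assoc]
    rcases hx' with h | h
    · rw [h, hxx]
    · calc t * t = x * (E.z * x) * E.z := by rw [h]; group
        _ = (x * x) * (E.z * E.z) := by rw [← hxz]; group
        _ = 1 := by rw [hxx, hzz, mul_one]
  have hti := inv_of_sq htt2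
  have hinv : t⁻¹ = E.w i * E.s * (E.w i * E.s) * (E.w i * E.s) := by
    rw [htt, hcc]
    simp only [mul_inv_rev, hsi, hwi]
    group
  have hst : E.s * t * E.s = t := by
    calc E.s * t * E.s = (E.s * E.s) * (E.w i * E.s * (E.w i * E.s) * (E.w i * E.s)) := by
          rw [htt, hcc]; group
      _ = t⁻¹ := by rw [hss, one_mul, hinv]
      _ = t := hti
  have hwt : E.w i * t * E.w i = t := by
    calc E.w i * t * E.w i = (E.w i * E.s * (E.w i * E.s) * (E.w i * E.s)) * (E.w i * E.w i) := by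
          rw [htt, hcc]; group
      _ = t⁻¹ := by rw [hww, mul_one, hinv]
      _ = t := hti
  have hane : E.a ≠ 1 := by
    intro h
    have := F.S_rel.z
    rw [h] at this
    apply F.Q_rel.z_ne
    have h2 := mul_inv_eq_one.1 this
    exact (mul_eq_left.1 h2)
  have hhne : E.h i ≠ 1 := by
    intro h
    have := F.W_rel.a i
    rw [h] at this
    apply hane
    have h2 := mul_inv_eq_one.1 this
    exact (mul_eq_left.1 h2)
  have sz : E.s * E.z * E.s = E.a := by have := F.S_rel.z; rwa [hsi] at this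
  have sa : E.s * E.a * E.s = E.z := by have := F.S_rel.a; rwa [hsi] at this
  have sh : E.s * E.h i * E.s = E.h i := by have := F.S_rel.h i; rwa [hsi] at this
  have wz : E.w i * E.z * E.w i = E.z := by have := F.W_rel.z i; rwa [hwi] at this
  have wa : E.w i * E.a * E.w i = E.h i := by have := F.W_rel.a i; rwa [hwi] at this
  have wh : E.w i * E.h i * E.w i = E.a := by have := F.W_rel.h i; rwa [hwi] at this
  have smul : ∀ x y, E.s * (x * y) * E.s = (E.s * x * E.s) * (E.s * y * E.s) := by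
    intro x y
    calc E.s * (x * y) * E.s = E.s * x * 1 * y * E.s := by group
      _ = E.s * x * (E.s * E.s) * y * E.s := by rw [hss]
      _ = _ := by group
  have wmul : ∀ x y, E.w i * (x * y) * E.w i = (E.w i * x * E.w i) * (E.w i * y * E.w i) := by
    intro x y
    calc E.w i * (x * y) * E.w i = E.w i * x * 1 * y * E.w i := by group
      _ = E.w i * x * (E.w i * E.w i) * y * E.w i := by rw [hww]
      _ = _ := by group
  -- `a ≠ z`, `a ≠ h`, `h ≠ z`
  have haz : E.a ≠ E.z := by rw [F.a, F.z]; exact p.ne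
  have hhz : E.h i ≠ E.z := by
    intro h
    have h2 := sh
    rw [h, sz] at h2
    exact haz h2
  have hah' : E.a ≠ E.h i := by
    intro h
    have h2 := sa
    rw [h, sh] at h2
    exact hhz h2
  -- `t ∈ {1, a h z}`
  have hcase : t = 1 ∨ t = E.z * E.a * E.h i := by
    obtain ⟨x, hx, hx'⟩ := hform
    rcases hx with rfl | rfl | rfl | rfl <;> rcases hx' with h | h
    · exact Or.inl h
    · exfalso
      rw [h, one_mul, sz] at hst
      exact haz hst
    · exfalso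
      rw [h, sa] at hst
      exact haz hst.symm
    · exfalso
      rw [h, wmul, wa, wz] at hwt
      exact hah' (mul_right_cancel hwt).symm
    · exfalso
      rw [h, wh] at hwt
      exact hah' hwt
    · exfalso
      rw [h, wmul, wh, wz] at hwt
      exact hah' (mul_right_cancel hwt)
    · exfalso
      rw [h, smul, sa, sh] at hst
      exact haz (mul_right_cancel hst).symm
    · right
      rw [h, mul_assoc, ← hzh, ← mul_assoc, ← hza]
  rcases hcase with h | h
  · -- `t = 1`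
    have h1 : E.s * E.w i * (E.s * E.w i) * (E.s * E.w i) = 1 := by rw [← hcc, ← htt, h]
    calc E.s * E.w i * E.s = E.s * E.w i * (E.s * E.w i) * (E.s * E.w i) *
          (E.w i * E.s * E.w i) := by
            calc E.s * E.w i * E.s = E.s * E.w i * E.s * (E.w i * (E.s * (E.w i * E.w i) * E.s) * E.w i) := by
                  rw [hww, mul_one, hss, mul_one, hww, mul_one]
              _ = _ := by group
      _ = _ := by rw [h1, one_mul]
  · exfalso
    refine hane (endgame (z := E.z) (h := E.h i) (p := E.p i) (x := E.x i) (e := E.e) (s := E.s) (w := E.w i)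
      hss hww (F.Q_rel.pp i) hzz haa hza hzh hah (F.Q_rel.zp i) (F.Q_rel.ap i) (F.Q_rel.ph i)
      (F.weyl.xx i) F.S_rel.z (F.S_rel.h i) (F.S_rel.p i) (F.S_rel.x i) (F.W_rel.z i)
      (F.W_rel.a i) (F.W_rel.h i) (F.W_rel.e i) (F.W_rel.p i) F.weyl.se (F.weyl.xw i) ?_)
    rw [← hcc, ← htt, h]

end Main

end Cfsg.Agent.TypeO8Plus.SWBraid
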