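import Cfsg.Agent.TypeO8Plus.LocalD
import Cfsg.Agent.TypeO8Plus.SWBraid

/-!
# `Ω₈⁺(2)`: existence of a frame (helper260)
-/

set_option autoImplicit false

namespace Cfsg.Agent.TypeO8Plus.LocalE

open Cfsg.Agent.Co2Type.Quad Cfsg.Agent.LargeExtra.Base Cfsg.Agent.LargeExtra.Nine
open Cfsg.Agent.LargeExtra.KillNine.Codes Cfsg.Agent.TypeO8Plus.Code Cfsg.Agent.TypeO8Plus.LocalA
open Cfsg.Agent.TypeO8Plus.LocalB Cfsg.Agent.TypeO8Plus.LocalC Cfsg.Agent.TypeO8Plus.LocalD

variable {G : Type*} [Group G] {Q A : Subgroup G} {z a : G}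

theorem exists_frame [Finite G] (p : Pair Q z A a) (φ : Coord p.lz) (hc : IsConf p φ confOplus) :
    ∃ E : El G, Frame p φ E := by
  obtain ⟨e, s, d, S⟩ := exists_start p φ hc.va
  have hh : ∀ i : Fin 3, ∃ h, Cd φ h (2 ^ (i.1 + 1)) ∧ h ∈ A ∧ s * h = h * s := by
    intro i
    obtain ⟨h0, h1⟩ := exists_cd φ (2 ^ (i.1 + 1))
    have key : ∀ i : Fin 3, 2 ^ (i.1 + 1) < 16 ∧ (2 ^ (i.1 + 1)).testBit 0 = false := by decide
    obtain ⟨h, h2, h3, -, -, h4⟩ := S.exists_h hc.va (key i).1 h1 (mem_A_of_cd hc (key i).1 h1) (key i).2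
    exact ⟨h, h2, h3, h4⟩
  choose h h_cd hA hs using hh
  choose q hq using fun i : Fin 3 => exists_cd φ (2 ^ (i.1 + 5))
  have B : Bas p φ e h q := ⟨hc.va, S.e_cd, h_cd, hq, hA⟩
  obtain ⟨x, hxA, hx, hsx⟩ := exists_xs B hc S hs
  obtain ⟨w, hw, hww, hxw, hxw', hww'⟩ := exists_ws B hc hxA hx
  have hxx : ∀ i, x i * x i = 1 := fun i => XAct.sq B (hx i) (hxA i)
  have k1 : ∀ i : Fin 3, i + 1 ≠ i := by decide
  have k2 : ∀ i : Fin 3, i + 2 ≠ i := by decide
  have t1 : ∀ i : Fin 3, thd i (i + 1) = i + 2 := by decide
  have t2 : ∀ i : Fin 3, thd i (i + 2) = i + 1 := by decide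
  have hza : z * a = a * z := p.comm_za.symm
  have hsq : ∀ i, s * q i * s⁻¹ = x i := fun i => by rw [← hsx i]; exact cjss S.ss
  have F : PreFrame p φ { z := z, a := a, h := h, e := e, p := q, x := x, w := w, s := s } :=
    { z := rfl
      a := rfl
      h_mem := fun i => (h_cd i).mem
      e_mem := B.e_cd.mem
      p_mem := fun i => (hq i).mem
      h_code := fun i => (h_cd i).2
      e_code := B.e_cd.2
      p_code := fun i => (hq i).2
      x_mem := hxA
      Q_rel :=
        { z_ne := p.lz.z_ne
          zz := p.lz.z_sq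
          aa := p.la.z_sq
          hh := B.hh
          ee := B.ee
          pp := B.qq
          za := hza
          zh := fun i => (p.lz.comm_z _ (h_cd i).mem).symm
          ze := (p.lz.comm_z _ B.e_cd.mem).symm
          zp := fun i => (p.lz.comm_z _ (hq i).mem).symm
          ah := B.ah
          ap := B.aq
          hh' := B.hh'
          eh := B.eh
          ep := B.eq
          pp' := B.qq'
          hp := fun i j hij => B.hq hij
          ea := B.ea
          ph := B.qh }
      X_rel :=
        { z := fun i => (hx i).fz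
          a := fun i => (hx i).fa
          h := fun i => (hx i).fh
          h1 := fun i => (hx i).fh' _ (k1 i)
          h2 := fun i => (hx i).fh' _ (k2 i)
          e := fun i => (hx i).fe
          p := fun i => (hx i).fq
          p1 := fun i => by have := (hx i).fq' _ (k1 i); rwa [t1] at this
          p2 := fun i => by have := (hx i).fq' _ (k2 i); rwa [t2] at this }
      W_rel :=
        { z := fun i => (hw i).fz
          a := fun i => (hw i).fa
          h := fun i => (hw i).fh
          h1 := fun i => by have := (hw i).fh' _ (k1 i); rwa [t1] at this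
          h2 := fun i => by have := (hw i).fh' _ (k2 i); rwa [t2] at this
          e := fun i => (hw i).fe
          p := fun i => (hw i).fq
          p1 := fun i => by have := (hw i).fq' _ (k1 i); rwa [t1] at this
          p2 := fun i => by have := (hw i).fq' _ (k2 i); rwa [t2] at this }
      S_rel :=
        { z := S.sz
          a := S.sa
          h := fun i => conj_of_comm (hs i)
          p := hsq
          x := hsx }
      weyl :=
        { ss := S.ss
          xx := hxx
          ww := hww
          se := S.ses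
          xw := hxw
          xx' := fun i j => by
            by_cases hij : i = j
            · rw [hij]
            · exact XAct.comm B (hx i) (hx j) (hxA i) (hxA j) hij
          xw' := hxw'
          ww' := hww' } }
  exact ⟨_, F.frame (SWBraid.sw F hc)⟩

end Cfsg.Agent.TypeO8Plus.LocalE
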