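import Cfsg.Agent.TypeO8Plus.Ident
import Cfsg.Agent.TypeO8Plus.LocalE
import Cfsg.Agent.TypeO8Plus.FarPairs

/-!
# `Ω₈⁺(2)`: the last step (helper260)
-/

set_option autoImplicit false

namespace Cfsg.Agent.TypeO8Plus.Final

open Cfsg.Agent.Co2Type.Quad Cfsg.Agent.LargeExtra.Base Cfsg.Agent.LargeExtra.Nine

variable {G : Type*} [Group G] {Q A : Subgroup G} {z a : G} {p : Pair Q z A a} {φ : Coord p.lz} {E : El G}

theorem of_hyp [Finite G] [IsSimpleGroup G] (F : Frame p φ E) (hva : φ.e p.va = vec 1)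
    {𝓔 : Set (Subgroup G)} (H : FarPairs.Hyp (MM Q E) {g | IsConj z g} 𝓔)
    (norm : ∀ m ∈ MM Q E, ∀ g ∈ G0 Q E, m * g * m⁻¹ ∈ G0 Q E) :
    Nonempty (G ≃* Cfsg.POmega (ZMod 2) (Cfsg.quadFormPlus 4 (ZMod 2))) := by
  have hsub := H.subset
  -- `M = G`
  have hM : MM Q E = ⊤ := by
    rw [eq_top_iff]
    have h1 : Subgroup.normalClosure {z} ≤ MM Q E := by
      rw [Subgroup.normalClosure, Subgroup.closure_le]
      intro x hx
      obtain ⟨y, hy, hyx⟩ := Group.mem_conjugatesOfSet_iff.1 hx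
      rw [Set.mem_singleton_iff] at hy
      rw [hy] at hyx
      exact hsub hyx
    rcases (Subgroup.normalClosure_normal (s := ({z} : Set G))).eq_bot_or_eq_top with h2 | h2
    · exfalso
      have h3 : z ∈ Subgroup.normalClosure ({z} : Set G) := Subgroup.subset_normalClosure rfl
      rw [h2] at h3
      exact p.lz.z_ne h3
    · rw [← h2]; exact h1
  have hN : (G0 Q E).Normal := ⟨fun g hg m => norm m (by rw [hM]; trivial) g hg⟩
  have hG : G0 Q E = ⊤ := by
    rcases hN.eq_bot_or_eq_top with h2 | h2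
    · exfalso
      have h3 : z ∈ G0 Q E := Subgroup.mem_sup_left (Subgroup.mem_sup_left p.lz.z_mem)
      rw [h2] at h3
      exact p.lz.z_ne h3
    · exact h2
  obtain ⟨f⟩ := Ident.exists_equiv F hva
  exact ⟨(Subgroup.topEquiv.symm.trans (MulEquiv.subgroupCongr hG.symm)).trans f⟩

/-- the form of S1763 -/
theorem disjunct (h : Nonempty (G ≃* Cfsg.POmega (ZMod 2) (Cfsg.quadFormPlus 4 (ZMod 2)))) :
    ∃ (F : Type) (_ : Field F) (_ : Fintype F), Fintype.card F = 2 ∧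
      Nonempty (G ≃* Cfsg.POmega F (Cfsg.quadFormPlus 4 F)) :=
  ⟨ZMod 2, inferInstance, inferInstance, ZMod.card 2, h⟩

end Cfsg.Agent.TypeO8Plus.Final
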