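import Cfsg.Agent.TypeO8Plus.Code

/-!
# `Ω₈⁺(2)`: elements of `C_G(z)` as matrices, the group `C₀` (helper416)

`Mt φ c L`: `c ∈ C_G(z)` acts on `V` as the matrix `L` (code form).
-/

set_option autoImplicit false

namespace Cfsg.Agent.TypeO8Plus.FuBase

open Cfsg.Agent.Co2Type.Quad Cfsg.Agent.LargeExtra.Base Cfsg.Agent.LargeExtra.Nine
open Cfsg.Agent.LargeExtra.KillNine.Codes Cfsg.Agent.TypeO8Plus Cfsg.Agent.TypeO8Plus.Code

variable {G : Type*} [Group G] {Q : Subgroup G} {z : G}

/-- `c` centralises `z` and acts as the matrix `L` -/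
def Mt {h : Large Q z} (φ : Coord h) (c : G) (L : List ℕ) : Prop :=
  ∃ hc : c ∈ Subgroup.centralizer ({z} : Set G), Acts φ L (h.act ⟨c, hc⟩)

section

variable {h : Large Q z} {φ : Coord h}

theorem Mt.comm {c : G} {L : List ℕ} (hc : Mt φ c L) : c * z = z * c :=
  Subgroup.mem_centralizer_singleton_iff.1 hc.1

theorem Mt.mul {c d : G} {L M : List ℕ} (hc : Mt φ c L) (hd : Mt φ d M) : Mt φ (c * d) (mulL M L) := by
  obtain ⟨h1, h2⟩ := hc
  obtain ⟨h3, h4⟩ := hd
  refine ⟨mul_mem h1 h3, ?_⟩
  have e : (⟨c * d, mul_mem h1 h3⟩ : Subgroup.centralizer ({z} : Set G)) = ⟨c, h1⟩ * ⟨d, h3⟩ := rfl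
  rw [e, map_mul]
  exact Acts.mul h4 h2

theorem Mt.of_mem {c : G} (hc : c ∈ Q) : Mt φ c idL := by
  have h1 : c ∈ Subgroup.centralizer ({z} : Set G) :=
    Subgroup.mem_centralizer_singleton_iff.2 (h.comm_z c hc)
  refine ⟨h1, ?_⟩
  rw [h.act_mem ⟨c, h1⟩ hc]
  exact Acts.one

theorem Mt.one : Mt φ (1 : G) idL := Mt.of_mem Q.one_mem

theorem Mt.congr {c : G} {L M : List ℕ} (hc : Mt φ c L) (hLM : L = M) : Mt φ c M := hLM ▸ hc

theorem Mt.cd {c : G} {L : List ℕ} (hc : Mt φ c L) {g : G} {n : ℕ} (hg : Cd φ g n) :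
    Cd φ (c * g * c⁻¹) (ap L n) := by
  obtain ⟨h1, h2⟩ := hc
  exact Cd.conj h2 hg

/-- two elements acting equally differ by an element of `Q` -/
theorem Mt.exists_q [Finite Q] {c d : G} {L : List ℕ} (hc : Mt φ c L) (hd : Mt φ d L) :
    ∃ q ∈ Q, c = q * d := by
  obtain ⟨h1, h2⟩ := hc
  obtain ⟨h3, h4⟩ := hd
  refine ⟨c * d⁻¹, ?_, by group⟩
  have e1 : h.act ⟨c, h1⟩ = h.act ⟨d, h3⟩ := Acts.ext h2 h4
  have e2 : h.act (⟨c, h1⟩ * ⟨d, h3⟩⁻¹) = 1 := by
    rw [map_mul, map_inv, e1, mul_inv_cancel]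
  exact h.mem_of_act _ e2

theorem Mt.mem [Finite Q] {c : G} (hc : Mt φ c idL) : c ∈ Q := by
  obtain ⟨q, hq, h1⟩ := hc.exists_q (Mt.one (φ := φ))
  rwa [h1, mul_one]

/-- a matrix from the images of the generators -/
theorem mt_of_gens {c : G} (hz : c * z * c⁻¹ = z) {gen : Fin 8 → G} {L : List ℕ}
    (hg : ∀ k : Fin 8, Cd φ (gen k) (2 ^ (k : ℕ)))
    (hL : ∀ k : Fin 8, Cd φ (c * gen k * c⁻¹) (L.getD k 0)) : Mt φ c L := by
  have hc : c ∈ Subgroup.centralizer ({z} : Set G) :=
    Subgroup.mem_centralizer_singleton_iff.2 (by rw [← mul_inv_eq_iff_eq_mul.1 hz])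
  refine ⟨hc, ?_⟩
  have key : ∀ k : Fin 8, φ.e (h.act ⟨c, hc⟩ (φ.e.symm (Pi.single k 1))) = vec (L.getD k 0) := by
    intro k
    obtain ⟨h1, h2⟩ := hg k
    obtain ⟨h3, h4⟩ := hL k
    have e1 : φ.e.symm (Pi.single k 1) = h.pr ⟨gen k, h1⟩ := by
      rw [LinearEquiv.symm_apply_eq, h2, basis_vec]
    rw [e1, h.act_pr, ← h4]
    rfl
  have e2 : (φ.e.toLinearMap ∘ₗ (h.act ⟨c, hc⟩).toLinearMap ∘ₗ φ.e.symm.toLinearMap) = lin L := by
    apply LinearMap.pi_ext'
    intro k
    apply LinearMap.ext_ring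
    show φ.e (h.act ⟨c, hc⟩ (φ.e.symm (Pi.single k 1))) = lin L (Pi.single k 1)
    rw [key]
    show _ = ∑ i : Fin 8, (Pi.single k 1 : F8) i • vec (L.getD i 0)
    rw [Finset.sum_eq_single k]
    · rw [Pi.single_eq_same, one_smul]
    · intro i _ hi
      rw [Pi.single_eq_of_ne hi, zero_smul]
    · intro h1; exact absurd (Finset.mem_univ k) h1
  intro v
  have e3 := LinearMap.congr_fun e2 (φ.e v)
  rw [← e3]
  show _ = φ.e (h.act ⟨c, hc⟩ (φ.e.symm (φ.e v)))
  rw [LinearEquiv.symm_apply_apply]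

end

/-! ### homomorphisms from `S₃` -/

/-- the transposition `(0 1)` -/
def sX : Equiv.Perm (Fin 3) := Equiv.swap 0 1
/-- the transposition `(1 2)` -/
def sW : Equiv.Perm (Fin 3) := Equiv.swap 1 2

/-- a word for a permutation (`true` = `sX`, `false` = `sW`) -/
def word (σ : Equiv.Perm (Fin 3)) : List Bool :=
  if σ 0 = 0 then (if σ 1 = 1 then [] else [false])
  else if σ 0 = 1 then (if σ 1 = 0 then [true] else [true, false])
  else (if σ 1 = 1 then [true, false, true] else [false, true])

/-- value of a word -/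
def ev {M : Type*} [Monoid M] (x w : M) (l : List Bool) : M := (l.map fun b => if b then x else w).prod

theorem cases_perm : ∀ σ : Equiv.Perm (Fin 3), σ = 1 ∨ σ = sX ∨ σ = sW ∨ σ = sX * sW ∨ σ = sW * sX ∨
    σ = sX * sW * sX := by decide

theorem word_one : word 1 = [] := by decide
theorem word_X : word sX = [true] := by decide
theorem word_W : word sW = [false] := by decide
theorem word_XW : word (sX * sW) = [true, false] := by decide
theorem word_WX : word (sW * sX) = [false, true] := by decide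
theorem word_XWX : word (sX * sW * sX) = [true, false, true] := by decide

theorem ev_mul_X {x w : G} (hx : x * x = 1) (hxw : x * w * x = w * x * w)
    (σ : Equiv.Perm (Fin 3)) : ev x w (word (σ * sX)) = ev x w (word σ) * x := by
  have e1 : word (1 * sX) = [true] := by decide
  have e2 : word (sX * sX) = [] := by decide
  have e3 : word (sW * sX) = [false, true] := by decide
  have e4 : word (sX * sW * sX) = [true, false, true] := by decide
  have e5 : word (sW * sX * sX) = [false] := by decide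
  have e6 : word (sX * sW * sX * sX) = [true, false] := by decide
  rcases cases_perm σ with rfl | rfl | rfl | rfl | rfl | rfl
  · rw [e1, word_one]; simp [ev]
  · rw [e2, word_X]; simp [ev, hx]
  · rw [e3, word_W]; simp [ev]
  · rw [e4, word_XW]; simp [ev, mul_assoc]
  · rw [e5, word_WX]; simp [ev, mul_assoc, hx]
  · rw [e6, word_XWX]; simp [ev, mul_assoc, hx]

theorem ev_mul_W {x w : G} (hw : w * w = 1) (hxw : x * w * x = w * x * w)
    (σ : Equiv.Perm (Fin 3)) : ev x w (word (σ * sW)) = ev x w (word σ) * w := by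
  have e1 : word (1 * sW) = [false] := by decide
  have e2 : word (sX * sW) = [true, false] := by decide
  have e3 : word (sW * sW) = [] := by decide
  have e4 : word (sX * sW * sW) = [true] := by decide
  have e5 : word (sW * sX * sW) = [true, false, true] := by decide
  have e6 : word (sX * sW * sX * sW) = [false, true] := by decide
  rcases cases_perm σ with rfl | rfl | rfl | rfl | rfl | rfl
  · rw [e1, word_one]; simp [ev]
  · rw [e2, word_X]; simp [ev]
  · rw [e3, word_W]; simp [ev, hw]
  · rw [e4, word_XW]; simp [ev, mul_assoc, hw]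
  · rw [e5, word_WX]
    simp only [ev, List.map_cons, List.map_nil, List.prod_cons, List.prod_nil, if_true, mul_one,
      Bool.false_eq_true, if_false]
    rw [← mul_assoc, hxw]
  · rw [e6, word_XWX]
    simp only [ev, List.map_cons, List.map_nil, List.prod_cons, List.prod_nil, if_true, mul_one,
      Bool.false_eq_true, if_false]
    rw [← mul_assoc x w x, hxw, mul_assoc, mul_assoc, hw, mul_one]

/-- the homomorphism `S₃ → G` of two elements with the Coxeter relations -/
def kap {x w : G} (hx : x * x = 1) (hw : w * w = 1) (hxw : x * w * x = w * x * w) :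
    Equiv.Perm (Fin 3) →* G where
  toFun σ := ev x w (word σ)
  map_one' := by rw [word_one]; rfl
  map_mul' σ τ := by
    have hX := fun σ => ev_mul_X (x := x) (w := w) hx hxw σ
    have hW := fun σ => ev_mul_W (x := x) (w := w) hw hxw σ
    rcases cases_perm τ with rfl | rfl | rfl | rfl | rfl | rfl
    · rw [mul_one, word_one]; simp [ev]
    · rw [hX, word_X]; simp [ev]
    · rw [hW, word_W]; simp [ev]
    · rw [← mul_assoc, hW, hX, word_XW]; simp [ev, mul_assoc]
    · rw [← mul_assoc, hX, hW, word_WX]; simp [ev, mul_assoc]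
    · rw [← mul_assoc, ← mul_assoc, hX, hW, hX, word_XWX]; simp [ev, mul_assoc]

theorem kap_apply {x w : G} (hx : x * x = 1) (hw : w * w = 1) (hxw : x * w * x = w * x * w)
    (σ : Equiv.Perm (Fin 3)) : kap hx hw hxw σ = ev x w (word σ) := rfl

theorem ev_comm {x w g : G} (h1 : g * x = x * g) (h2 : g * w = w * g) (l : List Bool) :
    g * ev x w l = ev x w l * g := by
  induction l with
  | nil => simp [ev]
  | cons b l ih =>
    have h3 : g * (if b then x else w) = (if b then x else w) * g := by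
      cases b
      · exact h2
      · exact h1
    show g * ((if b then x else w) * ev x w l) = (if b then x else w) * ev x w l * g
    rw [← mul_assoc, h3, mul_assoc, ih, mul_assoc]

theorem ev_conj {x w g x' w' : G} (h1 : g * x * g⁻¹ = x') (h2 : g * w * g⁻¹ = w') (l : List Bool) :
    g * ev x w l * g⁻¹ = ev x' w' l := by
  induction l with
  | nil => simp [ev]
  | cons b l ih =>
    have h3 : g * (if b then x else w) * g⁻¹ = (if b then x' else w') := by
      cases b
      · exact h2
      · exact h1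
    show g * ((if b then x else w) * ev x w l) * g⁻¹ = (if b then x' else w') * ev x' w' l
    rw [← h3, ← ih]; group

end Cfsg.Agent.TypeO8Plus.FuBase
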