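import Cfsg.Agent.TypeO8Plus.FuKill

/-!
# `Ω₈⁺(2)`: involutions of `C_G(z)` up to conjugation (helper416)

(FU2) canonical form modulo `Q`, (FU3) involutions of `C₀ - Q`.
-/

set_option autoImplicit false

namespace Cfsg.Agent.TypeO8Plus.FuInv

open Cfsg.Agent.Co2Type.Quad Cfsg.Agent.LargeExtra.Base Cfsg.Agent.LargeExtra.Nine
open Cfsg.Agent.LargeExtra.KillNine.Codes Cfsg.Agent.TypeO8Plus Cfsg.Agent.TypeO8Plus.Code
open Cfsg.Agent.TypeO8Plus.FuBase Cfsg.Agent.TypeO8Plus.FuKappa Cfsg.Agent.LargeExtra.KillNine.Pts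
open Cfsg.Agent.TypeO8Plus.FuKill

variable {G : Type*} [Group G] {Q A : Subgroup G} {z a : G}

/-! ### checks -/

theorem wf_mat : ∀ a b c : Equiv.Perm (Fin 3), Wf (mat ![a, b, c]) := by decide +kernel

theorem inv_conj : ∀ σ : Equiv.Perm (Fin 3), σ * σ = 1 →
    ∃ g : Equiv.Perm (Fin 3), g * σ * g⁻¹ = 1 ∨ g * σ * g⁻¹ = sX := by decide

theorem sq_cases : ∀ π : Equiv.Perm (Fin 3), π * π = 1 → π = 1 ∨ ∃ k, π = tr k := by decide

theorem kk1 : ∀ k : Fin 3, k + 1 ≠ k := by decide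
theorem kk2 : ∀ k : Fin 3, k + 2 ≠ k := by decide
theorem k12 : ∀ k : Fin 3, k + 2 ≠ k + 1 := by decide
theorem kcases : ∀ k i : Fin 3, i = k ∨ i = k + 1 ∨ i = k + 2 := by decide

/-- `C_V(L) = [V, L]` -/
def Fr (L : List ℕ) : Prop := ∀ n < 256, ap L n = n → ∃ m < 256, m ^^^ ap L m = n

instance (L : List ℕ) : Decidable (Fr L) := by unfold Fr; infer_instance

theorem fr_mat : ∀ a ∈ [1, sX], ∀ b ∈ [1, sX], ∀ c ∈ [1, sX], ¬ (a = 1 ∧ b = 1 ∧ c = 1) →
    Fr (mat ![a, b, c]) := by decide +kernel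

theorem fr_tr : ∀ k : Fin 3, Fr (mulL (mP (tr k)) (mX k)) := by decide +kernel

theorem wf_trX : ∀ k : Fin 3, Wf (mulL (mP (tr k)) (mX k)) := by decide +kernel

section

variable {p : Pair Q z A a} {φ : Coord p.lz} {E : El G}

theorem wf_mat' (f : Fin 3 → Equiv.Perm (Fin 3)) : Wf (mat f) := by
  rw [vec3 f]; exact wf_mat _ _ _

theorem ka_mem_Q (F : Frame p φ E) (hc : φ.e p.va = vec 1) {f : Fin 3 → Equiv.Perm (Fin 3)}
    (h : ka F f ∈ Q) : f = 1 := by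
  have h1 := Mt.unique (wf_mat' f) wf_id (mt_ka F hc f) (Mt.of_mem h)
  rw [vec3 f] at h1
  obtain ⟨h2, h3, h4⟩ := mat_id _ _ _ h1
  rw [vec3 f, h2, h3, h4]
  decide

theorem Mt.q_mul {h : Large Q z} {φ : Coord h} {q c : G} {L : List ℕ} (hq : q ∈ Q) (hc : Mt φ c L) :
    Mt φ (q * c) L := by
  obtain ⟨h1, h2⟩ := hc
  have h3 : q ∈ Subgroup.centralizer ({z} : Set G) :=
    Subgroup.mem_centralizer_singleton_iff.2 (h.comm_z q hq)
  refine ⟨mul_mem h3 h1, ?_⟩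
  have e : (⟨q * c, mul_mem h3 h1⟩ : Subgroup.centralizer ({z} : Set G)) = ⟨q, h3⟩ * ⟨c, h1⟩ := rfl
  rw [e, map_mul, h.act_mem ⟨q, h3⟩ hq, one_mul]
  exact h2

/-- `C₀` meets the coordinate permutations trivially modulo `Q` -/
theorem perm_of_mem (F : Frame p φ E) (hc : φ.e p.va = vec 1) {π : Equiv.Perm (Fin 3)} {t : G}
    (ht : IsPerm E π t) (h : t ∈ C0 Q E) : π = 1 := by
  obtain ⟨q, hq, f, rfl⟩ := (mem_C0 F hc).1 h
  have h1 := Mt.unique (wf_mat' f) (wf_mP π) (Mt.q_mul hq (mt_ka F hc f)) (mt_perm F hc ht)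
  rw [vec3 f] at h1
  exact mat_perm _ _ _ _ h1

theorem pmul {π ρ : Equiv.Perm (Fin 3)} {t u : G} (ht : IsPerm E π t) (hu : IsPerm E ρ u) :
    IsPerm E (π * ρ) (t * u) where
  z := by
    calc t * u * E.z * (t * u)⁻¹ = t * (u * E.z * u⁻¹) * t⁻¹ := by group
      _ = _ := by rw [hu.z, ht.z]
  a := by
    calc t * u * E.a * (t * u)⁻¹ = t * (u * E.a * u⁻¹) * t⁻¹ := by group
      _ = _ := by rw [hu.a, ht.a]
  e := by
    calc t * u * E.e * (t * u)⁻¹ = t * (u * E.e * u⁻¹) * t⁻¹ := by group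
      _ = _ := by rw [hu.e, ht.e]
  s := by
    calc t * u * E.s * (t * u)⁻¹ = t * (u * E.s * u⁻¹) * t⁻¹ := by group
      _ = _ := by rw [hu.s, ht.s]
  h i := by
    calc t * u * E.h i * (t * u)⁻¹ = t * (u * E.h i * u⁻¹) * t⁻¹ := by group
      _ = _ := by rw [hu.h, ht.h]; rfl
  p i := by
    calc t * u * E.p i * (t * u)⁻¹ = t * (u * E.p i * u⁻¹) * t⁻¹ := by group
      _ = _ := by rw [hu.p, ht.p]; rfl
  x i := by
    calc t * u * E.x i * (t * u)⁻¹ = t * (u * E.x i * u⁻¹) * t⁻¹ := by group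
      _ = _ := by rw [hu.x, ht.x]; rfl
  w i := by
    calc t * u * E.w i * (t * u)⁻¹ = t * (u * E.w i * u⁻¹) * t⁻¹ := by group
      _ = _ := by rw [hu.w, ht.w]; rfl

theorem mP_one : mP 1 = idL := by decide +kernel

theorem perp_gens : ∀ n < 256, (∀ k : Fin 8, bs (vec n) (vec (2 ^ (k : ℕ))) = 0) → n = 0 := by
  decide +kernel

/-- an element acting as the trivial permutation is trivial -/
theorem perm_one [Finite Q] (F : Frame p φ E) (hc : φ.e p.va = vec 1) {t : G} (ht : IsPerm E 1 t) : t = 1 := by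
  have h1 : Mt φ t idL := mP_one ▸ mt_perm F hc ht
  have htQ : t ∈ Q := h1.mem
  obtain ⟨n, hn, htn⟩ := exists_cd_of_mem φ htQ
  have h2 : n = 0 := by
    apply perp_gens n hn
    intro k
    apply htn.b_of_comm (cd_gen F hc k)
    apply comm_of_conj
    fin_cases k
    · exact ht.a
    · exact ht.h 0
    · exact ht.h 1
    · exact ht.h 2
    · exact ht.e
    · exact ht.p 0
    · exact ht.p 1
    · exact ht.p 2
  rw [h2] at htn
  rcases htn.eq_or_zero with h3 | h3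
  · exact h3
  · exfalso
    have h4 := ht.s
    rw [h3, ← F.z] at h4
    have h5 := F.S_rel.z
    have h6 : E.s * E.z = E.z * E.s := (mul_inv_eq_iff_eq_mul.1 h4).symm
    rw [h6, mul_inv_cancel_right, F.z, F.a] at h5
    exact p.ne h5.symm

theorem perm_conj_kp (F : Frame p φ E) {π : Equiv.Perm (Fin 3)} {t : G} (ht : IsPerm E π t)
    (i : Fin 3) (σ : Equiv.Perm (Fin 3)) : t * kp F i σ * t⁻¹ = kp F (π i) σ :=
  ev_conj (ht.x i) (ht.w i) _

theorem perm_conj_ka (F : Frame p φ E) {π : Equiv.Perm (Fin 3)} {t : G} (ht : IsPerm E π t)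
    (f : Fin 3 → Equiv.Perm (Fin 3)) :
    t * ka F f * t⁻¹ = kp F (π 0) (f 0) * kp F (π 1) (f 1) * kp F (π 2) (f 2) := by
  rw [← perm_conj_kp F ht, ← perm_conj_kp F ht, ← perm_conj_kp F ht, ka_apply]
  group

theorem perm_conj_C0 (F : Frame p φ E) (hc : φ.e p.va = vec 1) {π : Equiv.Perm (Fin 3)} {t : G}
    (ht : IsPerm E π t) {g : G} (hg : g ∈ C0 Q E) : t * g * t⁻¹ ∈ C0 Q E := by
  obtain ⟨q, hq, f, rfl⟩ := (mem_C0 F hc).1 hg
  have h1 : t * q * t⁻¹ ∈ Q := p.lz.conj_mem t (mt_perm F hc ht).comm q hq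
  have h2 : t * ka F f * t⁻¹ ∈ C0 Q E := by
    rw [perm_conj_ka F ht, ← ka_single, ← ka_single, ← ka_single]
    exact Subgroup.mul_mem _ (Subgroup.mul_mem _ (ka_mem F _) (ka_mem F _)) (ka_mem F _)
  have e : t * (q * ka F f) * t⁻¹ = t * q * t⁻¹ * (t * ka F f * t⁻¹) := by group
  rw [e]
  exact Subgroup.mul_mem _ (Q_le_C0 Q E h1) h2

theorem tr_conj_ka (F : Frame p φ E) {k : Fin 3} {t : G} (ht : IsPerm E (tr k) t)
    (f : Fin 3 → Equiv.Perm (Fin 3)) : t * ka F f * t⁻¹ = ka F (fun i => f (tr k i)) := by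
  rw [perm_conj_ka F ht, ka_apply]
  rcases cases3 k with rfl | rfl | rfl
  · have e0 : tr 0 0 = 0 := by decide
    have e1 : tr 0 1 = 2 := by decide
    have e2 : tr 0 2 = 1 := by decide
    rw [e0, e1, e2, mul_assoc, mul_assoc, kp_comm F (i := 2) (j := 1) (by decide)]
  · have e0 : tr 1 0 = 2 := by decide
    have e1 : tr 1 1 = 1 := by decide
    have e2 : tr 1 2 = 0 := by decide
    rw [e0, e1, e2, kp_comm F (i := 2) (j := 1) (by decide), mul_assoc,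
      kp_comm F (i := 2) (j := 0) (by decide), ← mul_assoc, kp_comm F (i := 1) (j := 0) (by decide)]
  · have e0 : tr 2 0 = 1 := by decide
    have e1 : tr 2 1 = 0 := by decide
    have e2 : tr 2 2 = 2 := by decide
    rw [e0, e1, e2, kp_comm F (i := 1) (j := 0) (by decide)]

/-- (FU2) -/
theorem fu2 [Finite Q] (F : Frame p φ E) (hc : φ.e p.va = vec 1) {t n : G} (htt : t * t = 1)
    (hn : n ∈ C0 Q E) {π : Equiv.Perm (Fin 3)} (hπ : IsPerm E π (n * t)) :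
    (∃ g, ∃ q ∈ Q, ∃ f : Fin 3 → Equiv.Perm (Fin 3), (∀ i, f i = 1 ∨ f i = sX) ∧
      ka F g * t * (ka F g)⁻¹ = q * ka F f) ∨
    (∃ g, ∃ q ∈ Q, ∃ (k : Fin 3) (ρ : Equiv.Perm (Fin 3)) (τ : G), (ρ = 1 ∨ ρ = sX) ∧ IsPerm E (tr k) τ ∧
      τ * τ = 1 ∧ ka F g * t * (ka F g)⁻¹ = q * kp F k ρ * τ) := by
  set τ := n * t with hτ
  obtain ⟨q0, hq0, f0, hf0⟩ := (mem_C0 F hc).1 (Subgroup.inv_mem _ hn)
  have ht : t = q0 * ka F f0 * τ := by rw [← hf0, hτ]; group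
  have hu : q0 * ka F f0 ∈ C0 Q E := hf0 ▸ Subgroup.inv_mem _ hn
  have h1 : τ * τ = (q0 * ka F f0 * (τ * (q0 * ka F f0) * τ⁻¹))⁻¹ := by
    rw [ht] at htt
    have e : q0 * ka F f0 * τ * (q0 * ka F f0 * τ) =
        q0 * ka F f0 * (τ * (q0 * ka F f0) * τ⁻¹) * (τ * τ) := by group
    rw [e] at htt
    exact eq_inv_of_mul_eq_one_right htt
  have h2 : τ * τ ∈ C0 Q E := by
    rw [h1]
    exact Subgroup.inv_mem _ (Subgroup.mul_mem _ hu (perm_conj_C0 F hc hπ hu))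
  have h3 : π * π = 1 := perm_of_mem F hc (pmul hπ hπ) h2
  have h4 : τ * τ = 1 := by
    have := pmul hπ hπ
    rw [h3] at this
    exact perm_one F hc this
  rw [h4] at h1
  have h5 : q0 * ka F f0 * (τ * (q0 * ka F f0) * τ⁻¹) = 1 := inv_eq_one.1 h1.symm
  have h6 : ka F f0 * (τ * ka F f0 * τ⁻¹) ∈ Q := by
    have hq1 : τ * q0 * τ⁻¹ ∈ Q := p.lz.conj_mem τ (mt_perm F hc hπ).comm q0 hq0
    have hq2 := ka_norm F hc f0 hq1
    have e : ka F f0 * (τ * ka F f0 * τ⁻¹) =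
        (ka F f0 * (τ * q0 * τ⁻¹) * (ka F f0)⁻¹)⁻¹ * q0⁻¹ *
          (q0 * ka F f0 * (τ * (q0 * ka F f0) * τ⁻¹)) := by group
    rw [e, h5, mul_one]
    exact Q.mul_mem (Q.inv_mem hq2) (Q.inv_mem hq0)
  rcases sq_cases π h3 with rfl | ⟨k, rfl⟩
  · left
    have hτ1 : τ = 1 := perm_one F hc hπ
    rw [hτ1, one_mul, inv_one, mul_one, ← map_mul] at h6
    have h7 := ka_mem_Q F hc h6
    have h8 : ∀ i, ∃ g : Equiv.Perm (Fin 3), g * f0 i * g⁻¹ = 1 ∨ g * f0 i * g⁻¹ = sX := fun i =>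
      inv_conj _ (congrFun h7 i)
    choose g hg using h8
    refine ⟨g, ka F g * q0 * (ka F g)⁻¹, ka_norm F hc g hq0, g * f0 * g⁻¹, hg, ?_⟩
    rw [ht, hτ1, map_mul, map_mul, map_inv]
    group
  · right
    rw [tr_conj_ka F hπ, ← map_mul] at h6
    have h7 := ka_mem_Q F hc h6
    have hk : f0 k * f0 k = 1 := by
      have := congrFun h7 k
      simp only [Pi.mul_apply, Pi.one_apply, tr_k] at this
      exact this
    have hk1 : f0 (k + 1) * f0 (k + 2) = 1 := by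
      have := congrFun h7 (k + 1)
      simp only [Pi.mul_apply, Pi.one_apply, tr_k1] at this
      exact this
    obtain ⟨gk, hgk⟩ := inv_conj _ hk
    have hkk1 : k + 1 ≠ k := kk1 k
    have hkk2 : k + 2 ≠ k := kk2 k
    have hk12 : k + 2 ≠ k + 1 := k12 k
    let g : Fin 3 → Equiv.Perm (Fin 3) := fun i => if i = k then gk else if i = k + 1 then 1 else f0 (k + 1)
    have g0 : g k = gk := if_pos rfl
    have g1 : g (k + 1) = 1 := by
      show (if k + 1 = k then _ else _) = _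
      rw [if_neg hkk1, if_pos rfl]
    have g2 : g (k + 2) = f0 (k + 1) := by
      show (if k + 2 = k then _ else _) = _
      rw [if_neg hkk2, if_neg hk12]
    have hF : g * f0 * (fun i => (g (tr k i))⁻¹) = Pi.mulSingle k (gk * f0 k * gk⁻¹) := by
      funext i
      have hi : i = k ∨ i = k + 1 ∨ i = k + 2 := kcases k i
      rcases hi with hi | hi | hi
      · rw [hi, Pi.mulSingle_eq_same]
        simp only [Pi.mul_apply, tr_k, g0]
      · rw [hi, Pi.mulSingle_eq_of_ne hkk1]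
        simp only [Pi.mul_apply, tr_k1, g1, g2, one_mul, mul_inv_cancel]
      · rw [hi, Pi.mulSingle_eq_of_ne hkk2]
        simp only [Pi.mul_apply, tr_k2, g1, g2, inv_one, mul_one]
        exact hk1
    refine ⟨g, ka F g * q0 * (ka F g)⁻¹, ka_norm F hc g hq0, k, gk * f0 k * gk⁻¹, τ, hgk, hπ, h4, ?_⟩
    rw [← ka_single, ← hF, map_mul, map_mul]
    have e1 : ka F (fun i => (g (tr k i))⁻¹) = τ * (ka F g)⁻¹ * τ⁻¹ := by
      rw [← map_inv, tr_conj_ka F hπ]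
      rfl
    rw [e1]
    nth_rewrite 1 [ht]
    group

/-- `q T` is `Q`-conjugate to `T` or `z T` when the code of `q` is in `[V, T]` -/
theorem conj_of_code {h : Large Q z} {φ : Coord h} {T : G} {L : List ℕ} (hT : Mt φ T L)
    {q : G} {n m : ℕ} (hqn : Cd φ q n) (hm : m ^^^ ap L m = n) :
    ∃ r ∈ Q, r * (q * T) * r⁻¹ = T ∨ r * (q * T) * r⁻¹ = z * T := by
  obtain ⟨r, hr⟩ := exists_cd φ m
  have h4 : Cd φ (r * (T * r⁻¹ * T⁻¹)) n := by
    have := hr.mul (hT.cd hr.inv)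
    rwa [hm] at this
  have hTz := hT.comm
  have hrz := h.comm_z r hr.mem
  refine ⟨r⁻¹, Q.inv_mem hr.mem, ?_⟩
  rcases hqn.eq_or h4 with h5 | h5
  · left
    rw [h5]; group
  · right
    rw [h5]
    have hrz' : r⁻¹ * z = z * r⁻¹ := by
      have := h.comm_z _ (Q.inv_mem hr.mem)
      exact this
    calc r⁻¹ * (r * (T * r⁻¹ * T⁻¹) * z * T) * r⁻¹⁻¹ = T * r⁻¹ * (T⁻¹ * (z * T)) * r := by group
      _ = T * r⁻¹ * (T⁻¹ * (T * z)) * r := by rw [hTz]
      _ = T * (r⁻¹ * z) * r := by group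
      _ = T * (z * r⁻¹) * r := by rw [hrz']
      _ = T * z := by group
      _ = z * T := hTz

/-- the code of `q` is fixed when `q T` is an involution -/
theorem fix_of_sq {h : Large Q z} {φ : Coord h} {T : G} {L : List ℕ} (hL : Wf L) (hT : Mt φ T L)
    (hTT : T * T = 1) {q : G} {n : ℕ} (hn : n < 256) (hqn : Cd φ q n) (hqT : q * T * (q * T) = 1) :
    T * q * T⁻¹ = q⁻¹ ∧ ap L n = n := by
  have hTi : T⁻¹ = T := inv_eq_of_mul_eq_one_left hTT
  have h1 : T * q * T⁻¹ = q⁻¹ := by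
    rw [hTi]
    have e : q * T * (q * T) = q * (T * q * T) := by group
    rw [e] at hqT
    exact eq_inv_of_mul_eq_one_right hqT
  have h2 := hT.cd hqn
  rw [h1] at h2
  exact ⟨h1, h2.inj (ap_lt hL.2 n) hn hqn.inv⟩

/-- lemma A: `q T` is `Q`-conjugate to `T` or `z T` when `C_V(T) = [V, T]` -/
theorem conj_of_fr {h : Large Q z} {φ : Coord h} {T : G} {L : List ℕ} (hL : Wf L) (hT : Mt φ T L)
    (hfr : Fr L) (hTT : T * T = 1) {q : G} (hq : q ∈ Q) (hqT : q * T * (q * T) = 1) :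
    ∃ r ∈ Q, r * (q * T) * r⁻¹ = T ∨ r * (q * T) * r⁻¹ = z * T := by
  obtain ⟨n, hn, hqn⟩ := exists_cd_of_mem φ hq
  obtain ⟨m, -, hm⟩ := hfr n hn (fix_of_sq hL hT hTT hn hqn hqT).2
  exact conj_of_code hT hqn hm

/-- `κ(f)` for `f` with values in `{1, sX}` is an involution -/
theorem ka_sq (F : Frame p φ E) {f : Fin 3 → Equiv.Perm (Fin 3)} (hf : ∀ i, f i = 1 ∨ f i = sX) :
    ka F f * ka F f = 1 := by
  rw [← map_mul]
  have : f * f = 1 := by
    funext i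
    rcases hf i with h | h <;> rw [Pi.mul_apply, h]
    · rfl
    · exact Equiv.swap_mul_self _ _
  rw [this, map_one]

/-- (FU3), first half -/
theorem fu3 [Finite Q] (F : Frame p φ E) (hc : φ.e p.va = vec 1) {t : G} (htt : t * t = 1)
    (ht : t ∈ C0 Q E) (htQ : t ∉ Q) :
    ∃ c ∈ C0 Q E, ∃ f : Fin 3 → Equiv.Perm (Fin 3), (∀ i, f i = 1 ∨ f i = sX) ∧ f ≠ 1 ∧
      (c * t * c⁻¹ = ka F f ∨ c * t * c⁻¹ = z * ka F f) := by
  have hone : IsPerm E 1 (1 : G) := ⟨by group, by group, by group, by group, fun i => by simp, fun i => by simp,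
    fun i => by simp, fun i => by simp⟩
  have h1 : IsPerm E 1 (t⁻¹ * t) := by rw [inv_mul_cancel]; exact hone
  have key : ∃ g, ∃ q ∈ Q, ∃ f : Fin 3 → Equiv.Perm (Fin 3), (∀ i, f i = 1 ∨ f i = sX) ∧
      ka F g * t * (ka F g)⁻¹ = q * ka F f := by
    rcases fu2 F hc htt (Subgroup.inv_mem _ ht) h1 with h2 | ⟨g, q, hq, k, ρ, τ, -, hτ, -, h2⟩
    · exact h2
    · exfalso
      have h3 : τ ∈ C0 Q E := by
        have : τ = (q * kp F k ρ)⁻¹ * (ka F g * t * (ka F g)⁻¹) := by rw [h2]; group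
        rw [this]
        refine Subgroup.mul_mem _ (Subgroup.inv_mem _ (Subgroup.mul_mem _ (Q_le_C0 Q E hq) ?_))
          (Subgroup.mul_mem _ (Subgroup.mul_mem _ (ka_mem F g) ht) (Subgroup.inv_mem _ (ka_mem F g)))
        rw [← ka_single]; exact ka_mem F _
      have h4 := perm_of_mem F hc hτ h3
      have : ∀ k, tr k ≠ 1 := by decide
      exact this k h4
  obtain ⟨g, q, hq, f, hf, h2⟩ := key
  have hf1 : f ≠ 1 := by
    rintro rfl
    apply htQ
    rw [map_one, mul_one] at h2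
    have h3 : t = (ka F g)⁻¹ * q * ((ka F g)⁻¹)⁻¹ := by rw [← h2]; group
    rw [h3, ← map_inv]
    exact ka_norm F hc _ hq
  have hfr : Fr (mat f) := by
    rw [vec3 f]
    apply fr_mat
    · rcases hf 0 with h | h <;> rw [h] <;> simp
    · rcases hf 1 with h | h <;> rw [h] <;> simp
    · rcases hf 2 with h | h <;> rw [h] <;> simp
    · rintro ⟨h3, h4, h5⟩
      apply hf1
      rw [vec3 f, h3, h4, h5]
      decide
  have hqT : q * ka F f * (q * ka F f) = 1 := by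
    rw [← h2]
    have e : ka F g * t * (ka F g)⁻¹ * (ka F g * t * (ka F g)⁻¹) = ka F g * (t * t) * (ka F g)⁻¹ := by group
    rw [e, htt]; group
  obtain ⟨r, hr, h3⟩ := conj_of_fr (wf_mat' f) (mt_ka F hc f) hfr (ka_sq F hf) hq hqT
  refine ⟨r * ka F g, Subgroup.mul_mem _ (Q_le_C0 Q E hr) (ka_mem F g), f, hf, hf1, ?_⟩
  have e : r * ka F g * t * (r * ka F g)⁻¹ = r * (q * ka F f) * r⁻¹ := by
    rw [← h2]; group
  rw [e]
  exact h3

end

end Cfsg.Agent.TypeO8Plus.FuInv
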