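import Cfsg.Agent.TypeO8Plus.FuKappa
import Cfsg.Agent.LargeExtra.KillNine.Pts

/-!
# `Ω₈⁺(2)`: an outer involution `τ`, `z τ` (transposition type) is not conjugate to `z` (helper416)
-/

set_option autoImplicit false

namespace Cfsg.Agent.TypeO8Plus.FuKill

open Cfsg.Agent.Co2Type.Quad Cfsg.Agent.LargeExtra.Base Cfsg.Agent.LargeExtra.Nine
open Cfsg.Agent.LargeExtra.Local
open Cfsg.Agent.LargeExtra.KillNine.Codes Cfsg.Agent.TypeO8Plus Cfsg.Agent.TypeO8Plus.Code
open Cfsg.Agent.TypeO8Plus.FuBase Cfsg.Agent.TypeO8Plus.FuKappa Cfsg.Agent.LargeExtra.KillNine.Pts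

variable {G : Type*} [Group G] {Q A : Subgroup G} {z a : G}

/-- the transposition fixing `k` -/
def tr (k : Fin 3) : Equiv.Perm (Fin 3) := Equiv.swap (k + 1) (k + 2)

/-- codes spanning the fixed space of `tr k` -/
def gl (k : Fin 3) : List ℕ :=
  [1, 16, 2 ^ (k.1 + 1), 2 ^ (k.1 + 5), 2 ^ ((k + 1).1 + 1) ^^^ 2 ^ ((k + 2).1 + 1),
    2 ^ ((k + 1).1 + 5) ^^^ 2 ^ ((k + 2).1 + 5)]

/-- the commutator space `[V, tr k]` -/
def wl (k : Fin 3) : List ℕ :=
  [0, 2 ^ ((k + 1).1 + 1) ^^^ 2 ^ ((k + 2).1 + 1), 2 ^ ((k + 1).1 + 5) ^^^ 2 ^ ((k + 2).1 + 5),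
    2 ^ ((k + 1).1 + 1) ^^^ 2 ^ ((k + 2).1 + 1) ^^^ 2 ^ ((k + 1).1 + 5) ^^^ 2 ^ ((k + 2).1 + 5)]

theorem wf_mP : ∀ π : Equiv.Perm (Fin 3), Wf (mP π) := by decide +kernel

theorem mP_ne (k : Fin 3) : mP (tr k) ≠ idL := by revert k; decide +kernel

theorem span_gl : ∀ k : Fin 3, ∀ n < 256, ap (mP (tr k)) n = n →
    ∃ x0 ∈ [0, 1], ∃ x1 ∈ [0, 16], ∃ x2 ∈ [0, (gl k).getD 2 0], ∃ x3 ∈ [0, (gl k).getD 3 0],
      ∃ x4 ∈ [0, (gl k).getD 4 0], ∃ x5 ∈ [0, (gl k).getD 5 0],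
        x0 ^^^ x1 ^^^ x2 ^^^ x3 ^^^ x4 ^^^ x5 = n := by
  decide +kernel

theorem card_fix : ∀ k : Fin 3, Fintype.card {n : Fin 256 // ap (mP (tr k)) n = n} = 64 := by
  decide +kernel

theorem perp_gl : ∀ k : Fin 3, ∀ n < 256, (∀ m ∈ gl k, bs (vec n) (vec m) = 0) → n ∈ wl k := by
  decide +kernel

/-- `n` is the code of an element commuting with `τ` -/
def Pc {h : Large Q z} (φ : Coord h) (τ : G) (n : ℕ) : Prop := ∃ x, Cd φ x n ∧ τ * x = x * τ

theorem Pc.xor {h : Large Q z} {φ : Coord h} {τ : G} {m n : ℕ} (hm : Pc φ τ m) (hn : Pc φ τ n) :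
    Pc φ τ (m ^^^ n) := by
  obtain ⟨x, h1, h2⟩ := hm
  obtain ⟨y, h3, h4⟩ := hn
  exact ⟨x * y, h1.mul h3, by rw [← mul_assoc, h2, mul_assoc, h4, mul_assoc]⟩

theorem Pc.zero {h : Large Q z} {φ : Coord h} (τ : G) : Pc φ τ 0 :=
  ⟨1, cd_one, by rw [mul_one, one_mul]⟩

section

variable {p : Pair Q z A a} {φ : Coord p.lz} {E : El G}

theorem comm_of_conj {τ x : G} (h : τ * x * τ⁻¹ = x) : τ * x = x * τ := mul_inv_eq_iff_eq_mul.1 h

theorem tr_k (k : Fin 3) : tr k k = k := by revert k; decide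
theorem tr_k1 (k : Fin 3) : tr k (k + 1) = k + 2 := by revert k; decide
theorem tr_k2 (k : Fin 3) : tr k (k + 2) = k + 1 := by revert k; decide

theorem pc_gl (F : Frame p φ E) (hc : φ.e p.va = vec 1) {k : Fin 3} {τ : G} (hτ : IsPerm E (tr k) τ) :
    ∀ n ∈ gl k, Pc φ τ n := by
  have h1 : ∀ i, τ * E.h i = E.h (tr k i) * τ := fun i => mul_inv_eq_iff_eq_mul.1 (hτ.h i)
  have h2 : ∀ i, τ * E.p i = E.p (tr k i) * τ := fun i => mul_inv_eq_iff_eq_mul.1 (hτ.p i)
  intro n hn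
  simp only [gl, List.mem_cons, List.not_mem_nil, or_false] at hn
  rcases hn with rfl | rfl | rfl | rfl | rfl | rfl
  · exact ⟨E.a, cd_a F hc, comm_of_conj hτ.a⟩
  · exact ⟨E.e, cd_e F, comm_of_conj hτ.e⟩
  · exact ⟨E.h k, cd_h F k, by rw [h1, tr_k]⟩
  · exact ⟨E.p k, cd_p F k, by rw [h2, tr_k]⟩
  · refine ⟨E.h (k + 1) * E.h (k + 2), (cd_h F _).mul (cd_h F _), ?_⟩
    rw [← mul_assoc, h1, mul_assoc, h1, tr_k1, tr_k2, ← mul_assoc, F.Q_rel.hh']
  · refine ⟨E.p (k + 1) * E.p (k + 2), (cd_p F _).mul (cd_p F _), ?_⟩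
    rw [← mul_assoc, h2, mul_assoc, h2, tr_k1, tr_k2, ← mul_assoc, F.Q_rel.pp']

theorem pc_of_fix (F : Frame p φ E) (hc : φ.e p.va = vec 1) {k : Fin 3} {τ : G}
    (hτ : IsPerm E (tr k) τ) {n : ℕ} (hn : n < 256) (hfix : ap (mP (tr k)) n = n) : Pc φ τ n := by
  obtain ⟨x0, h0, x1, h1, x2, h2, x3, h3, x4, h4, x5, h5, rfl⟩ := span_gl k n hn hfix
  have key := pc_gl F hc hτ
  have aux : ∀ y ∈ gl k, ∀ x ∈ [0, y], Pc φ τ x := by
    intro y hy x hx
    simp only [List.mem_cons, List.not_mem_nil, or_false] at hx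
    rcases hx with rfl | rfl
    · exact Pc.zero τ
    · exact key _ hy
  have mem : ∀ i < 6, (gl k).getD i 0 ∈ gl k := by
    intro i hi
    have hl : i < (gl k).length := hi
    rw [List.getD_eq_getElem _ _ hl]
    exact List.getElem_mem hl
  refine (((((?_ : Pc φ τ x0).xor ?_).xor ?_).xor ?_).xor ?_).xor ?_
  · exact aux _ (mem 0 (by norm_num)) _ h0
  · exact aux _ (mem 1 (by norm_num)) _ h1
  · exact aux _ (mem 2 (by norm_num)) _ h2
  · exact aux _ (mem 3 (by norm_num)) _ h3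
  · exact aux _ (mem 4 (by norm_num)) _ h4
  · exact aux _ (mem 5 (by norm_num)) _ h5

theorem Mt.unique {h : Large Q z} {φ : Coord h} {c : G} {L M : List ℕ} (hL : Wf L) (hM : Wf M)
    (h1 : Mt φ c L) (h2 : Mt φ c M) : L = M := by
  obtain ⟨h3, h4⟩ := h1
  obtain ⟨h5, h6⟩ := h2
  apply eq_of_lin hL hM
  intro v
  have := (h4 (φ.e.symm v)).symm.trans (h6 (φ.e.symm v))
  rwa [LinearEquiv.apply_symm_apply] at this

theorem perm_notMem (F : Frame p φ E) (hc : φ.e p.va = vec 1) {k : Fin 3} {τ : G}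
    (hτ : IsPerm E (tr k) τ) : τ ∉ Q := fun h1 =>
  mP_ne k (Mt.unique (wf_mP _) wf_id (mt_perm F hc hτ) (Mt.of_mem h1))

theorem kill [Finite G] (F : Frame p φ E) (hc : φ.e p.va = vec 1) (h9 : Nat.card Q = 2 ^ 9)
    (hcard : ¬ 2 ^ 14 ∣ Nat.card (Subgroup.centralizer ({z} : Set G))) {k : Fin 3} {τ : G}
    (hτ : IsPerm E (tr k) τ) {T : G} (hT : T = τ ∨ T = z * τ) (g : G) (hg : g * z * g⁻¹ = T) : False := by
  classical
  have h := p.lz
  have hτz : τ * z = z * τ := (mt_perm F hc hτ).comm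
  have hτQ : τ ∉ Q := perm_notMem F hc hτ
  have hTQ : T ∉ Q := by
    rcases hT with rfl | rfl
    · exact hτQ
    · intro h1
      apply hτQ
      have := Q.mul_mem (Q.inv_mem h.z_mem) h1
      rwa [inv_mul_cancel_left] at this
  have hTz : T * z = z * T := by
    rcases hT with rfl | rfl
    · exact hτz
    · rw [mul_assoc, hτz]
  -- elements commuting with `τ` and `z` commute with `T`
  have hcT : ∀ x, τ * x = x * τ → x * z = z * x → x * T = T * x := by
    intro x h1 h2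
    rcases hT with rfl | rfl
    · exact h1.symm
    · rw [← mul_assoc, h2, mul_assoc, ← h1, mul_assoc]
  -- the large subgroup of `T`
  have hLT : Large (Q.map (MulAut.conj g).toMonoidHom) T := hg ▸ h.conj g
  set QT := Q.map (MulAut.conj g).toMonoidHom with hQT
  have hzQT : z ∉ QT := by
    rintro ⟨y, hy, hyz⟩
    have hyz' : g * y * g⁻¹ = z := hyz
    have e1 : g⁻¹ * z * g⁻¹⁻¹ = y := by rw [← hyz']; group
    have hne : g⁻¹ * z * g⁻¹⁻¹ ≠ z := by
      intro h1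
      have h2 : T = z := by
        rw [← hg]
        have h3 : z = g * (g⁻¹ * z * g⁻¹⁻¹) * g⁻¹ := by group
        rw [h1] at h3
        exact h3.symm
      exact hTQ (h2 ▸ h.z_mem)
    have h1 := (pair_of_conj h (g := g⁻¹) (by rw [e1]; exact hy) hne).z_mem
    obtain ⟨w, hw, hwz⟩ := h1
    have hwz' : g⁻¹ * w * g⁻¹⁻¹ = z := hwz
    apply hTQ
    rw [← hg, ← hwz']
    have : g * (g⁻¹ * w * g⁻¹⁻¹) * g⁻¹ = w := by group
    rw [this]; exact hw
  -- `R = C_Q(τ)`
  set B := Subgroup.centralizer ({τ} : Set G) with hB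
  have hzB : z ∈ B := Subgroup.mem_centralizer_singleton_iff.2 hτz.symm
  set R := B ⊓ Q with hR
  have hcR : 128 ≤ Nat.card R := by
    rw [hR, card_sub h hzB]
    have : Nat.card {n : Fin 256 // ap (mP (tr k)) n = n} ≤ Nat.card (sub h B) := by
      have : Finite (sub h B) := by
        have : Finite h.V := inferInstance
        infer_instance
      apply Nat.card_le_card_of_injective
        (fun n : {n : Fin 256 // ap (mP (tr k)) n = n} =>
          (⟨φ.e.symm (vec n.1), by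
            obtain ⟨x, hx, hxτ⟩ := pc_of_fix F hc hτ n.1.2 n.2
            obtain ⟨hxQ, hxn⟩ := hx
            exact ⟨⟨x, hxQ⟩, Subgroup.mem_centralizer_singleton_iff.2 hxτ.symm, by
              rw [LinearEquiv.eq_symm_apply]; exact hxn⟩⟩ : sub h B))
      intro m n hmn
      have h1 := congrArg Subtype.val hmn
      have h2 := φ.e.symm.injective h1
      exact Subtype.ext (Fin.ext (vec_inj _ m.1.2 _ n.1.2 h2))
    rw [Nat.card_eq_fintype_card, card_fix] at this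
    omega
  have hRT : R ≤ Subgroup.centralizer ({T} : Set G) := by
    intro x hx
    obtain ⟨hx1, hx2⟩ := Subgroup.mem_inf.1 hx
    exact Subgroup.mem_centralizer_singleton_iff.2
      (hcT x (Subgroup.mem_centralizer_singleton_iff.1 hx1).symm (h.comm_z x hx2))
  have hcard1 := card_img hLT hRT
  have hcard2 := card_img hLT (B := Subgroup.centralizer ({T} : Set G)) le_rfl
  -- `|R ∩ Q_T| ≤ 4`
  have hD : Nat.card ↥(R ⊓ QT) ≤ 4 := by
    have hcode : ∀ d : ↥(R ⊓ QT), ∃ n ∈ wl k, Cd φ (d : G) n := by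
      intro d
      obtain ⟨hd1, hd2⟩ := Subgroup.mem_inf.1 d.2
      have hdQ : (d : G) ∈ Q := (Subgroup.mem_inf.1 hd1).2
      obtain ⟨n, hn, hdn⟩ := exists_cd_of_mem φ hdQ
      refine ⟨n, perp_gl k n hn ?_, hdn⟩
      intro m hm
      obtain ⟨x, hx, hxτ⟩ := pc_gl F hc hτ m hm
      apply hdn.b_of_comm hx
      rcases h.comm d hdQ x hx.mem with h1 | h1
      · exact h1
      · exfalso
        apply hzQT
        have h2 : x * d * x⁻¹ ∈ QT := hLT.conj_mem x (hcT x hxτ (h.comm_z x hx.mem)) _ hd2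
        have h3 : z = (d : G)⁻¹ * (x * d * x⁻¹) := by
          have h4 : (d : G) * x * z = x * d * z * z := by rw [h1]
          rw [mul_assoc (x * (d : G)), h.z_sq, mul_one] at h4
          rw [← h4, mul_assoc (d : G) x, h.comm_z x hx.mem]
          group
        rw [h3]
        exact QT.mul_mem (QT.inv_mem hd2) h2
    choose c hc1 hc2 using hcode
    have hinj : Function.Injective (fun d => (⟨c d, List.mem_toFinset.2 (hc1 d)⟩ :
        {n // n ∈ (wl k).toFinset})) := by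
      intro d d' hdd
      have h1 : c d = c d' := congrArg Subtype.val hdd
      have h2 := hc2 d
      rw [h1] at h2
      rcases h2.eq_or (hc2 d') with h3 | h3
      · exact Subtype.ext h3
      · exfalso
        apply hzQT
        have h4 : z = (d' : G)⁻¹ * d := by rw [h3]; group
        rw [h4]
        exact QT.mul_mem (QT.inv_mem (Subgroup.mem_inf.1 d'.2).2) (Subgroup.mem_inf.1 d.2).2
    have h1 := Nat.card_le_card_of_injective _ hinj
    have h2 : Nat.card {n // n ∈ (wl k).toFinset} = (wl k).toFinset.card := by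
      rw [Nat.card_eq_fintype_card, Fintype.card_coe]
    exact h1.trans (h2.le.trans ((List.toFinset_card_le _).trans (le_of_eq rfl)))
  have hRp : IsPGroup 2 R := (isPGroup h).to_le inf_le_right
  have : Fact (Nat.Prime 2) := ⟨Nat.prime_two⟩
  obtain ⟨m, hm⟩ := IsPGroup.iff_card.1 hRp
  rw [hm] at hcard1 hcR
  obtain ⟨j, -, hj⟩ := (Nat.dvd_prime_pow Nat.prime_two).1 (Dvd.intro _ hcard1)
  have h5 : 5 ≤ j := by
    by_contra hlt
    have h6 : 2 ^ j ≤ 2 ^ 4 := Nat.pow_le_pow_right (by norm_num) (by omega)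
    rw [hj] at hcard1
    have h7 : 2 ^ j * Nat.card ↥(R ⊓ QT) ≤ 2 ^ 4 * 4 := Nat.mul_le_mul h6 hD
    omega
  have h8 : 2 ^ 5 ∣ Nat.card (img hLT (Subgroup.centralizer ({T} : Set G))) := by
    have h9 : img hLT R ≤ img hLT (Subgroup.centralizer ({T} : Set G)) := by
      rintro f ⟨c, hc, rfl⟩
      exact ⟨c, c.2, rfl⟩
    exact (pow_dvd_pow 2 h5).trans (hj ▸ Subgroup.card_dvd_of_le h9)
  have h10 : Nat.card ↥(Subgroup.centralizer ({T} : Set G) ⊓ QT) = 2 ^ 9 := by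
    have h11 : QT ≤ Subgroup.centralizer ({T} : Set G) := fun x hx =>
      Subgroup.mem_centralizer_singleton_iff.2 (hLT.comm_z x hx)
    rw [inf_eq_right.2 h11, hQT, Subgroup.card_map_of_injective (MulAut.conj g).injective, h9]
  have h12 : Subgroup.centralizer ({T} : Set G) =
      (Subgroup.centralizer ({z} : Set G)).map (MulAut.conj g).toMonoidHom := by
    ext x
    rw [Subgroup.mem_centralizer_singleton_iff, Subgroup.mem_map]
    constructor
    · intro hx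
      refine ⟨g⁻¹ * x * g, Subgroup.mem_centralizer_singleton_iff.2 ?_, ?_⟩
      · rw [← hg] at hx
        calc g⁻¹ * x * g * z = g⁻¹ * (x * (g * z * g⁻¹)) * g := by group
          _ = g⁻¹ * ((g * z * g⁻¹) * x) * g := by rw [hx]
          _ = z * (g⁻¹ * x * g) := by group
      · show g * (g⁻¹ * x * g) * g⁻¹ = x
        group
    · rintro ⟨y, hy, rfl⟩
      rw [← hg]
      show g * y * g⁻¹ * (g * z * g⁻¹) = g * z * g⁻¹ * (g * y * g⁻¹)
      calc g * y * g⁻¹ * (g * z * g⁻¹) = g * (y * z) * g⁻¹ := by group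
        _ = g * (z * y) * g⁻¹ := by rw [Subgroup.mem_centralizer_singleton_iff.1 hy]
        _ = _ := by group
  apply hcard
  have h13 : Nat.card (Subgroup.centralizer ({T} : Set G)) = Nat.card (Subgroup.centralizer ({z} : Set G)) := by
    rw [h12, Subgroup.card_map_of_injective (MulAut.conj g).injective]
  rw [← h13, ← hcard2, h10]
  have : (2 : ℕ) ^ 14 = 2 ^ 5 * 2 ^ 9 := by norm_num
  rw [this]
  exact Nat.mul_dvd_mul h8 (dvd_refl _)

end

end Cfsg.Agent.TypeO8Plus.FuKill
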