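import Cfsg.Agent.TypeO8Plus.Frame
import Cfsg.Agent.TypeO8Plus.Code
import Cfsg.Agent.TypeO8Plus.Chev

/-!
# `Ω₈⁺(2)`: `G₀` is `Ω₈⁺(2)` (helper260)
-/

set_option autoImplicit false

namespace Cfsg.Agent.TypeO8Plus.Ident

open Cfsg.Agent.Co2Type.Quad Cfsg.Agent.LargeExtra.Base Cfsg.Agent.LargeExtra.Nine
open Cfsg.Agent.LargeExtra.KillNine.Codes Cfsg.Agent.TypeO8Plus.Code Cfsg.Agent.TypeO8Plus.Chev

variable {G : Type*} [Group G] {Q A : Subgroup G} {z a : G} {p : Pair Q z A a} {φ : Coord p.lz} {E : El G}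

theorem gens (F : Frame p φ E) : Gens E.e E.s E.x E.w E.p := by
  have ssi : E.s⁻¹ = E.s := inv_eq_of_mul_eq_one_left F.weyl.ss
  have xi : ∀ i, (E.x i)⁻¹ = E.x i := fun i => inv_eq_of_mul_eq_one_left (F.weyl.xx i)
  have wi : ∀ i, (E.w i)⁻¹ = E.w i := fun i => inv_eq_of_mul_eq_one_left (F.weyl.ww i)
  refine ⟨fun i => ?_, F.weyl.xx', F.weyl.xw', F.weyl.ww'⟩
  refine
    { ee := F.Q_rel.ee
      xx := F.weyl.xx i
      ss := F.weyl.ss
      ww := F.weyl.ww i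
      pp := F.Q_rel.pp i
      ses := F.weyl.se
      wxw := (F.weyl.xw i).symm
      sws := F.weyl.sw i
      sps := ?_
      wpw := ?_
      exe := ?_
      ep := F.Q_rel.ep i
      px := ?_ }
  · have := F.S_rel.p i
    rwa [ssi] at this
  · have := F.W_rel.p i
    rwa [wi] at this
  · have := F.X_rel.e i
    rw [xi] at this
    calc E.e * E.x i * E.e * E.x i = E.e * (E.x i * E.e * E.x i) := by group
      _ = (E.e * E.e) * E.p i := by rw [this]; group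
      _ = E.p i := by rw [F.Q_rel.ee, one_mul]
  · have := F.X_rel.p i
    rw [mul_inv_eq_iff_eq_mul] at this
    exact this.symm

theorem e_ne (F : Frame p φ E) : E.e ≠ 1 := by
  intro h
  have := F.Q_rel.ea
  rw [h, one_mul, mul_one] at this
  exact F.Q_rel.z_ne (mul_eq_left.1 this.symm)

/-- A subgroup containing the generators contains `Q`. -/
theorem Q_le (F : Frame p φ E) (hva : φ.e p.va = vec 1) {K : Subgroup G} (hz : E.z ∈ K) (ha : E.a ∈ K)
    (hh : ∀ i, E.h i ∈ K) (he : E.e ∈ K) (hp : ∀ i, E.p i ∈ K) : Q ≤ K := by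
  have piece : ∀ {g : G} {m : ℕ}, Cd φ g m → g ∈ K → ∀ (c : Prop) [Decidable c],
      ∃ g' ∈ K, Cd φ g' (if c then m else 0) := by
    intro g m h1 h2 c _
    split_ifs
    · exact ⟨g, h2, h1⟩
    · exact ⟨1, K.one_mem, cd_one⟩
  have hcd : ∀ n < 256, ∃ g ∈ K, Cd φ g n := by
    intro n hn
    have key : ∀ n < 256, ap idL n = n := by decide +kernel
    obtain ⟨g0, h0, c0⟩ := piece (g := E.a) (m := 1) ⟨F.a ▸ p.a_mem, by
      have : (⟨E.a, F.a ▸ p.a_mem⟩ : Q) = ⟨a, p.a_mem⟩ := Subtype.ext F.a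
      rw [this]; exact hva⟩ ha (n.testBit 0)
    obtain ⟨g1, h1, c1⟩ := piece (g := E.h 0) (m := 2) ⟨F.h_mem 0, F.h_code 0⟩ (hh 0) (n.testBit 1)
    obtain ⟨g2, h2, c2⟩ := piece (g := E.h 1) (m := 4) ⟨F.h_mem 1, F.h_code 1⟩ (hh 1) (n.testBit 2)
    obtain ⟨g3, h3, c3⟩ := piece (g := E.h 2) (m := 8) ⟨F.h_mem 2, F.h_code 2⟩ (hh 2) (n.testBit 3)
    obtain ⟨g4, h4, c4⟩ := piece (g := E.e) (m := 16) ⟨F.e_mem, F.e_code⟩ he (n.testBit 4)
    obtain ⟨g5, h5, c5⟩ := piece (g := E.p 0) (m := 32) ⟨F.p_mem 0, F.p_code 0⟩ (hp 0) (n.testBit 5)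
    obtain ⟨g6, h6, c6⟩ := piece (g := E.p 1) (m := 64) ⟨F.p_mem 1, F.p_code 1⟩ (hp 1) (n.testBit 6)
    obtain ⟨g7, h7, c7⟩ := piece (g := E.p 2) (m := 128) ⟨F.p_mem 2, F.p_code 2⟩ (hp 2) (n.testBit 7)
    refine ⟨g0 * g1 * g2 * g3 * g4 * g5 * g6 * g7, ?_, ?_⟩
    · exact K.mul_mem (K.mul_mem (K.mul_mem (K.mul_mem (K.mul_mem (K.mul_mem (K.mul_mem h0 h1) h2) h3) h4) h5) h6) h7
    · refine ((((((((c0.mul c1).mul c2).mul c3).mul c4).mul c5).mul c6).mul c7)).congr ?_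
      exact key n hn
  intro g hg
  obtain ⟨n, hn, h1⟩ := exists_cd_of_mem φ hg
  obtain ⟨g', h2, h3⟩ := hcd n hn
  rcases h1.eq_or h3 with h4 | h4
  · rw [h4]; exact h2
  · rw [h4]; exact K.mul_mem h2 (F.z ▸ hz)

theorem grp_eq (F : Frame p φ E) (hva : φ.e p.va = vec 1) : grp E.e E.s E.x E.w = G0 Q E := by
  apply le_antisymm
  · rw [grp, Subgroup.closure_le]
    rintro g ((h | h) | h)
    · rcases h with rfl | h
      · exact Subgroup.mem_sup_left (Subgroup.mem_sup_left F.e_mem)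
      · rw [Set.mem_singleton_iff] at h
        rw [h]
        exact Subgroup.mem_sup_right (Subgroup.mem_zpowers _)
    · exact Subgroup.mem_sup_left (Subgroup.mem_sup_right (Subgroup.subset_closure (Or.inl h)))
    · exact Subgroup.mem_sup_left (Subgroup.mem_sup_right (Subgroup.subset_closure (Or.inr h)))
  · have he : E.e ∈ grp E.e E.s E.x E.w := Subgroup.subset_closure (by simp)
    have hs : E.s ∈ grp E.e E.s E.x E.w := Subgroup.subset_closure (by simp)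
    have hx : ∀ i, E.x i ∈ grp E.e E.s E.x E.w := fun i =>
      Subgroup.subset_closure (Or.inl (Or.inr ⟨i, rfl⟩))
    have hw : ∀ i, E.w i ∈ grp E.e E.s E.x E.w := fun i =>
      Subgroup.subset_closure (Or.inr ⟨i, rfl⟩)
    obtain ⟨K, hK⟩ : ∃ K, K = grp E.e E.s E.x E.w := ⟨_, rfl⟩
    rw [← hK] at he hs hx hw ⊢
    have cmem : ∀ {u g t : G}, u ∈ K → g ∈ K → u * g * u⁻¹ = t → t ∈ K := by
      intro u g t hu hg h
      rw [← h]
      exact K.mul_mem (K.mul_mem hu hg) (K.inv_mem hu)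
    have cmem' : ∀ {u g g' t : G}, u ∈ K → g ∈ K → g' ∈ K → u * g * u⁻¹ = g' * t → t ∈ K := by
      intro u g g' t hu hg hg' h
      have h1 : g' * t ∈ K := cmem hu hg h
      have h2 := K.mul_mem (K.inv_mem hg') h1
      rwa [inv_mul_cancel_left] at h2
    have hp : ∀ i, E.p i ∈ K := fun i => cmem' (hx i) he he (F.X_rel.e i)
    have hh : ∀ i, E.h i ∈ K := by
      intro i
      have h1 := cmem' (hx (i + 1)) (hp _) (hp _) (F.X_rel.p1 (i + 1))
      have key : ∀ i : Fin 3, i + 1 + 2 = i := by decide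
      rwa [key i] at h1
    have ha : E.a ∈ K := cmem' (hx 0) (hh 0) (hh 0) (F.X_rel.h 0)
    have hz : E.z ∈ K := cmem hs ha F.S_rel.a
    refine sup_le (sup_le (Q_le F hva hz ha hh he hp) ?_) ?_
    · rw [Subgroup.closure_le]
      rintro g (⟨i, rfl⟩ | ⟨i, rfl⟩)
      · exact hx i
      · exact hw i
    · rw [Subgroup.zpowers_le]
      exact hs

theorem exists_equiv (F : Frame p φ E) (hva : φ.e p.va = vec 1) :
    Nonempty (G0 Q E ≃* Cfsg.POmega (ZMod 2) (Cfsg.quadFormPlus 4 (ZMod 2))) := by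
  have h := exists_mulEquiv (gens F) (e_ne F)
  rwa [grp_eq F hva] at h

theorem card_G0 (F : Frame p φ E) (hva : φ.e p.va = vec 1) : Nat.card (G0 Q E) = 174182400 := by
  obtain ⟨f⟩ := exists_equiv F hva
  rw [Nat.card_congr f.toEquiv, card_POmega]

end Cfsg.Agent.TypeO8Plus.Ident
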