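import Cfsg.Agent.TypeO8Plus.Code

/-!
# `Ω₈⁺(2)`: the local analysis, first part (helper260)

Existence of `e ∈ Q` (code 16), `s` of order two swapping `z` and `a`, `(s e)³ = 1`, and of the `h i ∈ Q ∩ A` (codes
2, 4, 8) commuting with `e` and `s`.
-/

set_option autoImplicit false

namespace Cfsg.Agent.TypeO8Plus.LocalA

open Cfsg.Agent.Co2Type.Quad Cfsg.Agent.LargeExtra.Base Cfsg.Agent.LargeExtra.Nine
open Cfsg.Agent.LargeExtra.KillNine.Codes Cfsg.Agent.TypeO8Plus.Code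

variable {G : Type*} [Group G] {Q A : Subgroup G} {z a : G}

/-- `E = ⟨z, a⟩` as a predicate -/
def InE (z a : G) (g : G) : Prop := g = 1 ∨ g = z ∨ g = a ∨ g = z * a

theorem mul_four {z a : G} (hz : z * z = 1) (ha : a * a = 1) (hza : a * z = z * a) {g g' : G}
    (hg : InE z a g) (hg' : InE z a g') : InE z a (g * g') := by
  have h1 : z * (z * a) = a := by rw [← mul_assoc, hz, one_mul]
  have h2 : a * (z * a) = z := by rw [← mul_assoc, hza, mul_assoc, ha, mul_one]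
  have h3 : z * a * z = a := by rw [mul_assoc, hza, h1]
  have h4 : z * a * a = z := by rw [mul_assoc, ha, mul_one]
  have h5 : z * a * (z * a) = 1 := by rw [mul_assoc, h2, hz]
  rcases hg with rfl | rfl | rfl | rfl <;> rcases hg' with rfl | rfl | rfl | rfl <;>
    simp only [InE, one_mul, mul_one, hz, ha, hza, h1, h2, h3, h4, h5, true_or, or_true]

/-- elements of `⟨Q, A⟩` act trivially on `D / E` -/
theorem conj_D_mod (p : Pair Q z A a) {w : G} (hw : w ∈ Q ⊔ A) {d : G} (hdQ : d ∈ Q) (hdA : d ∈ A) :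
    ∃ ε, InE z a ε ∧ w * d * w⁻¹ = d * ε ∧ w * d * w⁻¹ ∈ Q ∧ w * d * w⁻¹ ∈ A := by
  have hE : ∀ {ε}, InE z a ε → ε ∈ Q ∧ ε ∈ A := by
    rintro ε (rfl | rfl | rfl | rfl)
    · exact ⟨Q.one_mem, A.one_mem⟩
    · exact ⟨p.lz.z_mem, p.z_mem⟩
    · exact ⟨p.a_mem, p.la.z_mem⟩
    · exact ⟨Q.mul_mem p.lz.z_mem p.a_mem, A.mul_mem p.z_mem p.la.z_mem⟩
  have h1 : ∀ q ∈ Q, ∀ d ∈ Q, d ∈ A → q * d * q⁻¹ = d ∨ q * d * q⁻¹ = d * z := by
    intro q hq d hd _
    rcases p.lz.comm q hq d hd with h | h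
    · left; rw [h, mul_inv_cancel_right]
    · right; rw [h, mul_assoc (d * q), ← (p.lz.commz (Q.inv_mem hq)).eq]; group
  have hw' : w ∈ Subgroup.closure ((Q : Set G) ∪ A) := by rwa [Subgroup.sup_eq_closure] at hw
  have hgen : ∀ x, (x ∈ (Q : Set G) ∪ A ∨ x⁻¹ ∈ (Q : Set G) ∪ A) → x ∈ Q ∨ x ∈ A := by
    rintro x ((h | h) | (h | h))
    · exact Or.inl h
    · exact Or.inr h
    · left; have := Q.inv_mem h; rwa [inv_inv] at this
    · right; have := A.inv_mem h; rwa [inv_inv] at this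
  have step : ∀ x y, (x ∈ Q ∨ x ∈ A) →
      (∃ ε, InE z a ε ∧ y * d * y⁻¹ = d * ε ∧ y * d * y⁻¹ ∈ Q ∧ y * d * y⁻¹ ∈ A) →
      ∃ ε, InE z a ε ∧ x * y * d * (x * y)⁻¹ = d * ε ∧ x * y * d * (x * y)⁻¹ ∈ Q ∧
        x * y * d * (x * y)⁻¹ ∈ A := by
    intro x y hx ih
    obtain ⟨ε, hε, h2, h3, h4⟩ := ih
    have e : x * y * d * (x * y)⁻¹ = x * (y * d * y⁻¹) * x⁻¹ := by group
    have key : ∃ ε', InE z a ε' ∧ x * (y * d * y⁻¹) * x⁻¹ = y * d * y⁻¹ * ε' := by
      rcases hx with hx | hx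
      · rcases h1 x hx _ h3 h4 with h | h
        · exact ⟨1, Or.inl rfl, by rw [h, mul_one]⟩
        · exact ⟨z, Or.inr (Or.inl rfl), h⟩
      · rcases p.conj_D h4 hx with h | h
        · exact ⟨1, Or.inl rfl, by rw [h, mul_one]⟩
        · exact ⟨a, Or.inr (Or.inr (Or.inl rfl)), h⟩
    obtain ⟨ε', hε', h5⟩ := key
    refine ⟨ε * ε', mul_four p.lz.z_sq p.la.z_sq p.comm_za hε hε', ?_, ?_, ?_⟩
    · rw [e, h5, h2]; group
    · rw [e, h5]; exact Q.mul_mem h3 (hE hε').1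
    · rw [e, h5]; exact A.mul_mem h4 (hE hε').2
  clear hw
  induction hw' using Subgroup.closure_induction_left with
  | one => exact ⟨1, Or.inl rfl, by group, by simpa using hdQ, by simpa using hdA⟩
  | mul_left x hx y _ ih => exact step x y (hgen x (Or.inl hx)) ih
  | inv_mul_cancel x hx y _ ih => exact step _ y (hgen _ (Or.inr (by rw [inv_inv]; exact hx))) ih

/-- the elements `e`, `s`, `d` -/
structure Start (p : Pair Q z A a) (φ : Coord p.lz) (e s d : G) : Prop where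
  e_cd : Cd φ e 16
  d3 : d * d * d = 1
  ede : e * d * e = d⁻¹
  s_eq : s = d * e
  dz : d * z * d⁻¹ = a
  da : d * a * d⁻¹ = a * z
  dm : d ∈ Q ⊔ A
  em : e ∈ Q ⊔ A

theorem exists_start [Finite G] (p : Pair Q z A a) (φ : Coord p.lz) (hva : φ.e p.va = vec 1) :
    ∃ e s d, Start p φ e s d := by
  obtain ⟨e, he⟩ := exists_cd φ 16
  obtain ⟨g, hgz, hga, hA, hQ⟩ := p.isConj
  have ha1 : Cd φ a 1 := ⟨p.a_mem, hva⟩
  have hee : e * e = 1 := he.sq (by decide)
  have hei : e⁻¹ = e := inv_eq_of_mul_eq_one_left hee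
  have hea : e * a = a * e * z := he.ncomm ha1 (by decide)
  have hez : e * z = z * e := p.lz.comm_z e he.mem
  have hza := p.comm_za
  -- `e' = g e g⁻¹`
  obtain ⟨e', he'⟩ : ∃ e', e' = g * e * g⁻¹ := ⟨_, rfl⟩
  have he'A : e' ∈ A := by rw [he', hA]; exact ⟨e, he.mem, rfl⟩
  have he'e' : e' * e' = 1 := by
    rw [he']
    calc g * e * g⁻¹ * (g * e * g⁻¹) = g * (e * e) * g⁻¹ := by group
      _ = 1 := by rw [hee]; group
  have he'i : e'⁻¹ = e' := inv_eq_of_mul_eq_one_left he'e'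
  have he'a : e' * a = a * e' := by
    rw [he', ← hgz]
    calc g * e * g⁻¹ * (g * z * g⁻¹) = g * (e * z) * g⁻¹ := by group
      _ = g * (z * e) * g⁻¹ := by rw [hez]
      _ = _ := by group
  have he'z : e' * z = z * e' * a := by
    have h1 : g * (e * a) * g⁻¹ = g * (a * e * z) * g⁻¹ := by rw [hea]
    have h2 : g * (e * a) * g⁻¹ = (g * e * g⁻¹) * (g * a * g⁻¹) := by group
    have h3 : g * (a * e * z) * g⁻¹ = (g * a * g⁻¹) * (g * e * g⁻¹) * (g * z * g⁻¹) := by group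
    rw [h2, h3, hga, hgz, ← he'] at h1
    exact h1
  -- conjugation formulas
  have ceE : e * a * e = a * z := by
    rw [hea, mul_assoc (a * e), ← hez]
    calc a * e * (e * z) = a * (e * e) * z := by group
      _ = a * z := by rw [hee, mul_one]
  have cez : e * z * e = z := by rw [hez, mul_assoc, hee, mul_one]
  have ce'z : e' * z * e' = z * a := by
    rw [he'z, mul_assoc (z * e'), ← he'a]
    calc z * e' * (e' * a) = z * (e' * e') * a := by group
      _ = z * a := by rw [he'e', mul_one]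
  have ce'a : e' * a * e' = a := by rw [he'a, mul_assoc, he'e', mul_one]
  obtain ⟨k, hk⟩ : ∃ k, k = e * e' := ⟨_, rfl⟩
  have hki : k⁻¹ = e' * e := by rw [hk, mul_inv_rev, hei, he'i]
  have kz : k * z * k⁻¹ = a := by
    rw [hki, hk]
    calc e * e' * z * (e' * e) = e * (e' * z * e') * e := by group
      _ = e * (z * a) * e := by rw [ce'z]
      _ = (e * z * e) * (e * a * e) := by
          calc e * (z * a) * e = e * z * 1 * a * e := by group
            _ = e * z * (e * e) * a * e := by rw [hee]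
            _ = _ := by group
      _ = z * (a * z) := by rw [cez, ceE]
      _ = a := by rw [hza, ← mul_assoc, p.lz.z_sq, one_mul]
  have ka : k * a * k⁻¹ = a * z := by
    rw [hki, hk]
    calc e * e' * a * (e' * e) = e * (e' * a * e') * e := by group
      _ = a * z := by rw [ce'a, ceE]
  have kaz : k * (a * z) * k⁻¹ = z := by
    calc k * (a * z) * k⁻¹ = (k * a * k⁻¹) * (k * z * k⁻¹) := by group
      _ = a * z * a := by rw [ka, kz]
      _ = z := by rw [hza, mul_assoc, p.la.z_sq, mul_one]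
  -- `κ = k³` centralises `z` and `a`
  obtain ⟨κ, hκ⟩ : ∃ κ, κ = k * k * k := ⟨_, rfl⟩
  have hκ3 : κ = k ^ 3 := by rw [hκ, pow_succ, pow_two]
  have κz : κ * z * κ⁻¹ = z := by
    rw [hκ]
    calc k * k * k * z * (k * k * k)⁻¹ = k * (k * (k * z * k⁻¹) * k⁻¹) * k⁻¹ := by group
      _ = z := by rw [kz, ka, kaz]
  have κa : κ * a * κ⁻¹ = a := by
    rw [hκ]
    calc k * k * k * a * (k * k * k)⁻¹ = k * (k * (k * a * k⁻¹) * k⁻¹) * k⁻¹ := by group
      _ = a := by rw [ka, kaz, kz]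
  have κz' : κ * z = z * κ := by rw [mul_inv_eq_iff_eq_mul] at κz; exact κz
  have κa' : κ * a = a * κ := by rw [mul_inv_eq_iff_eq_mul] at κa; exact κa
  -- `κ² ∈ Q`
  have eke : e * k * e = k⁻¹ := by
    rw [hki, hk]
    calc e * (e * e') * e = (e * e) * e' * e := by group
      _ = e' * e := by rw [hee, one_mul]
  have eκe : e * κ * e = κ⁻¹ := by
    rw [hκ]
    calc e * (k * k * k) * e = e * k * 1 * k * 1 * k * e := by group
      _ = e * k * (e * e) * k * (e * e) * k * e := by rw [hee]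
      _ = (e * k * e) * (e * k * e) * (e * k * e) := by group
      _ = (k * k * k)⁻¹ := by rw [eke]; group
  have hκQ : κ⁻¹ * κ⁻¹ ∈ Q := by
    have h1 : κ * e⁻¹ * κ⁻¹ ∈ Q := p.lz.conj_mem κ κz' _ (Q.inv_mem he.mem)
    have h2 := Q.mul_mem he.mem h1
    have e1 : e * (κ * e⁻¹ * κ⁻¹) = (e * κ * e) * κ⁻¹ := by rw [hei]; group
    rwa [e1, eκe] at h2
  have hκ8 : κ ^ 8 = 1 := by
    have h1 : (κ⁻¹ * κ⁻¹) ^ 4 = 1 := by
      have h2 : (κ⁻¹ * κ⁻¹) ^ 4 = ((κ⁻¹ * κ⁻¹) * (κ⁻¹ * κ⁻¹)) * ((κ⁻¹ * κ⁻¹) * (κ⁻¹ * κ⁻¹)) := by group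
      rw [h2]
      rcases p.lz.sq _ hκQ with h3 | h3 <;> rw [h3]
      · exact one_mul 1
      · exact p.lz.z_sq
    have h3 : κ ^ 8 = ((κ⁻¹ * κ⁻¹) ^ 4)⁻¹ := by group
    rw [h3, h1, inv_one]
  have hk24 : k ^ 24 = 1 := by
    have : k ^ 24 = κ ^ 8 := by rw [hκ3, ← pow_mul]
    rw [this, hκ8]
  -- conjugation by `k ^ 3`
  have κzi : ∀ n : ℕ, κ ^ n * z * (κ ^ n)⁻¹ = z := by
    intro n
    have : Commute (κ ^ n) z := (show Commute κ z from κz').pow_left n
    rw [this.eq, mul_inv_cancel_right]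
  have κai : ∀ n : ℕ, κ ^ n * a * (κ ^ n)⁻¹ = a := by
    intro n
    have : Commute (κ ^ n) a := (show Commute κ a from κa').pow_left n
    rw [this.eq, mul_inv_cancel_right]
  have hd : k ^ 16 = k * κ ^ 5 := by rw [hκ3, ← pow_mul, ← pow_succ']
  refine ⟨e, k ^ 16 * e, k ^ 16, he, ?_, ?_, rfl, ?_, ?_, ?_, ?_⟩
  · have : k ^ 16 * k ^ 16 * k ^ 16 = k ^ 24 * k ^ 24 := by group
    rw [this, hk24, one_mul]
  · have h1 : ∀ n : ℕ, e * k ^ n * e = (k ^ n)⁻¹ := by
      intro n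
      induction n with
      | zero => simp [hee]
      | succ n ih =>
        calc e * k ^ (n + 1) * e = e * k ^ n * 1 * k * e := by rw [pow_succ]; group
          _ = (e * k ^ n * e) * (e * k * e) := by rw [← hee]; group
          _ = (k ^ n)⁻¹ * k⁻¹ := by rw [ih, eke]
          _ = (k ^ (n + 1))⁻¹ := by rw [pow_succ']; group
    exact h1 16
  · rw [hd]
    calc k * κ ^ 5 * z * (k * κ ^ 5)⁻¹ = k * (κ ^ 5 * z * (κ ^ 5)⁻¹) * k⁻¹ := by group
      _ = a := by rw [κzi, kz]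
  · rw [hd]
    calc k * κ ^ 5 * a * (k * κ ^ 5)⁻¹ = k * (κ ^ 5 * a * (κ ^ 5)⁻¹) * k⁻¹ := by group
      _ = a * z := by rw [κai, ka]
  · apply Subgroup.pow_mem
    rw [hk]
    exact Subgroup.mul_mem _ (Subgroup.mem_sup_left he.mem) (Subgroup.mem_sup_right he'A)
  · exact Subgroup.mem_sup_left he.mem

section

variable {p : Pair Q z A a} {φ : Coord p.lz} {e s d : G}

theorem Start.ee (S : Start p φ e s d) : e * e = 1 := S.e_cd.sq (by decide)

theorem Start.ei (S : Start p φ e s d) : e⁻¹ = e := inv_eq_of_mul_eq_one_left S.ee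

theorem Start.ss (S : Start p φ e s d) : s * s = 1 := by
  rw [S.s_eq]
  calc d * e * (d * e) = d * (e * d * e) := by group
    _ = 1 := by rw [S.ede, mul_inv_cancel]

theorem Start.si (S : Start p φ e s d) : s⁻¹ = s := inv_eq_of_mul_eq_one_left S.ss

theorem Start.se (S : Start p φ e s d) : s * e = d := by
  rw [S.s_eq, mul_assoc, S.ee, mul_one]

/-- the braid relation -/
theorem Start.ses (S : Start p φ e s d) : s * e * s = e * s * e := by
  have h1 : s * e * s = d * d * e := by rw [S.se, S.s_eq]; group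
  have h2 : e * s * e = d⁻¹ * e := by
    rw [S.s_eq]
    calc e * (d * e) * e = (e * d * e) * e := by group
      _ = d⁻¹ * e := by rw [S.ede]
  rw [h1, h2]
  congr 1
  exact (eq_inv_of_mul_eq_one_left S.d3)

theorem Start.ez (S : Start p φ e s d) : e * z = z * e := p.lz.comm_z e S.e_cd.mem

theorem Start.ea (S : Start p φ e s d) (hva : φ.e p.va = vec 1) : e * a = a * e * z :=
  S.e_cd.ncomm (⟨p.a_mem, hva⟩ : Cd φ a 1) (by decide)

theorem Start.sz (S : Start p φ e s d) : s * z * s⁻¹ = a := by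
  rw [S.s_eq]
  calc d * e * z * (d * e)⁻¹ = d * (e * z * e⁻¹) * d⁻¹ := by group
    _ = a := by rw [S.ez, mul_inv_cancel_right, S.dz]

theorem Start.sa (S : Start p φ e s d) : s * a * s⁻¹ = z := by
  rw [← S.sz, S.si]
  calc s * (s * z * s) * s = (s * s) * z * (s * s) := by group
    _ = z := by rw [S.ss, one_mul, mul_one]

/-- An element of `Q ∩ A` commuting with `d` commutes with `e`. -/
theorem Start.comm_e (S : Start p φ e s d) {h : G} (hQ : h ∈ Q) (hd : d * h * d⁻¹ = h) :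
    e * h = h * e := by
  rcases p.lz.comm e S.e_cd.mem h hQ with h1 | h1
  · exact h1
  · exfalso
    -- `e h e = h z` is fixed by `d`
    have h2 : e * h * e = h * z := by
      rw [h1, mul_assoc (h * e), ← S.ez]
      calc h * e * (e * z) = h * (e * e) * z := by group
        _ = h * z := by rw [S.ee, mul_one]
    have hd' : d⁻¹ * h * d = h := by
      calc d⁻¹ * h * d = d⁻¹ * (d * h * d⁻¹) * d := by rw [hd]
        _ = h := by group
    have h3 : d * (e * h * e) * d⁻¹ = e * h * e := by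
      have e1 : d * e = e * d⁻¹ := by
        rw [← S.ede]
        calc d * e = (e * e) * d * e := by rw [S.ee, one_mul]
          _ = e * (e * d * e) := by group
      calc d * (e * h * e) * d⁻¹ = (d * e) * h * (e * d⁻¹) := by group
        _ = (e * d⁻¹) * h * (d * e) := by rw [e1]
        _ = e * (d⁻¹ * h * d) * e := by group
        _ = e * h * e := by rw [hd']
    rw [h2] at h3
    have h4 : d * (h * z) * d⁻¹ = (d * h * d⁻¹) * (d * z * d⁻¹) := by group
    rw [h4, hd, S.dz] at h3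
    exact p.ne (mul_left_cancel h3)

theorem Start.exists_h (S : Start p φ e s d) (hva : φ.e p.va = vec 1) {h0 : G} {n : ℕ} (hn : n < 16)
    (h1 : Cd φ h0 n) (hA : h0 ∈ A) (hn0 : n.testBit 0 = false) :
    ∃ h, Cd φ h n ∧ h ∈ A ∧ d * h * d⁻¹ = h ∧ e * h = h * e ∧ s * h = h * s := by
  have hQ := h1.mem
  obtain ⟨ε, hε, e1, e2, e3⟩ := conj_D_mod p S.dm hQ hA
  have hEQ : ∀ {ε}, InE z a ε → ε ∈ Q ∧ ε ∈ A := by
    rintro ε (rfl | rfl | rfl | rfl)
    · exact ⟨Q.one_mem, A.one_mem⟩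
    · exact ⟨p.lz.z_mem, p.z_mem⟩
    · exact ⟨p.a_mem, p.la.z_mem⟩
    · exact ⟨Q.mul_mem p.lz.z_mem p.a_mem, A.mul_mem p.z_mem p.la.z_mem⟩
  have hza := p.comm_za
  have hzz := p.lz.z_sq
  have haa := p.la.z_sq
  -- `η` with `d η d⁻¹ = η ε`
  have hη : ∃ η, InE z a η ∧ η * ε = d * η * d⁻¹ := by
    rcases hε with h | h | h | h
    · exact ⟨1, Or.inl rfl, by rw [h]; group⟩
    · refine ⟨a, Or.inr (Or.inr (Or.inl rfl)), ?_⟩
      rw [S.da, h]
    · refine ⟨z * a, Or.inr (Or.inr (Or.inr rfl)), ?_⟩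
      have : d * (z * a) * d⁻¹ = (d * z * d⁻¹) * (d * a * d⁻¹) := by group
      rw [this, S.dz, S.da, h, mul_assoc, haa, mul_one, ← mul_assoc, haa, one_mul]
    · refine ⟨z, Or.inr (Or.inl rfl), ?_⟩
      rw [S.dz, h, ← mul_assoc, hzz, one_mul]
  obtain ⟨η, hη1, hη2⟩ := hη
  -- `h = h₀ η`
  have hdh : d * (h0 * η) * d⁻¹ = h0 * η := by
    have hηQ := hEQ hη1
    have hεQ := hEQ hε
    have hεε : ε * ε = 1 := p.sq_D hεQ.1 hεQ.2
    calc d * (h0 * η) * d⁻¹ = (d * h0 * d⁻¹) * (d * η * d⁻¹) := by group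
      _ = h0 * ε * (η * ε) := by rw [e1, hη2]
      _ = h0 * (ε * η) * ε := by group
      _ = h0 * (η * ε) * ε := by rw [p.comm_D hεQ.1 hεQ.2 hηQ.1 hηQ.2]
      _ = h0 * η * (ε * ε) := by group
      _ = h0 * η := by rw [hεε, mul_one]
  have hηQ := hEQ hη1
  have hhQ : h0 * η ∈ Q := Q.mul_mem hQ hηQ.1
  have hhA : h0 * η ∈ A := A.mul_mem hA hηQ.2
  have hce := S.comm_e hhQ hdh
  have ha1 : Cd φ a 1 := ⟨p.a_mem, hva⟩
  have hcd : Cd φ (h0 * η) n ∨ Cd φ (h0 * η) (n ^^^ 1) := by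
    rcases hη1 with rfl | rfl | rfl | rfl
    · left; rw [mul_one]; exact h1
    · left; exact h1.mul_z
    · right; exact h1.mul ha1
    · right
      have := h1.mul ((cd_z (h := p.lz) (φ := φ)).mul ha1)
      rwa [Nat.zero_xor] at this
  have key : ∀ n < 16, n.testBit 0 = false → bs (vec 16) (vec (n ^^^ 1)) = 1 := by decide
  refine ⟨h0 * η, ?_, hhA, hdh, hce, ?_⟩
  · rcases hcd with h2 | h2
    · exact h2
    · exfalso
      have h3 := S.e_cd.b_of_comm h2 hce
      rw [key n hn hn0] at h3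
      exact absurd h3 (by decide)
  · rw [S.s_eq]
    have h5 : d * (h0 * η) = (h0 * η) * d := by rw [mul_inv_eq_iff_eq_mul] at hdh; exact hdh
    calc d * e * (h0 * η) = d * (e * (h0 * η)) := by group
      _ = (d * (h0 * η)) * e := by rw [hce]; group
      _ = _ := by rw [h5]; group

end

end Cfsg.Agent.TypeO8Plus.LocalA
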