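import Cfsg.Agent.TypeO8Plus.LocalB

/-!
# `Ω₈⁺(2)`: the local analysis, third part (helper260)

The relations between the `x i`; normalisation `s (x i) s⁻¹ = q i`.
-/

set_option autoImplicit false

namespace Cfsg.Agent.TypeO8Plus.LocalC

open Cfsg.Agent.Co2Type.Quad Cfsg.Agent.LargeExtra.Base Cfsg.Agent.LargeExtra.Nine
open Cfsg.Agent.LargeExtra.KillNine.Codes Cfsg.Agent.TypeO8Plus.Code Cfsg.Agent.TypeO8Plus.LocalA
open Cfsg.Agent.TypeO8Plus.LocalB

variable {G : Type*} [Group G] {Q A : Subgroup G} {z a : G}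

theorem cj2 (x y g : G) : (x * y) * g * (x * y)⁻¹ = x * (y * g * y⁻¹) * x⁻¹ := by group

theorem cjm (x g g' : G) : x * (g * g') * x⁻¹ = (x * g * x⁻¹) * (x * g' * x⁻¹) := by group

theorem cjss {s x : G} (h : s * s = 1) : s * (s * x * s⁻¹) * s⁻¹ = x := by
  calc s * (s * x * s⁻¹) * s⁻¹ = (s * s) * x * (s * s)⁻¹ := by group
    _ = x := by rw [h]; group

theorem comm_of_conj {g g' : G} (h : g * g' * g⁻¹ = g') : g * g' = g' * g := by
  rw [mul_inv_eq_iff_eq_mul] at h; exact h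

section

variable {p : Pair Q z A a} {φ : Coord p.lz} {e s d : G} {h q : Fin 3 → G} {i j : Fin 3} {x y : G}

theorem XAct.sq (B : Bas p φ e h q) (hx : XAct p φ e h q i x) (hA : x ∈ A) : x * x = 1 := by
  rcases p.la.sq x hA with h1 | h1
  · exact h1
  · exfalso
    have h2 : (x * x) * e * (x * x)⁻¹ = e := by
      rw [cj2, hx.fe, cjm, hx.fe, hx.fq, mul_assoc, B.qq, mul_one]
    rw [h1, conj_of_ncomm p.lz p.a_mem B.ae] at h2
    exact p.lz.z_ne (mul_eq_left.1 h2)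

theorem XAct.comm (B : Bas p φ e h q) (hx : XAct p φ e h q i x) (hy : XAct p φ e h q j y) (hxA : x ∈ A)
    (hyA : y ∈ A) (hij : i ≠ j) : x * y = y * x := by
  rcases p.la.comm x hxA y hyA with h1 | h1
  · exact h1
  · exfalso
    have h2 : (x * y) * e * (x * y)⁻¹ = e * q i * (q j * h (thd i j)) := by
      rw [cj2, hy.fe, cjm, hx.fe, hx.fq' j hij.symm]
    have h3 : (y * x) * e * (y * x)⁻¹ = e * q i * (q j * h (thd i j)) := by
      rw [cj2, hx.fe, cjm, hy.fe, hy.fq' i hij, thd_comm j i]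
      have e1 := B.qq' i j
      calc e * q j * (q i * h (thd i j)) = e * (q j * q i) * h (thd i j) := by group
        _ = e * (q i * q j) * h (thd i j) := by rw [e1]
        _ = _ := by group
    have hxy : (x * y) * z * (x * y)⁻¹ = z := by rw [cj2, hy.fz, hx.fz]
    have hyx : (y * x) * z * (y * x)⁻¹ = z := by rw [cj2, hx.fz, hy.fz]
    rw [h1, cj2 (y * x) a e, conj_of_ncomm p.lz p.a_mem B.ae, cjm, h3, hyx] at h2
    exact p.lz.z_ne (mul_eq_left.1 h2)

/-! ### conjugation by `s` -/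

theorem conj_A (S : Start p φ e s d) {x : G} (hx : x ∈ A) : s * x * s⁻¹ ∈ Q := by
  obtain ⟨g, hgz, hga, hA, hQ⟩ := p.isConj
  rw [hA] at hx
  obtain ⟨y, hy, rfl⟩ := hx
  have h1 : (s * g) * z = z * (s * g) := comm_of_conj (by rw [cj2, hgz, S.sa])
  have h2 := p.lz.conj_mem (s * g) h1 y hy
  have : s * (MulAut.conj g).toMonoidHom y * s⁻¹ = s * g * y * (s * g)⁻¹ := by
    show s * (g * y * g⁻¹) * s⁻¹ = _
    group
  rw [this]
  exact h2

theorem conj_Q (S : Start p φ e s d) {x : G} (hx : x ∈ Q) : s * x * s⁻¹ ∈ A := by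
  obtain ⟨g, hgz, hga, hA, hQ⟩ := p.isConj
  have hg' : g⁻¹ * a * g = z := by rw [← hgz]; group
  have h1 : (g⁻¹ * s) * z = z * (g⁻¹ * s) := comm_of_conj (by rw [cj2, S.sz, inv_inv, hg'])
  have h2 := p.lz.conj_mem (g⁻¹ * s) h1 x hx
  rw [hA]
  refine ⟨_, h2, ?_⟩
  show g * (g⁻¹ * s * x * (g⁻¹ * s)⁻¹) * g⁻¹ = s * x * s⁻¹
  group

/-- conjugating an equation of conjugation by `s` -/
theorem cjs {s x g t g' t' : G} (h : x * g * x⁻¹ = t) (hg : s * g * s⁻¹ = g') (ht : s * t * s⁻¹ = t') :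
    (s * x * s⁻¹) * g' * (s * x * s⁻¹)⁻¹ = t' := by
  rw [← hg, ← ht, ← h]; group

/-- The standing facts about `y = s x s⁻¹`. -/
theorem y_facts (S : Start p φ e s d) (hs : ∀ j, s * h j = h j * s) (hx : XAct p φ e h q i x)
    (hA : x ∈ A) : s * x * s⁻¹ ∈ Q ∧ (s * x * s⁻¹) * a * (s * x * s⁻¹)⁻¹ = a ∧
      (s * x * s⁻¹) * h i * (s * x * s⁻¹)⁻¹ = h i * z ∧
      ∀ j, j ≠ i → (s * x * s⁻¹) * h j * (s * x * s⁻¹)⁻¹ = h j := by
  have hs' : ∀ j, s * h j * s⁻¹ = h j := fun j => conj_of_comm (hs j)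
  refine ⟨conj_A S hA, cjs hx.fz S.sz S.sz, cjs hx.fh (hs' i) (by rw [cjm, hs', S.sa]), fun j hj => ?_⟩
  exact cjs (hx.fh' j hj) (hs' j) (hs' j)

/-- the code of `y` -/
theorem y_code (B : Bas p φ e h q) (S : Start p φ e s d) (hs : ∀ j, s * h j = h j * s) (hx : XAct p φ e h q i x)
    (hA : x ∈ A) : ∃ r < 16, Cd φ (s * x * s⁻¹) (2 ^ (i.1 + 5) ^^^ r) := by
  obtain ⟨h1, h2, h3, h4⟩ := y_facts S hs hx hA
  obtain ⟨n, hn, hcd⟩ := exists_cd_of_mem φ h1
  have b1 := hcd.b_of_comm B.a_cd (comm_of_conj h2)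
  have b2 : bs (vec n) (vec (2 ^ (i.1 + 1))) = 1 := by
    refine hcd.b_of_ncomm (B.h_cd i) ?_
    rw [mul_inv_eq_iff_eq_mul, mul_assoc (h i) z, ← p.lz.comm_z _ h1, ← mul_assoc] at h3
    exact h3
  have b3 : ∀ j, j ≠ i → bs (vec n) (vec (2 ^ (j.1 + 1))) = 0 := fun j hj =>
    hcd.b_of_comm (B.h_cd j) (comm_of_conj (h4 j hj))
  have key : ∀ i : Fin 3, ∀ n < 256, bs (vec n) (vec 1) = 0 → bs (vec n) (vec (2 ^ (i.1 + 1))) = 1 →
      (∀ j : Fin 3, j ≠ i → bs (vec n) (vec (2 ^ (j.1 + 1))) = 0) → n = 2 ^ (i.1 + 5) ^^^ (n % 16) := by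
    decide +kernel
  exact ⟨n % 16, Nat.mod_lt _ (by norm_num), key i n hn b1 b2 b3 ▸ hcd⟩

theorem mem_A_of_cd (hc : IsConf p φ confOplus) {g : G} {r : ℕ} (hr : r < 16) (hg : Cd φ g r) : g ∈ A := by
  obtain ⟨h1, h2⟩ := hg
  apply (p.pr_mem_D ⟨g, h1⟩).1
  rw [hc.D, h2]
  have key : ∀ r < 16, vec r 4 = 0 ∧ vec r 5 = 0 ∧ vec r 6 = 0 ∧ vec r 7 = 0 := by decide +kernel
  exact key r hr

/-- `v = q i y ∈ Q ∩ A` -/
theorem v_mem (B : Bas p φ e h q) (hc : IsConf p φ confOplus) {r : ℕ} (hr : r < 16)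
    (hy : Cd φ y (2 ^ (i.1 + 5) ^^^ r)) : Cd φ (q i * y) r ∧ q i * y ∈ A := by
  have h1 : Cd φ (q i * y) r := by
    have := (B.q_cd i).mul hy
    rwa [← Nat.xor_assoc, Nat.xor_self, Nat.zero_xor] at this
  exact ⟨h1, mem_A_of_cd hc hr h1⟩

/-- `x_j y_i x_j⁻¹ = y_i h_k` or `y_i h_k a` -/
theorem c1 (B : Bas p φ e h q) (hc : IsConf p φ confOplus) (hx : XAct p φ e h q j x) (hxA : x ∈ A) (hij : i ≠ j)
    {r : ℕ} (hr : r < 16) (hy : Cd φ y (2 ^ (i.1 + 5) ^^^ r)) :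
    x * y * x⁻¹ = y * h (thd i j) ∨ x * y * x⁻¹ = y * h (thd i j) * a := by
  obtain ⟨h1, h2⟩ := v_mem B hc hr hy
  have e1 : y = q i * (q i * y) := by rw [← mul_assoc, B.qq, one_mul]
  have e2 : h (thd i j) * (q i * y) = (q i * y) * h (thd i j) := p.comm_D (B.h_cd _).mem (B.hA _) h1.mem h2
  have e3 : x * y * x⁻¹ = q i * h (thd i j) * (x * (q i * y) * x⁻¹) := by
    conv_lhs => rw [e1]
    rw [cjm, hx.fq' i hij, thd_comm j i]
  have e4 : q i * h (thd i j) * (q i * y) = y * h (thd i j) := by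
    rw [mul_assoc, e2, ← mul_assoc, ← e1]
  rcases p.conj_D h2 hxA with h3 | h3
  · left
    rw [e3, h3, e4]
  · right
    rw [e3, h3, ← mul_assoc, e4]

theorem c2 (B : Bas p φ e h q) (hc : IsConf p φ confOplus) (S : Start p φ e s d) (hs : ∀ j, s * h j = h j * s)
    (hx : XAct p φ e h q i x) (hxA : x ∈ A) (hy : XAct p φ e h q j y) (hyA : y ∈ A) (hij : i ≠ j) :
    y * (s * x * s⁻¹) * y⁻¹ = (s * x * s⁻¹) * h (thd i j) := by
  obtain ⟨r, hr, hcx⟩ := y_code B S hs hx hxA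
  obtain ⟨r', hr', hcy⟩ := y_code B S hs hy hyA
  rcases c1 B hc hy hyA hij hr hcx with h1 | h1
  · exact h1
  · exfalso
    -- conjugate by `s`
    have hs' : ∀ j, s * h j * s⁻¹ = h j := fun j => conj_of_comm (hs j)
    have hsx : s * (s * x * s⁻¹) * s⁻¹ = x := cjss S.ss
    have h2 : (s * y * s⁻¹) * x * (s * y * s⁻¹)⁻¹ = x * h (thd i j) * z := by
      refine cjs h1 hsx ?_
      rw [cjm s (s * x * s⁻¹ * h (thd i j)) a, cjm s (s * x * s⁻¹) (h (thd i j)), hsx, hs', S.sa]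
    have h3 : x * (s * y * s⁻¹) * x⁻¹ = (s * y * s⁻¹) * h (thd i j) * z := by
      obtain ⟨t, ht⟩ : ∃ t, t = s * y * s⁻¹ := ⟨_, rfl⟩
      rw [← ht] at h2 ⊢
      have hxx := XAct.sq B hx hxA
      have hxi : x⁻¹ = x := inv_eq_of_mul_eq_one_left hxx
      obtain ⟨-, -, -, f4⟩ := y_facts S hs hy hyA
      have f5 := comm_of_conj (f4 (thd i j) (thd_ne hij).2)
      rw [← ht] at f5
      have htQ : t ∈ Q := ht ▸ conj_A S hyA
      have htz := p.lz.comm_z t htQ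
      have e1 : t * x = x * h (thd i j) * z * t := by rw [mul_inv_eq_iff_eq_mul] at h2; exact h2
      calc x * t * x⁻¹ = x * (t * x) := by rw [hxi, mul_assoc]
        _ = (x * x) * h (thd i j) * (z * t) := by rw [e1]; group
        _ = (h (thd i j) * t) * z := by rw [hxx, ← htz]; group
        _ = t * h (thd i j) * z := by rw [← f5]
    rcases c1 B hc hx hxA hij.symm hr' hcy with h4 | h4
    · rw [h3, thd_comm j i] at h4
      exact p.lz.z_ne (mul_eq_left.1 h4)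
    · rw [h3, thd_comm j i] at h4
      exact p.ne (mul_left_cancel h4).symm

/-- the braid relation excludes the sign -/
theorem not_z (B : Bas p φ e h q) (S : Start p φ e s d)
    (hx : XAct p φ e h q i x) (hxA : x ∈ A) (hy : s * x * s⁻¹ = q i * z) : False := by
  have hxx := XAct.sq B hx hxA
  have hxi : x⁻¹ = x := inv_eq_of_mul_eq_one_left hxx
  have hsi := S.si
  have hei := S.ei
  have hzz := p.lz.z_sq
  have hza := p.comm_za
  have hqz := p.lz.comm_z (q i) (B.q_cd i).mem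
  -- `s q s⁻¹ = x a`
  have hsq : s * q i * s⁻¹ = x * a := by
    have h1 : s * (s * x * s⁻¹) * s⁻¹ = x := cjss S.ss
    rw [hy, cjm s (q i) z, S.sz] at h1
    rw [← h1, mul_assoc (s * q i * s⁻¹), p.la.z_sq, mul_one]
  -- `e x e⁻¹ = x q`
  have hex : e * x * e⁻¹ = x * q i := by
    have h1 := hx.fe
    rw [mul_inv_eq_iff_eq_mul] at h1
    have h2 : e * x = x * (e * q i) := by
      calc e * x = (x * x) * e * x := by rw [hxx, one_mul]
        _ = x * (x * e) * x := by group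
        _ = x * (e * q i * x) * x := by rw [h1]
        _ = x * (e * q i) * (x * x) := by group
        _ = x * (e * q i) := by rw [hxx, mul_one]
    rw [h2, B.eq i]; group
  have heq : e * q i * e⁻¹ = q i := conj_of_comm (B.eq i)
  have hez : e * z * e⁻¹ = z := conj_of_comm S.ez
  have hea : e * a * e⁻¹ = a * z := conj_of_ncomm p.lz B.e_cd.mem B.ea
  -- two ways
  have h1 : (s * e * s) * x * (s * e * s)⁻¹ = x := by
    rw [cj2 (s * e) s x, hy, cj2 s e (q i * z), cjm e (q i) z, heq, hez, cjm s (q i) z, hsq, S.sz, mul_assoc,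
      p.la.z_sq, mul_one]
  have h2 : (e * s * e) * x * (e * s * e)⁻¹ = x * a := by
    rw [cj2 (e * s) e x, hex, cj2 e s (x * q i), cjm s x (q i), hy, hsq]
    have e1 : e * (q i * z * (x * a)) * e⁻¹ = (e * q i * e⁻¹) * (e * z * e⁻¹) * (e * x * e⁻¹) * (e * a * e⁻¹) := by
      group
    rw [e1, heq, hez, hex, hea]
    have hqx := hx.fq
    rw [mul_inv_eq_iff_eq_mul] at hqx
    have hxz := hx.fz
    rw [mul_inv_eq_iff_eq_mul] at hxz
    calc q i * z * (x * q i) * (a * z) = q i * (z * x) * q i * (a * z) := by group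
      _ = q i * x * (z * q i) * (a * z) := by rw [← hxz]; group
      _ = q i * (x * q i) * z * (a * z) := by rw [← hqz]; group
      _ = (q i * q i) * x * z * (a * z) := by rw [hqx]; group
      _ = x * (z * (a * z)) := by rw [B.qq]; group
      _ = x * a := by rw [hza, ← mul_assoc z z a, hzz, one_mul]
  rw [S.ses, h2] at h1
  exact p.la.z_ne (mul_eq_left.1 h1)

theorem mul_z (hx : XAct p φ e h q i x) (B : Bas p φ e h q) : XAct p φ e h q i (x * z) := by
  have key : ∀ {g}, g ∈ Q → (x * z) * g * (x * z)⁻¹ = x * g * x⁻¹ := by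
    intro g hg
    rw [cj2, conj_of_comm (p.lz.comm_z g hg).symm]
  refine ⟨?_, ?_, ?_, ?_, ?_, ?_, ?_, ?_⟩
  · intro g n hg; rw [key hg.mem]; exact hx.cd g n hg
  · rw [key p.lz.z_mem]; exact hx.fz
  · rw [key p.a_mem]; exact hx.fa
  · rw [key (B.h_cd i).mem]; exact hx.fh
  · intro j hj; rw [key (B.h_cd j).mem]; exact hx.fh' j hj
  · rw [key B.e_cd.mem]; exact hx.fe
  · rw [key (B.q_cd i).mem]; exact hx.fq
  · intro j hj; rw [key (B.q_cd j).mem]; exact hx.fq' j hj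

/-- The `x i` with `s (x i) s⁻¹ = q i`. -/
theorem exists_xs [Finite G] (B : Bas p φ e h q) (hc : IsConf p φ confOplus) (S : Start p φ e s d)
    (hs : ∀ j, s * h j = h j * s) :
    ∃ x : Fin 3 → G, (∀ i, x i ∈ A) ∧ (∀ i, XAct p φ e h q i (x i)) ∧ ∀ i, s * x i * s⁻¹ = q i := by
  choose x0 hx0A hx0 using fun i => exists_x B hc i
  have main : ∀ i, ∃ x, x ∈ A ∧ XAct p φ e h q i x ∧ s * x * s⁻¹ = q i := by
    intro i
    obtain ⟨r, hr, hcd⟩ := y_code B S hs (hx0 i) (hx0A i)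
    obtain ⟨h1, h2⟩ := v_mem B hc hr hcd
    -- `x_j` centralises `v`
    have h3 : ∀ j, j ≠ i → ap (Xm j) r = r := by
      intro j hj
      have h4 := c2 B hc S hs (hx0 i) (hx0A i) (hx0 j) (hx0A j) hj.symm
      have h5 : x0 j * (q i * (s * x0 i * s⁻¹)) * (x0 j)⁻¹ = q i * (s * x0 i * s⁻¹) := by
        rw [cjm, h4, (hx0 j).fq' i hj.symm, thd_comm j i]
        obtain ⟨-, -, -, f4⟩ := y_facts S hs (hx0 i) (hx0A i)
        have f5 := comm_of_conj (f4 (thd i j) (thd_ne hj.symm).1)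
        calc q i * h (thd i j) * (s * x0 i * s⁻¹ * h (thd i j))
            = q i * h (thd i j) * (h (thd i j) * (s * x0 i * s⁻¹)) := by rw [f5]
          _ = q i * (h (thd i j) * h (thd i j)) * (s * x0 i * s⁻¹) := by group
          _ = _ := by rw [B.hh, mul_one]
      have h6 := (hx0 j).cd _ _ h1
      rw [h5] at h6
      have key : ∀ j : Fin 3, ∀ r < 16, ap (Xm j) r < 256 := by decide +kernel
      exact Cd.inj (key j r hr) (by omega) h6 h1
    have h4 : qs (vec (2 ^ (i.1 + 5) ^^^ r)) = 0 := by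
      apply hcd.q_of_sq
      have := XAct.sq B (hx0 i) (hx0A i)
      calc s * x0 i * s⁻¹ * (s * x0 i * s⁻¹) = s * (x0 i * x0 i) * s⁻¹ := by group
        _ = 1 := by rw [this]; group
    have key : ∀ i : Fin 3, ∀ r < 16, (∀ j : Fin 3, j ≠ i → ap (Xm j) r = r) →
        qs (vec (2 ^ (i.1 + 5) ^^^ r)) = 0 → r = 0 ∨ r = 1 := by decide +kernel
    have hv : s * x0 i * s⁻¹ = q i * (q i * (s * x0 i * s⁻¹)) := by rw [← mul_assoc, B.qq, one_mul]
    have hzA : x0 i * z ∈ A := A.mul_mem (hx0A i) p.z_mem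
    have hsz : s * (x0 i * z) * s⁻¹ = (s * x0 i * s⁻¹) * a := by rw [cjm, S.sz]
    rcases key i r hr h3 h4 with h5 | h5
    · rw [h5] at h1
      rcases h1.eq_or_zero with h6 | h6
      · rw [h6, mul_one] at hv
        exact ⟨x0 i, hx0A i, hx0 i, hv⟩
      · rw [h6] at hv
        exact absurd (not_z B S (hx0 i) (hx0A i) hv) id
    · rw [h5] at h1
      rcases h1.eq_or B.a_cd with h6 | h6
      · rw [h6] at hv
        exact ⟨x0 i * z, hzA, mul_z (hx0 i) B, by rw [hsz, hv, mul_assoc, p.la.z_sq, mul_one]⟩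
      · rw [h6] at hv
        refine absurd (not_z B S (mul_z (hx0 i) B) hzA ?_) id
        rw [hsz, hv, p.comm_za]
        calc q i * (z * a) * a = q i * z * (a * a) := by group
          _ = q i * z := by rw [p.la.z_sq, mul_one]
  choose x h1 h2 h3 using main
  exact ⟨x, h1, h2, h3⟩

end

end Cfsg.Agent.TypeO8Plus.LocalC
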