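import Cfsg.Agent.TypeO8Plus.Frame

/-!
# `Ω₈⁺(2)`: the frame without the relation `(s wᵢ)³ = 1` (helper260)
-/

set_option autoImplicit false

namespace Cfsg.Agent.TypeO8Plus

open Cfsg.Agent.Co2Type.Quad Cfsg.Agent.LargeExtra.Base Cfsg.Agent.LargeExtra.Nine

variable {G : Type*} [Group G]

/-- All of `WeylRel` except `sw`. -/
structure PreWeyl (E : El G) : Prop where
  ss : E.s * E.s = 1
  xx : ∀ i, E.x i * E.x i = 1
  ww : ∀ i, E.w i * E.w i = 1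
  se : E.s * E.e * E.s = E.e * E.s * E.e
  xw : ∀ i, E.x i * E.w i * E.x i = E.w i * E.x i * E.w i
  xx' : ∀ i j, E.x i * E.x j = E.x j * E.x i
  xw' : ∀ i j, i ≠ j → E.x i * E.w j = E.w j * E.x i
  ww' : ∀ i j, E.w i * E.w j = E.w j * E.w i

/-- `Frame` without `(s wᵢ)³ = 1`. -/
structure PreFrame {Q A : Subgroup G} {z a : G} (p : Pair Q z A a) (φ : Coord p.lz) (E : El G) : Prop where
  z : E.z = z
  a : E.a = a
  h_mem : ∀ i, E.h i ∈ Q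
  e_mem : E.e ∈ Q
  p_mem : ∀ i, E.p i ∈ Q
  h_code : ∀ i : Fin 3, φ.e (p.lz.pr ⟨E.h i, h_mem i⟩) = vec (2 ^ (i.1 + 1))
  e_code : φ.e (p.lz.pr ⟨E.e, e_mem⟩) = vec 16
  p_code : ∀ i : Fin 3, φ.e (p.lz.pr ⟨E.p i, p_mem i⟩) = vec (2 ^ (i.1 + 5))
  x_mem : ∀ i, E.x i ∈ A
  Q_rel : QRel E
  X_rel : XRel E
  W_rel : WRel E
  S_rel : SRel E
  weyl : PreWeyl E

theorem PreFrame.frame {Q A : Subgroup G} {z a : G} {p : Pair Q z A a} {φ : Coord p.lz} {E : El G}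
    (F : PreFrame p φ E) (h : ∀ i, E.s * E.w i * E.s = E.w i * E.s * E.w i) : Frame p φ E where
  z := F.z
  a := F.a
  h_mem := F.h_mem
  e_mem := F.e_mem
  p_mem := F.p_mem
  h_code := F.h_code
  e_code := F.e_code
  p_code := F.p_code
  x_mem := F.x_mem
  Q_rel := F.Q_rel
  X_rel := F.X_rel
  W_rel := F.W_rel
  S_rel := F.S_rel
  weyl :=
    { ss := F.weyl.ss, xx := F.weyl.xx, ww := F.weyl.ww, se := F.weyl.se, xw := F.weyl.xw, sw := h,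
      xx' := F.weyl.xx', xw' := F.weyl.xw', ww' := F.weyl.ww' }

end Cfsg.Agent.TypeO8Plus
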