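import Cfsg.Agent.TypeO8Plus.LocalC
import Cfsg.Agent.TypeO8Plus.PreFrame

/-!
# `Ω₈⁺(2)`: the local analysis, fourth part (helper260)

The elements `w i`, and the existence of a frame without the relation `(s wᵢ)³ = 1`.
-/

set_option autoImplicit false

namespace Cfsg.Agent.TypeO8Plus.LocalD

open Cfsg.Agent.Co2Type.Quad Cfsg.Agent.LargeExtra.Base Cfsg.Agent.LargeExtra.Nine
open Cfsg.Agent.LargeExtra.KillNine.Codes Cfsg.Agent.TypeO8Plus.Code Cfsg.Agent.TypeO8Plus.LocalA
open Cfsg.Agent.TypeO8Plus.LocalB Cfsg.Agent.TypeO8Plus.LocalC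

variable {G : Type*} [Group G] {Q A : Subgroup G} {z a : G}

theorem cube_mul {u z : G} (hz : z * z = 1) (h : u * z = z * u) : (u * z) * (u * z) * (u * z) = u * u * u * z := by
  have h1 : (u * z) * (u * z) * (u * z) = (u * z) ^ 3 := by rw [pow_succ, pow_two]
  have h2 : z ^ 3 = z := by rw [pow_succ, pow_two, hz, one_mul]
  have h3 : u ^ 3 = u * u * u := by rw [pow_succ, pow_two]
  rw [h1, (show Commute u z from h).mul_pow, h2, h3]

/-- matrices `N` of the configuration -/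
def Nm (i : Fin 3) : List ℕ :=
  ![[3,2,132,72,16,48,64,128], [5,130,4,40,16,32,80,128], [9,66,36,8,16,32,64,144]] i

/-- matrices of the swaps -/
def Wm (i : Fin 3) : List ℕ :=
  ![[2,1,128,64,32,16,8,4], [4,128,1,32,64,8,16,2], [8,64,32,1,128,4,2,16]] i

theorem prod_Wm (i : Fin 3) : prodL [Xm i, Nm i, Xm i] = Wm i := by
  revert i; decide +kernel

/-- `w` acts on `Q` as the `i`-th swap -/
structure WAct (p : Pair Q z A a) (φ : Coord p.lz) (e : G) (h q : Fin 3 → G) (i : Fin 3) (w : G) : Prop where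
  fz : w * z * w⁻¹ = z
  fa : w * a * w⁻¹ = h i
  fh : w * h i * w⁻¹ = a
  fh' : ∀ j, j ≠ i → w * h j * w⁻¹ = q (thd i j)
  fe : w * e * w⁻¹ = q i
  fq : w * q i * w⁻¹ = e
  fq' : ∀ j, j ≠ i → w * q j * w⁻¹ = h (thd i j)

theorem thd_thd : ∀ {i j : Fin 3}, i ≠ j → thd i (thd i j) = j := by decide

theorem thd_thd' : ∀ {i j : Fin 3}, i ≠ j → thd j (thd i j) = i := by decide

theorem cases3 : ∀ {i j : Fin 3}, i ≠ j → ∀ l, l = i ∨ l = j ∨ l = thd i j := by decide

section

variable {p : Pair Q z A a} {φ : Coord p.lz} {e s d : G} {h q : Fin 3 → G} {i j : Fin 3} {x y w w' : G}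

/-- the generators -/
def gg (a e : G) (h q : Fin 3 → G) : Bool × Option (Fin 3) → G
  | (false, none) => a
  | (false, some j) => h j
  | (true, none) => e
  | (true, some j) => q j

/-- the targets -/
def tt (a e : G) (h q : Fin 3 → G) (i : Fin 3) : Bool × Option (Fin 3) → G
  | (false, none) => h i
  | (false, some j) => if j = i then a else q (thd i j)
  | (true, none) => q i
  | (true, some j) => if j = i then e else h (thd i j)

theorem exists_w [Finite G] (B : Bas p φ e h q) (hc : IsConf p φ confOplus) (i : Fin 3) :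
    ∃ w, WAct p φ e h q i w := by
  have hW : In φ p.H (Wm i) := by
    rw [← prod_Wm i]
    apply In.prod
    intro L hL
    simp only [List.mem_cons, List.not_mem_nil, or_false] at hL
    have hX : In φ p.H (Xm i) := by
      have : ∀ i, Xm i ∈ confOplus.X := by decide
      obtain ⟨f, hf, hf'⟩ := hc.X _ (this i)
      exact ⟨f, p.X_le_H hf, hf'⟩
    have hN : In φ p.H (Nm i) := by
      have : ∀ i, Nm i ∈ confOplus.N := by decide
      exact hc.N _ (this i)
    rcases hL with rfl | rfl | rfl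
    · exact hX
    · exact hN
    · exact hX
  obtain ⟨f, ⟨c, rfl⟩, hfa⟩ := hW
  have hcz : (c : G) * z = z * c := Subgroup.mem_centralizer_singleton_iff.1 c.2
  obtain ⟨u, hu, hu2⟩ := exists_adjust (ι := Bool × Option (Fin 3)) Q (c : G) z
    (gg a e h q) (tt a e h q i) (fun m => gg a e h q (!m.1, m.2)) p.lz.z_sq
    (by
      rintro ⟨_ | _, _ | j⟩
      · exact B.e_cd.mem
      · exact (B.q_cd j).mem
      · exact p.a_mem
      · exact (B.h_cd j).mem)
    p.lz.comm_z hcz
    (by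
      rintro ⟨_ | _, _ | j⟩
      · exact conj_of_ncomm p.lz B.e_cd.mem B.ea
      · exact conj_of_ncomm p.lz (B.q_cd j).mem (B.qh j)
      · exact conj_of_ncomm p.lz p.a_mem B.ae
      · exact conj_of_ncomm p.lz (B.h_cd j).mem (B.hqi j))
    (by
      rintro ⟨_ | _, _ | j⟩ ⟨_ | _, _ | l⟩ hlm
      · exact absurd rfl hlm
      · exact conj_of_comm (B.eh l)
      · exact conj_of_comm rfl
      · exact conj_of_comm (B.eq l)
      · exact conj_of_comm (B.aq j).symm
      · exact conj_of_comm (B.hq (fun hh => hlm (by rw [hh]))).symm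
      · exact conj_of_comm (B.eq j).symm
      · exact conj_of_comm (B.qq' j l)
      · exact conj_of_comm rfl
      · exact conj_of_comm (B.ah l)
      · exact absurd rfl hlm
      · exact conj_of_comm (B.aq l)
      · exact conj_of_comm (B.ah j).symm
      · exact conj_of_comm (B.hh' j l)
      · exact conj_of_comm (B.eh j).symm
      · exact conj_of_comm (B.hq (fun hh => hlm (by rw [hh]))))
    (by
      rintro ⟨_ | _, _ | j⟩
      · refine Cd.eq_or (B.a_cd.conj hfa) ((B.h_cd i).congr ?_)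
        have key : ∀ i : Fin 3, 2 ^ (i.1 + 1) = ap (Wm i) 1 := by decide
        exact key i
      · show (c : G) * h j * (c : G)⁻¹ = (if j = i then a else q (thd i j)) ∨
          (c : G) * h j * (c : G)⁻¹ = (if j = i then a else q (thd i j)) * z
        refine Cd.eq_or ((B.h_cd j).conj hfa) ?_
        split_ifs with hji
        · refine B.a_cd.congr ?_
          have key : ∀ i : Fin 3, 1 = ap (Wm i) (2 ^ (i.1 + 1)) := by decide
          rw [hji]; exact key i
        · refine (B.q_cd _).congr ?_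
          have key : ∀ i j : Fin 3, j ≠ i → 2 ^ ((thd i j).1 + 5) = ap (Wm i) (2 ^ (j.1 + 1)) := by
            decide
          exact key i j hji
      · refine Cd.eq_or (B.e_cd.conj hfa) ((B.q_cd i).congr ?_)
        have key : ∀ i : Fin 3, 2 ^ (i.1 + 5) = ap (Wm i) 16 := by decide
        exact key i
      · show (c : G) * q j * (c : G)⁻¹ = (if j = i then e else h (thd i j)) ∨
          (c : G) * q j * (c : G)⁻¹ = (if j = i then e else h (thd i j)) * z
        refine Cd.eq_or ((B.q_cd j).conj hfa) ?_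
        split_ifs with hji
        · refine B.e_cd.congr ?_
          have key : ∀ i : Fin 3, 16 = ap (Wm i) (2 ^ (i.1 + 5)) := by decide
          rw [hji]; exact key i
        · refine (B.h_cd _).congr ?_
          have key : ∀ i j : Fin 3, j ≠ i → 2 ^ ((thd i j).1 + 1) = ap (Wm i) (2 ^ (j.1 + 5)) := by
            decide
          exact key i j hji)
  refine ⟨(c : G) * u, ?_, ?_, ?_, ?_, ?_, ?_, ?_⟩
  · rw [cj2, conj_of_comm (p.lz.comm_z u hu), conj_of_comm hcz]
  · exact hu2 (false, none)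
  · have := hu2 (false, some i)
    simpa [gg, tt] using this
  · intro j hj
    have := hu2 (false, some j)
    simpa [gg, tt, hj] using this
  · exact hu2 (true, none)
  · have := hu2 (true, some i)
    simpa [gg, tt] using this
  · intro j hj
    have := hu2 (true, some j)
    simpa [gg, tt, hj] using this

theorem wmul_z (hw : WAct p φ e h q i w) (B : Bas p φ e h q) : WAct p φ e h q i (w * z) := by
  have key : ∀ {g}, g ∈ Q → (w * z) * g * (w * z)⁻¹ = w * g * w⁻¹ := by
    intro g hg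
    rw [cj2, conj_of_comm (p.lz.comm_z g hg).symm]
  refine ⟨?_, ?_, ?_, ?_, ?_, ?_, ?_⟩
  · rw [key p.lz.z_mem]; exact hw.fz
  · rw [key p.a_mem]; exact hw.fa
  · rw [key (B.h_cd i).mem]; exact hw.fh
  · intro j hj; rw [key (B.h_cd j).mem]; exact hw.fh' j hj
  · rw [key B.e_cd.mem]; exact hw.fe
  · rw [key (B.q_cd i).mem]; exact hw.fq
  · intro j hj; rw [key (B.q_cd j).mem]; exact hw.fq' j hj

theorem cj3 (w g : G) : (w * w * w) * g * (w * w * w)⁻¹ = w * (w * (w * g * w⁻¹) * w⁻¹) * w⁻¹ := by group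

theorem thd_ne' : ∀ {i j : Fin 3}, j ≠ i → thd i j ≠ i := by decide

/-- `(x w)³ ∈ ⟨z⟩` -/
theorem cube [Finite G] (B : Bas p φ e h q) (hx : XAct p φ e h q i x) (hw : WAct p φ e h q i w) :
    (x * w) * (x * w) * (x * w) = 1 ∨ (x * w) * (x * w) * (x * w) = z := by
  obtain ⟨ω, hω⟩ : ∃ ω, ω = x * w := ⟨_, rfl⟩
  have fz : ω * z * ω⁻¹ = z := by rw [hω, cj2, hw.fz, hx.fz]
  have fa : ω * a * ω⁻¹ = h i * a := by rw [hω, cj2, hw.fa, hx.fh]
  have fh : ω * h i * ω⁻¹ = a := by rw [hω, cj2, hw.fh, hx.fa]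
  have fh' : ∀ j, j ≠ i → ω * h j * ω⁻¹ = q (thd i j) * h j := by
    intro j hj
    rw [hω, cj2, hw.fh' j hj, hx.fq' _ (thd_ne' hj), thd_thd hj.symm]
  have fe : ω * e * ω⁻¹ = q i := by rw [hω, cj2, hw.fe, hx.fq]
  have fq : ω * q i * ω⁻¹ = e * q i := by rw [hω, cj2, hw.fq, hx.fe]
  have fq' : ∀ j, j ≠ i → ω * q j * ω⁻¹ = h (thd i j) := by
    intro j hj
    rw [hω, cj2, hw.fq' j hj, hx.fh' _ (thd_ne' hj)]
  rw [← hω]
  have e1 : ω * (h i * a) * ω⁻¹ = h i := by
    rw [cjm ω (h i) a, fh, fa, ← mul_assoc, B.ah, mul_assoc, p.la.z_sq, mul_one]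
  have e2 : ω * (e * q i) * ω⁻¹ = e := by
    rw [cjm ω e (q i), fe, fq, ← mul_assoc, ← B.eq, mul_assoc, B.qq, mul_one]
  have e3 : ∀ j, j ≠ i → ω * (q (thd i j) * h j) * ω⁻¹ = q (thd i j) := by
    intro j hj
    rw [cjm ω (q (thd i j)) (h j), fq' _ (thd_ne' hj), fh' j hj, thd_thd hj.symm,
      ← B.hq (thd_ne hj.symm).2.symm, ← mul_assoc, B.hh, one_mul]
  refine B.eq_one_or ?_ ?_ ?_ ?_ ?_
  · apply comm_of_conj
    rw [cj3, fz, fz, fz]
  · rw [cj3, fa, e1, fh]
  · intro j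
    by_cases hj : j = i
    · rw [hj, cj3, fh, fa, e1]
    · rw [cj3, fh' j hj, e3 j hj, fq' _ (thd_ne' hj), thd_thd (Ne.symm hj)]
  · rw [cj3, fe, fq, e2]
  · intro j
    by_cases hj : j = i
    · rw [hj, cj3, fq, e2, fe]
    · rw [cj3, fq' j hj, fh' _ (thd_ne' hj), thd_thd (Ne.symm hj)]
      have := e3 _ (thd_ne' hj)
      rw [thd_thd (Ne.symm hj)] at this
      exact this

theorem w_sq [Finite G] (B : Bas p φ e h q) (hx : XAct p φ e h q i x) (hxx : x * x = 1)
    (hw : WAct p φ e h q i w) (h3 : (x * w) * (x * w) * (x * w) = 1) : w * w = 1 := by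
  have h1 : w * w = 1 ∨ w * w = z := by
    refine B.eq_one_or ?_ ?_ ?_ ?_ ?_
    · apply comm_of_conj; rw [cj2, hw.fz, hw.fz]
    · rw [cj2, hw.fa, hw.fh]
    · intro j
      by_cases hj : j = i
      · rw [hj, cj2, hw.fh, hw.fa]
      · rw [cj2, hw.fh' j hj, hw.fq' _ (thd_ne' hj), thd_thd (Ne.symm hj)]
    · rw [cj2, hw.fe, hw.fq]
    · intro j
      by_cases hj : j = i
      · rw [hj, cj2, hw.fq, hw.fe]
      · rw [cj2, hw.fq' j hj, hw.fh' _ (thd_ne' hj), thd_thd (Ne.symm hj)]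
  rcases h1 with h1 | h1
  · exact h1
  · exfalso
    obtain ⟨ω, hω⟩ : ∃ ω, ω = x * w := ⟨_, rfl⟩
    rw [← hω] at h3
    have hωz : ω * z = z * ω := comm_of_conj (by rw [hω, cj2, hw.fz, hx.fz])
    have hωz' : ω⁻¹ * z = z * ω⁻¹ := by
      rw [inv_mul_eq_iff_eq_mul, ← mul_assoc, hωz, mul_assoc, mul_inv_cancel, mul_one]
    have e1 : x * ω * x = z * ω⁻¹ := by
      have : x * ω * x * ω = z := by
        rw [hω, ← mul_assoc x x w, hxx, one_mul]
        calc w * x * (x * w) = w * (x * x) * w := by group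
          _ = z := by rw [hxx, mul_one, h1]
      rw [← this, mul_inv_cancel_right]
    have e2 : (x * ω * x) * (x * ω * x) * (x * ω * x) = 1 := by
      calc (x * ω * x) * (x * ω * x) * (x * ω * x) = x * ω * (x * x) * ω * (x * x) * ω * x := by group
        _ = x * (ω * ω * ω) * x := by rw [hxx]; group
        _ = 1 := by rw [h3, mul_one, hxx]
    rw [e1] at e2
    have e3 : z * ω⁻¹ * (z * ω⁻¹) * (z * ω⁻¹) = z := by
      rw [← hωz', cube_mul p.lz.z_sq hωz']
      calc ω⁻¹ * ω⁻¹ * ω⁻¹ * z = (ω * ω * ω)⁻¹ * z := by group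
        _ = z := by rw [h3]; group
    rw [e3] at e2
    exact p.lz.z_ne e2

theorem braid_of_cube {x w : G} (hxx : x * x = 1) (hww : w * w = 1)
    (h3 : (x * w) * (x * w) * (x * w) = 1) : x * w * x = w * x * w := by
  have h1 : (x * w * x) * (w * x * w) = 1 := by rw [← h3]; group
  have h2 : (w * x * w) * (w * x * w) = 1 := by
    calc (w * x * w) * (w * x * w) = w * x * (w * w) * x * w := by group
      _ = w * (x * x) * w := by rw [hww]; group
      _ = 1 := by rw [hxx, mul_one, hww]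
  calc x * w * x = (x * w * x) * ((w * x * w) * (w * x * w)) := by rw [h2, mul_one]
    _ = ((x * w * x) * (w * x * w)) * (w * x * w) := by group
    _ = _ := by rw [h1, one_mul]

/-- an element of order three commuting up to `z` commutes -/
theorem comm_of_cube {ω c z : G} (hz : z * z = 1) (hzω : ω * z = z * ω) (h3 : ω * ω * ω = 1)
    (hc : c * ω * c⁻¹ = ω ∨ c * ω * c⁻¹ = ω * z) (hne : z ≠ 1) : c * ω * c⁻¹ = ω := by
  rcases hc with h1 | h1
  · exact h1
  · exfalso
    have h2 : (c * ω * c⁻¹) * (c * ω * c⁻¹) * (c * ω * c⁻¹) = 1 := by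
      calc (c * ω * c⁻¹) * (c * ω * c⁻¹) * (c * ω * c⁻¹) = c * (ω * ω * ω) * c⁻¹ := by group
        _ = 1 := by rw [h3]; group
    rw [h1] at h2
    have h4 : ω * z * (ω * z) * (ω * z) = z := by
      rw [cube_mul hz hzω, h3, one_mul]
    exact hne (h4.symm.trans h2)

/-- `w_i`, `x_j` commute up to `z` -/
theorem wx_or [Finite G] (B : Bas p φ e h q) (hw : WAct p φ e h q i w) (hy : XAct p φ e h q j y) (hij : i ≠ j) :
    w * y = y * w ∨ w * y = y * w * z := by
  have hji := hij.symm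
  have n1 := (thd_ne hij).1
  have n2 := (thd_ne hij).2
  have t1 := thd_thd hij
  have t2 := thd_thd' hij
  have t3 := thd_comm j i
  refine B.eq_or ?_ ?_ ?_ ?_ ?_ ?_
  · apply comm_of_conj; rw [cj2, hy.fz, hw.fz]
  · apply comm_of_conj; rw [cj2, hw.fz, hy.fz]
  · rw [cj2, hy.fa, hw.fa, cj2, hw.fa, hy.fh' i hij]
  · intro l
    rcases cases3 hij l with rfl | rfl | rfl
    · rw [cj2, hy.fh' _ hij, hw.fh, cj2, hw.fh, hy.fa]
    · rw [cj2, hy.fh, cjm w _ a, hw.fh' _ hji, hw.fa, cj2, hw.fh' _ hji, hy.fq' _ n2, t2]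
    · rw [cj2, hy.fh' _ n2, hw.fh' _ n1, t1, cj2, hw.fh' _ n1, t1, hy.fq]
  · rw [cj2, hy.fe, cjm w e _, hw.fe, hw.fq' j hji, cj2, hw.fe, hy.fq' i hij, t3]
  · intro l
    rcases cases3 hij l with rfl | rfl | rfl
    · rw [cj2, hy.fq' _ hij, t3, cjm w _ _, hw.fq, hw.fh' _ n1, t1, cj2, hw.fq, hy.fe]
    · rw [cj2, hy.fq, hw.fq' _ hji, cj2, hw.fq' _ hji, hy.fh' _ n2]
    · rw [cj2, hy.fq' _ n2, t2, cjm w _ _, hw.fq' _ n1, t1, hw.fh, cj2, hw.fq' _ n1, t1, hy.fh]

theorem ww_or [Finite G] (B : Bas p φ e h q) (hw : WAct p φ e h q i w) (hw' : WAct p φ e h q j w') (hij : i ≠ j) :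
    w * w' = w' * w ∨ w * w' = w' * w * z := by
  have hji := hij.symm
  have n1 := (thd_ne hij).1
  have n2 := (thd_ne hij).2
  have t1 := thd_thd hij
  have t2 := thd_thd' hij
  have t3 := thd_comm j i
  refine B.eq_or ?_ ?_ ?_ ?_ ?_ ?_
  · apply comm_of_conj; rw [cj2, hw'.fz, hw.fz]
  · apply comm_of_conj; rw [cj2, hw.fz, hw'.fz]
  · rw [cj2, hw'.fa, hw.fh' j hji, cj2, hw.fa, hw'.fh' i hij, t3]
  · intro l
    rcases cases3 hij l with rfl | rfl | rfl
    · rw [cj2, hw'.fh' _ hij, t3, hw.fq' _ n1, t1, cj2, hw.fh, hw'.fa]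
    · rw [cj2, hw'.fh, hw.fa, cj2, hw.fh' _ hji, hw'.fq' _ n2, t2]
    · rw [cj2, hw'.fh' _ n2, t2, hw.fq, cj2, hw.fh' _ n1, t1, hw'.fq]
  · rw [cj2, hw'.fe, hw.fq' j hji, cj2, hw.fe, hw'.fq' i hij, t3]
  · intro l
    rcases cases3 hij l with rfl | rfl | rfl
    · rw [cj2, hw'.fq' _ hij, t3, hw.fh' _ n1, t1, cj2, hw.fq, hw'.fe]
    · rw [cj2, hw'.fq, hw.fe, cj2, hw.fq' _ hji, hw'.fh' _ n2, t2]
    · rw [cj2, hw'.fq' _ n2, t2, hw.fh, cj2, hw.fq' _ n1, t1, hw'.fh]

/-! ### assembly -/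

/-- all `x i`, `w i` -/
theorem exists_ws [Finite G] (B : Bas p φ e h q) (hc : IsConf p φ confOplus) {x : Fin 3 → G}
    (hxA : ∀ i, x i ∈ A) (hx : ∀ i, XAct p φ e h q i (x i)) :
    ∃ w : Fin 3 → G, (∀ i, WAct p φ e h q i (w i)) ∧ (∀ i, w i * w i = 1) ∧
      (∀ i, x i * w i * x i = w i * x i * w i) ∧ (∀ i j, i ≠ j → x i * w j = w j * x i) ∧
      ∀ i j, w i * w j = w j * w i := by
  have hxx : ∀ i, x i * x i = 1 := fun i => XAct.sq B (hx i) (hxA i)
  have main : ∀ i, ∃ w, WAct p φ e h q i w ∧ (x i * w) * (x i * w) * (x i * w) = 1 := by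
    intro i
    obtain ⟨w, hw⟩ := exists_w B hc i
    rcases cube B (hx i) hw with h1 | h1
    · exact ⟨w, hw, h1⟩
    · refine ⟨w * z, wmul_z hw B, ?_⟩
      have h2 : (x i * w) * z = z * (x i * w) := comm_of_conj (by rw [cj2, hw.fz, (hx i).fz])
      rw [show x i * (w * z) = x i * w * z from (mul_assoc _ _ _).symm, cube_mul p.lz.z_sq h2, h1, p.lz.z_sq]
  choose w hw h3 using main
  have hww : ∀ i, w i * w i = 1 := fun i => w_sq B (hx i) (hxx i) (hw i) (h3 i)
  have hωz : ∀ i, (x i * w i) * z = z * (x i * w i) := fun i =>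
    comm_of_conj (by rw [cj2, (hw i).fz, (hx i).fz])
  -- `x j` and `w i`
  have hxw : ∀ i j, i ≠ j → x j * w i = w i * x j := by
    intro i j hij
    have h1 := wx_or B (hw i) (hx j) hij
    have h2 : x j * (x i * w i) * (x j)⁻¹ = x i * w i ∨ x j * (x i * w i) * (x j)⁻¹ = x i * w i * z := by
      have e1 : x j * x i * (x j)⁻¹ = x i := conj_of_comm (XAct.comm B (hx j) (hx i) (hxA j) (hxA i) hij.symm)
      have hxz : x j * z = z * x j := comm_of_conj (hx j).fz
      have hwz : w i * z = z * w i := comm_of_conj (hw i).fz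
      rw [cjm, e1]
      rcases h1 with h1 | h1
      · left; rw [conj_of_comm h1.symm]
      · right
        have : x j * w i = w i * x j * z := by
          rw [h1, mul_assoc (x j * w i), p.lz.z_sq, mul_one]
        rw [this, mul_assoc (w i), hxz]
        group
    have h4 := comm_of_cube p.lz.z_sq (hωz i) (h3 i) h2 p.lz.z_ne
    have e1 : x j * x i * (x j)⁻¹ = x i := conj_of_comm (XAct.comm B (hx j) (hx i) (hxA j) (hxA i) hij.symm)
    rw [cjm, e1] at h4
    exact comm_of_conj (mul_left_cancel h4)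
  refine ⟨w, hw, hww, fun i => braid_of_cube (hxx i) (hww i) (h3 i), fun i j hij => hxw j i hij.symm, ?_⟩
  intro i j
  by_cases hij : i = j
  · rw [hij]
  · have h1 := ww_or B (hw i) (hw j) hij
    have hwz : ∀ i, w i * z = z * w i := fun i => comm_of_conj (hw i).fz
    have e1 : w j * x i * (w j)⁻¹ = x i := conj_of_comm (hxw j i (Ne.symm hij)).symm
    have h2 : w j * (x i * w i) * (w j)⁻¹ = x i * w i ∨ w j * (x i * w i) * (w j)⁻¹ = x i * w i * z := by
      rw [cjm, e1]
      rcases h1 with h1 | h1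
      · left; rw [conj_of_comm h1.symm]
      · right
        have : w j * w i = w i * w j * z := by
          rw [h1, mul_assoc (w j * w i), p.lz.z_sq, mul_one]
        rw [this, mul_assoc (w i), hwz j]
        group
    have h4 := comm_of_cube p.lz.z_sq (hωz i) (h3 i) h2 p.lz.z_ne
    rw [cjm, e1] at h4
    exact (comm_of_conj (mul_left_cancel h4)).symm

end

end Cfsg.Agent.TypeO8Plus.LocalD
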